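/-
Linear algebra for the commutant of a cyclic extension of a full matrix algebra.
-/
import Mathlib

set_option autoImplicit false
set_option linter.unusedSectionVars false
set_option linter.style.haveILetI false

namespace Cfsg.Agent.Lib.DefectTwist

open Finset

variable {k : Type*} [Field k]

open Polynomial in
/-- A matrix with a scalar power and nonzero trace has a multiple of finite order. -/
theorem exists_scale {N : ℕ} {ω : k} (hω : IsPrimitiveRoot ω N) (hN : N ≠ 0) {n : Type*}
    [Fintype n] [DecidableEq n] (U : Matrix n n k) {l : k} (hl : l ≠ 0) (hU : U ^ N = l • 1)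
    (htr : Matrix.trace U ≠ 0) : ∃ c : k, (c • U) ^ N = 1 := by
  classical
  haveI : NeZero N := ⟨hN⟩
  let K := AlgebraicClosure k
  let f : k →+* K := algebraMap k K
  obtain ⟨c, hc⟩ := IsAlgClosed.exists_pow_nat_eq (f l⁻¹) (Nat.pos_of_ne_zero hN)
  let A : Matrix n n K := c • U.map f
  have hA : A ^ N = 1 := by
    show (c • (RingHom.mapMatrix f) U) ^ N = 1
    rw [_root_.smul_pow, ← map_pow, hU, hc]
    ext i j
    simp only [RingHom.mapMatrix_apply, Matrix.map_apply, Matrix.smul_apply, smul_eq_mul, map_mul]
    rw [← mul_assoc, ← map_mul, inv_mul_cancel₀ hl, map_one, one_mul, Matrix.one_apply,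
      Matrix.one_apply]
    split_ifs <;> simp
  have hroot : ∀ ν ∈ A.charpoly.roots, ν ∈ f.fieldRange := by
    intro ν hν
    rw [Polynomial.mem_roots (Matrix.charpoly_monic A).ne_zero,
      ← Matrix.mem_spectrum_iff_isRoot_charpoly] at hν
    have h1 := spectrum.pow_mem_pow A N hν
    rw [hA] at h1
    cases isEmpty_or_nonempty n with
    | inl h => exact absurd (by simp [Matrix.trace]) htr
    | inr h =>
      haveI : Nontrivial (Matrix n n K) := inferInstance
      rw [spectrum.one_eq, Set.mem_singleton_iff] at h1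
      obtain ⟨i, -, rfl⟩ := (hω.map_of_injective f.injective).eq_pow_of_pow_eq_one h1
      exact pow_mem (show f ω ∈ f.fieldRange from ⟨ω, rfl⟩) i
  have htrA : Matrix.trace A ∈ f.fieldRange := by
    rw [Matrix.trace_eq_sum_roots_charpoly A]
    exact Subfield.multiset_sum_mem _ _ hroot
  obtain ⟨t, ht⟩ := htrA
  have hcA : Matrix.trace A = c * f (Matrix.trace U) := by
    simp [A, Matrix.trace, Finset.mul_sum]
  refine ⟨t / Matrix.trace U, ?_⟩
  have hcv : f (t / Matrix.trace U) = c := by
    rw [map_div₀, ht, hcA, mul_div_assoc, div_self (by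
      rw [Ne, map_eq_zero]; exact htr), mul_one]
  apply Matrix.map_injective f.injective
  show (RingHom.mapMatrix f) (((t / Matrix.trace U) • U) ^ N) = (RingHom.mapMatrix f) 1
  rw [map_pow, map_one, ← hA]
  congr 1
  ext i j
  simp [A, hcv]

variable {H : Type*} [AddCommGroup H] [Module k H] [FiniteDimensional k H]

/-- An eigenbasis of an endomorphism of finite order. -/
theorem exists_eigenbasis {N : ℕ} {ω : k} (hω : IsPrimitiveRoot ω N) (hNk : (N : k) ≠ 0)
    {u : Module.End k H} (hu : u ^ N = 1) :
    ∃ (ι : Type) (_ : Fintype ι) (b : Module.Basis ι k H) (c : ι → k),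
      ∀ i, u (b i) = c i • b i := by
  classical
  have htop : ⨆ c, u.eigenspace c = ⊤ := by
    rw [eq_top_iff]
    intro v _
    obtain ⟨n, rfl⟩ : ∃ n, N = n + 1 :=
      ⟨N - 1, (Nat.succ_pred_eq_of_ne_zero (fun h => hNk (by rw [h, Nat.cast_zero]))).symm⟩
    let π : ℕ → H := fun j => ∑ i ∈ range (n + 1), ((ω ^ j) ^ i)⁻¹ • (u ^ i) v
    have hπ : ∀ j, π j ∈ u.eigenspace (ω ^ j) := by
      intro j
      rw [Module.End.mem_eigenspace_iff]
      set a := ω ^ j
      have han : a ^ (n + 1) = 1 := by rw [← pow_mul, mul_comm, pow_mul, hω.pow_eq_one, one_pow]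
      have ha0 : a ≠ 0 := fun h => by rw [h, zero_pow (Nat.succ_ne_zero n)] at han; exact zero_ne_one han
      simp only [π, map_sum, map_smul, Finset.smul_sum, smul_smul]
      rw [Finset.sum_range_succ, Finset.sum_range_succ']
      congr 1
      · refine sum_congr rfl fun i _ => ?_
        rw [pow_succ' u, Module.End.mul_apply, pow_succ' a, mul_inv, mul_inv_cancel_left₀ ha0]
      · rw [← Module.End.mul_apply, ← pow_succ', hu, pow_zero, pow_zero, inv_one, mul_one,
          Module.End.one_apply]
        congr 1
        have h1 : a ^ n * a = 1 := by rw [← pow_succ, han]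
        rw [eq_inv_of_mul_eq_one_right h1]
    have hsum : v = (((n + 1 : ℕ) : k)⁻¹) • ∑ j ∈ range (n + 1), π j := by
      simp only [π]
      rw [Finset.sum_comm]
      simp only [← Finset.sum_smul]
      rw [Finset.sum_eq_single 0]
      · simp only [pow_zero, inv_one, sum_const, card_range, nsmul_one, Module.End.one_apply,
          smul_smul, inv_mul_cancel₀ hNk, one_smul]
      · intro i hi hi0
        have hne : (ω ^ i)⁻¹ ≠ 1 := fun h => hω.pow_ne_one_of_pos_of_lt hi0 (mem_range.mp hi)
          (inv_eq_one.mp h)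
        have hz : ∑ j ∈ range (n + 1), ((ω ^ j) ^ i)⁻¹ = 0 := by
          have h2 : ∀ j, ((ω ^ j) ^ i)⁻¹ = ((ω ^ i)⁻¹) ^ j := fun j => by
            rw [inv_pow, ← pow_mul, ← pow_mul, mul_comm]
          simp only [h2]
          rw [geom_sum_eq hne, inv_pow, ← pow_mul, mul_comm, pow_mul, hω.pow_eq_one, one_pow,
            inv_one, sub_self, zero_div]
        rw [hz, zero_smul]
      · simp
    rw [hsum]
    exact Submodule.smul_mem _ _ (Submodule.sum_mem _ fun j _ =>
      Submodule.mem_iSup_of_mem _ (hπ j))
  let I := {c : k // u.eigenspace c ≠ ⊥}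
  have hIfin : Finite I := by
    have := u.eigenspaces_iSupIndep
    exact (WellFoundedGT.finite_ne_bot_of_iSupIndep this).to_subtype
  letI := Fintype.ofFinite I
  have hint : DirectSum.IsInternal (fun c : I => u.eigenspace c.1) := by
    refine (DirectSum.isInternal_submodule_iff_iSupIndep_and_iSup_eq_top _).mpr
      ⟨u.eigenspaces_iSupIndep.comp Subtype.val_injective, ?_⟩
    rw [eq_top_iff, ← htop]
    refine iSup_le fun c => ?_
    by_cases hc : u.eigenspace c = ⊥
    · rw [hc]; exact bot_le
    · exact le_iSup (fun c : I => u.eigenspace c.1) ⟨c, hc⟩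
  let B := hint.collectedBasis fun c : I => Module.finBasis k (u.eigenspace c.1)
  refine ⟨Fin (Module.finrank k H), inferInstance, B.reindex ((Fintype.equivFin _).trans
    (finCongr (Module.finrank_eq_card_basis B).symm)), fun i => ((((Fintype.equivFin _).trans
    (finCongr (Module.finrank_eq_card_basis B).symm)).symm i).1 : k), fun i => ?_⟩
  rw [Module.Basis.reindex_apply, ← Module.End.mem_eigenspace_iff]
  exact hint.collectedBasis_mem _ _

/-- The commutant of a matrix algebra and an element of finite order, modulo a nilpotent. -/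
theorem finrank_le_count {N : ℕ} {ω : k} (hω : IsPrimitiveRoot ω N) (hNk : (N : k) ≠ 0) {d : ℕ}
    (Φ : Matrix (Fin d) (Fin d) k →ₐ[k] Module.End k H) (μ π : Module.End k H)
    (hμΦ : ∀ X, Commute μ (Φ X)) (hμ : μ ^ N = 1) (hπΦ : ∀ X, Commute π (Φ X))
    (hπμ : Commute π μ) (hπ : IsNilpotent π) {n : ℕ} (a : Fin n → Module.End k H)
    (hspan : ∀ h : Module.End k H, (∀ X, Commute h (Φ X)) → Commute h μ →
      ∃ (c : Fin n → k) (h' : Module.End k H), (∀ X, Commute h' (Φ X)) ∧ Commute h' μ ∧
        h = ∑ j, c j • a j + π * h') :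
    Module.finrank k H ≤ d * n := by
  classical
  rcases Nat.eq_zero_or_pos d with rfl | hd
  · have h1 : (1 : Module.End k H) = 0 := by
      rw [← map_one Φ, Subsingleton.elim (1 : Matrix (Fin 0) (Fin 0) k) 0, map_zero]
    haveI : Subsingleton H := ⟨fun x y => by
      rw [← Module.End.one_apply (R := k) x, ← Module.End.one_apply (R := k) y, h1]; rfl⟩
    rw [Module.finrank_zero_of_subsingleton]
    exact Nat.zero_le _
  let i₀ : Fin d := ⟨0, hd⟩
  let e : Fin d → Fin d → Module.End k H := fun i j => Φ (Matrix.single i j 1)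
  have he : ∀ i j l m, e i j * e l m = if j = l then e i m else 0 := by
    intro i j l m
    simp only [e, ← map_mul]
    split_ifs with h
    · subst h; rw [Matrix.single_mul_single_same, mul_one]
    · rw [Matrix.single_mul_single_of_ne _ _ _ _ h, map_zero]
  have he' : ∀ (i j l m : Fin d) (x : H), e i j (e l m x) = if j = l then e i m x else 0 := by
    intro i j l m x
    rw [← Module.End.mul_apply, he]
    split_ifs <;> rfl
  have hone : ∀ x : H, ∑ i, e i i x = x := by
    intro x
    rw [← LinearMap.sum_apply]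
    simp only [e, ← map_sum, Matrix.sum_single_one]
    first | rw [map_one, Module.End.one_apply] | skip
  let Mb : Submodule k H := LinearMap.range (e i₀ i₀)
  have hfix : ∀ x ∈ Mb, e i₀ i₀ x = x := by
    rintro _ ⟨y, rfl⟩
    rw [he', if_pos rfl]
  have hμM : ∀ x ∈ Mb, μ x ∈ Mb := fun x hx => ⟨μ x, by
    rw [← Module.End.mul_apply, ← (hμΦ _).eq, Module.End.mul_apply, hfix x hx]⟩
  let μM : Module.End k Mb := μ.restrict hμM
  have hμMpow : μM ^ N = 1 := by
    rw [Module.End.pow_restrict]
    refine LinearMap.ext fun x => Subtype.ext ?_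
    simp [LinearMap.restrict_apply, hμ]
  obtain ⟨ι, hι, b, c, hb⟩ := exists_eigenbasis hω hNk hμMpow
  have hbμ : ∀ i, μ (b i).1 = c i • (b i).1 := fun i => congrArg Subtype.val (hb i)
  -- complements to the image of `π`
  have hq : ∀ i, ∃ q ∈ Mb, μ q = c i • q ∧
      ∀ y ∈ Mb, μ y = c i • y → π y ≠ q := by
    intro i
    by_contra hcon
    push Not at hcon
    obtain ⟨s, hs⟩ := hπ
    have : ∀ j : ℕ, ∃ y ∈ Mb, μ y = c i • y ∧ (π ^ j) y = (b i).1 := by
      intro j
      induction j with
      | zero => exact ⟨_, (b i).2, hbμ i, rfl⟩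
      | succ j ih =>
        obtain ⟨y, hy, hy', hyj⟩ := ih
        obtain ⟨w, hw, hw', hwy⟩ := hcon y hy hy'
        exact ⟨w, hw, hw', by rw [pow_succ, Module.End.mul_apply, hwy, hyj]⟩
    obtain ⟨y, -, -, hy⟩ := this s
    rw [hs, LinearMap.zero_apply] at hy
    exact b.ne_zero i (Subtype.ext hy.symm)
  choose q hqM hqμ hqπ using hq
  let ei : Fin d → H →ₗ[k] Mb := fun l => (e i₀ l).codRestrict Mb fun x =>
    ⟨e i₀ l x, by rw [he', if_pos rfl]⟩
  have hei : ∀ l x, (ei l x : H) = e i₀ l x := fun l x => rfl
  let g : ι → Module.End k H := fun i =>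
    ∑ l, ((b.coord i) ∘ₗ ei l).smulRight (e l i₀ (q i))
  have hg : ∀ i x, g i x = ∑ l, b.repr (ei l x) i • e l i₀ (q i) := by
    intro i x
    simp only [g, LinearMap.sum_apply]
    rfl
  have hgΦ : ∀ i X, Commute (g i) (Φ X) := by
    intro i X
    have key : ∀ r s, Commute (g i) (e r s) := by
      intro r s
      refine LinearMap.ext fun x => ?_
      rw [Module.End.mul_apply, Module.End.mul_apply, hg, hg, map_sum]
      rw [sum_eq_single r, sum_eq_single s]
      · have h1 : ei r (e r s x) = ei s x := Subtype.ext (by rw [hei, hei, he', if_pos rfl])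
        rw [map_smul, he', if_pos rfl, h1]
      · intro l _ hl
        rw [map_smul, he', if_neg (Ne.symm hl), smul_zero]
      · simp
      · intro l _ hl
        have : ei l (e r s x) = 0 :=
          Subtype.ext (by rw [hei, ZeroMemClass.coe_zero, he', if_neg hl])
        rw [this, map_zero, Finsupp.zero_apply, zero_smul]
      · simp
    rw [Matrix.matrix_eq_sum_single X, map_sum]
    refine Commute.sum_right _ _ _ fun r _ => ?_
    rw [map_sum]
    refine Commute.sum_right _ _ _ fun s _ => ?_
    rw [show Matrix.single r s (X r s) = X r s • Matrix.single r s (1 : k) by simp, map_smul]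
    exact (key r s).smul_right _
  have hgμ : ∀ i, Commute (g i) μ := by
    intro i
    refine LinearMap.ext fun x => ?_
    rw [Module.End.mul_apply, Module.End.mul_apply, hg, hg, map_sum]
    refine sum_congr rfl fun l _ => ?_
    set y : Mb := ei l x
    have h1 : ei l (μ x) = μM y :=
      Subtype.ext (show e i₀ l (μ x) = μ (e i₀ l x) by
        rw [← Module.End.mul_apply, ← Module.End.mul_apply, (hμΦ _).eq])
    have h2 : b.repr (μM y) i = c i * b.repr y i := by
      conv_lhs => rw [← b.sum_repr y, map_sum, map_sum]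
      simp only [map_smul, hb, Finsupp.coe_finsetSum, Finset.sum_apply, Finsupp.smul_apply,
        b.repr_self, Finsupp.single_apply, smul_eq_mul, mul_ite, mul_one, mul_zero]
      rw [sum_ite_eq' univ i, if_pos (mem_univ i), mul_comm]
    rw [h1, h2, map_smul, ← Module.End.mul_apply μ, (hμΦ _).eq, Module.End.mul_apply, hqμ, map_smul,
      smul_smul, mul_comm]
  have hgb : ∀ i j, g i (b j).1 = if i = j then q i else 0 := by
    intro i j
    rw [hg, sum_eq_single i₀]
    · have : ei i₀ (b j).1 = b j := Subtype.ext (hfix _ (b j).2)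
      rw [this, b.repr_self, Finsupp.single_apply, hfix _ (hqM i)]
      by_cases h : i = j
      · rw [if_pos h, if_pos h.symm, one_smul]
      · rw [if_neg h, if_neg (Ne.symm h), zero_smul]
    · intro l _ hl
      have : ei l (b j).1 = 0 := by
        refine Subtype.ext ?_
        rw [ZeroMemClass.coe_zero]
        show e i₀ l (b j).1 = 0
        rw [← hfix _ (b j).2, he', if_neg hl]
      rw [this, map_zero, Finsupp.zero_apply, zero_smul]
    · simp
  choose C h' hh'Φ hh'μ hgC using fun i => hspan (g i) (hgΦ i) (hgμ i)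
  have hcard : Fintype.card ι ≤ n := by
    let T : (ι → k) →ₗ[k] (Fin n → k) := Fintype.linearCombination k C
    have hT : Function.Injective T := by
      rw [← LinearMap.ker_eq_bot, LinearMap.ker_eq_bot']
      intro α hα
      funext j
      by_contra hne
      rw [Pi.zero_apply] at hne
      let h'' := ∑ i, α i • h' i
      have hsum : ∑ i, α i • g i = π * h'' := by
        simp only [hgC, smul_add, sum_add_distrib, h'', mul_sum, mul_smul_comm]
        rw [show ∑ i, α i • ∑ l, C i l • a l = ∑ l, (T α) l • a l by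
          simp only [T, Fintype.linearCombination_apply, Finset.sum_apply, Pi.smul_apply,
            smul_eq_mul, sum_smul, smul_sum, smul_smul]
          exact sum_comm, hα]
        simp
      have h1 := LinearMap.congr_fun hsum (b j).1
      rw [LinearMap.sum_apply, sum_eq_single j (fun i _ hi => by
        rw [LinearMap.smul_apply, hgb, if_neg hi, smul_zero]) (by simp), LinearMap.smul_apply,
        hgb, if_pos rfl, Module.End.mul_apply] at h1
      have hmem : h'' (b j).1 ∈ Mb ∧ μ (h'' (b j).1) = c j • h'' (b j).1 := by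
        have hc1 : Commute h'' (e i₀ i₀) :=
          Commute.sum_left _ _ _ fun i _ => ((hh'Φ i) _).smul_left _
        have hc2 : Commute h'' μ := Commute.sum_left _ _ _ fun i _ => (hh'μ i).smul_left _
        refine ⟨⟨h'' (b j).1, ?_⟩, ?_⟩
        · rw [← Module.End.mul_apply, ← hc1.eq, Module.End.mul_apply, hfix _ (b j).2]
        · rw [← Module.End.mul_apply, ← hc2.eq, Module.End.mul_apply, hbμ, map_smul]
      refine hqπ j ((α j)⁻¹ • h'' (b j).1) (Mb.smul_mem _ hmem.1) ?_ ?_
      · rw [map_smul, hmem.2, smul_comm]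
      · rw [map_smul, ← h1, smul_smul, inv_mul_cancel₀ hne, one_smul]
    have := LinearMap.finrank_le_finrank_of_injective hT
    rwa [Module.finrank_fintype_fun_eq_card, Module.finrank_fin_fun] at this
  let T : H →ₗ[k] (Fin d → Mb) := LinearMap.pi ei
  have hT : Function.Injective T := by
    intro x y hxy
    rw [← hone x, ← hone y]
    refine sum_congr rfl fun l _ => ?_
    have h1 : e i₀ l x = e i₀ l y := congrArg Subtype.val (congrFun hxy l)
    have h2 := congrArg (e l i₀) h1
    rwa [he', if_pos rfl, he', if_pos rfl] at h2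
  calc Module.finrank k H ≤ Module.finrank k (Fin d → Mb) :=
        LinearMap.finrank_le_finrank_of_injective hT
    _ = d * Fintype.card ι := by
        rw [Module.finrank_pi_fintype, sum_const, card_univ, Fintype.card_fin, smul_eq_mul,
          Module.finrank_eq_card_basis b]
    _ ≤ d * n := Nat.mul_le_mul_left d hcard

end Cfsg.Agent.Lib.DefectTwist
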