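/-
An unramified discrete valuation ring of residue characteristic `p` inside `ℂ` containing the
`N`-th roots of unity, `p ∤ N`.
-/
import Mathlib
import Cfsg.Agent.Lib.Chars.Integral

set_option autoImplicit false
set_option linter.unusedSectionVars false
set_option linter.style.haveILetI false

namespace Cfsg.Agent.Lib.DefectTwist

open Finset

/-- A ring in which `p` generates the only maximal ideal and has finite residue field. -/
class UnramBase (p : ℕ) (O : Type) [CommRing O] : Prop where
  maximal : (Ideal.span {(p : O)}).IsMaximal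
  finite : Finite (O ⧸ Ideal.span {(p : O)})
  isUnit : ∀ a : O, ¬ (p : O) ∣ a → IsUnit a

/-- The residue field. -/
abbrev Kp (p : ℕ) (O : Type) [CommRing O] : Type := O ⧸ Ideal.span {(p : O)}

/-- Reduction. -/
abbrev redK (p : ℕ) {O : Type} [CommRing O] : O →+* Kp p O := Ideal.Quotient.mk _

variable {p : ℕ}

instance (priority := 100) instIsMaximalSpan {O : Type} [CommRing O] [h : UnramBase p O] :
    (Ideal.span {(p : O)}).IsMaximal := h.maximal

noncomputable instance (priority := 100) instFieldKp {O : Type} [CommRing O] [UnramBase p O] :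
    Field (Kp p O) := Ideal.Quotient.field _

instance (priority := 100) instFiniteKp {O : Type} [CommRing O] [h : UnramBase p O] :
    Finite (Kp p O) := h.finite

theorem redK_eq_zero_iff {O : Type} [CommRing O] {a : O} : redK p a = 0 ↔ (p : O) ∣ a := by
  rw [Ideal.Quotient.eq_zero_iff_mem, Ideal.mem_span_singleton]

theorem natCast_redK_self {O : Type} [CommRing O] : ((p : ℕ) : Kp p O) = 0 := by
  rw [← map_natCast (redK p), redK_eq_zero_iff]

instance (priority := 100) instCharPKp {O : Type} [CommRing O] [Fact p.Prime] [UnramBase p O] :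
    CharP (Kp p O) p := (CharP.charP_iff_prime_eq_zero (Fact.out : p.Prime)).mpr natCast_redK_self

theorem natCast_redK_ne_zero {O : Type} [CommRing O] [Fact p.Prime] [UnramBase p O] {n : ℕ}
    (h : ¬ p ∣ n) : (n : Kp p O) ≠ 0 := fun h0 => h ((CharP.cast_eq_zero_iff (Kp p O) p n).mp h0)

theorem isUnit_natCast {O : Type} [CommRing O] [Fact p.Prime] [UnramBase p O] {n : ℕ}
    (h : ¬ p ∣ n) : IsUnit (n : O) := by
  refine UnramBase.isUnit (p := p) _ fun hd => natCast_redK_ne_zero (O := O) h ?_
  rwa [← map_natCast (redK p), redK_eq_zero_iff]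

set_option maxHeartbeats 1000000 in
theorem exists_base [hp : Fact p.Prime] {N : ℕ} (hN : ¬ p ∣ N) :
    ∃ (O : Type) (_ : CommRing O) (_ : IsDomain O) (_ : IsPrincipalIdealRing O)
      (_ : UnramBase p O) (ι : O →+* ℂ), Function.Injective ι ∧
      ∀ z : ℂ, z ^ N = 1 → z ∈ Set.range ι := by
  classical
  have hN0 : N ≠ 0 := by rintro rfl; exact hN (dvd_zero p)
  haveI : NeZero N := ⟨hN0⟩
  set ζ : ℂ := Complex.exp (2 * Real.pi * Complex.I / N) with hζdef
  have hζ : IsPrimitiveRoot ζ N := Complex.isPrimitiveRoot_exp N hN0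
  have hint : IsIntegral ℤ ζ := IsIntegral.of_pow (Nat.pos_of_ne_zero hN0)
    (by rw [hζ.pow_eq_one]; exact isIntegral_one)
  let Z : Subalgebra ℤ ℂ := Algebra.adjoin ℤ {ζ}
  haveI : Module.Finite ℤ Z := Module.Finite.iff_fg.mpr hint.fg_adjoin_singleton
  haveI : IsNoetherianRing Z := IsNoetherianRing.of_finite ℤ Z
  have hpZ : Ideal.span {(p : Z)} ≠ ⊤ := by
    rw [Ne, Ideal.span_singleton_eq_top]
    intro h
    obtain ⟨y, hy⟩ := h.exists_right_inv
    have hy' : (p : ℂ) * (y : ℂ) = 1 := by
      have := congrArg Subtype.val hy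
      simpa using this
    have hyi : IsIntegral ℤ (y : ℂ) := (Algebra.IsIntegral.isIntegral y).map Z.val
    obtain ⟨m, hm⟩ := Chars.exists_int_eq_of_isIntegral hyi ((p : ℚ)⁻¹) (by
      push_cast
      exact eq_inv_of_mul_eq_one_right hy')
    rw [hm] at hy'
    have h2 : (p : ℤ) * m = 1 := by exact_mod_cast hy'
    exact (Nat.prime_iff_prime_int.mp hp.out).not_isUnit (IsUnit.of_mul_eq_one _ h2)
  obtain ⟨P, hP, hpP⟩ := Ideal.exists_le_maximal _ hpZ
  have hpmem : (p : Z) ∈ P := hpP (Ideal.mem_span_singleton_self _)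
  -- the Frobenius power fixing every element modulo `p`
  set r := N.totient with hrdef
  have hr : r ≠ 0 := (Nat.totient_pos.mpr (Nat.pos_of_ne_zero hN0)).ne'
  have hq : 2 ≤ p ^ r := le_trans hp.out.two_le (Nat.le_self_pow hr p)
  let S := Z ⧸ Ideal.span {(p : Z)}
  haveI : Nontrivial S := Ideal.Quotient.nontrivial_iff.mpr hpZ
  haveI : CharP S p := (CharP.charP_iff_prime_eq_zero hp.out).mpr (by
    rw [← map_natCast (Ideal.Quotient.mk (Ideal.span {(p : Z)}))]
    exact Ideal.Quotient.eq_zero_iff_mem.mpr (Ideal.mem_span_singleton_self _))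
  have hfrob : ∀ a : Z, (Ideal.Quotient.mk (Ideal.span {(p : Z)}) a) ^ (p ^ r) =
      Ideal.Quotient.mk (Ideal.span {(p : Z)}) a := by
    rintro ⟨a, ha⟩
    induction ha using Algebra.adjoin_induction with
    | mem x hx =>
      rw [Set.mem_singleton_iff] at hx
      subst hx
      rw [← map_pow]
      congr 1
      apply Subtype.ext
      rw [SubmonoidClass.coe_pow]
      show ζ ^ (p ^ r) = ζ
      have h1 : p ^ r ≡ 1 [MOD N] := Nat.ModEq.pow_totient
        ((hp.out.coprime_iff_not_dvd).mpr hN)
      conv_rhs => rw [← pow_one ζ]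
      rw [hζ.isUnit hN0 |>.unit_spec.symm, ← Units.val_pow_eq_pow_val, ← Units.val_pow_eq_pow_val]
      refine congrArg Units.val (pow_eq_pow_iff_modEq.mpr ?_)
      have h2 : orderOf (hζ.isUnit hN0).unit = N := by
        rw [← orderOf_units, IsUnit.unit_spec, ← hζ.eq_orderOf]
      rwa [h2]
    | algebraMap n =>
      have : (⟨algebraMap ℤ ℂ n, Subalgebra.algebraMap_mem Z n⟩ : Z) = (n : Z) := by
        apply Subtype.ext
        simp
      rw [this, map_intCast]
      exact map_intCast (iterateFrobenius S p r) n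
    | add x y hx hy ihx ihy =>
      rw [show (⟨x + y, _⟩ : Z) = ⟨x, hx⟩ + ⟨y, hy⟩ from rfl, map_add, add_pow_char_pow, ihx, ihy]
    | mul x y hx hy ihx ihy =>
      rw [show (⟨x * y, _⟩ : Z) = ⟨x, hx⟩ * ⟨y, hy⟩ from rfl, map_mul, mul_pow, ihx, ihy]
  obtain ⟨gens, hgens⟩ := IsNoetherian.noetherian P
  set b : Z := ∏ a ∈ gens, (1 - a ^ (p ^ r - 1))
  have hbP : b ∉ P := by
    intro h
    obtain ⟨a, ha, ha'⟩ := hP.isPrime.prod_mem_iff.mp h
    have haP : a ∈ P := hgens ▸ Submodule.subset_span ha
    have := P.add_mem ha' (P.pow_mem_of_mem haP (p ^ r - 1) (by omega))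
    rw [sub_add_cancel] at this
    exact hP.ne_top ((Ideal.eq_top_iff_one P).mpr this)
  have hbmul : ∀ a ∈ P, b * a ∈ Ideal.span {(p : Z)} := by
    have hsub : P ≤ Submodule.colon (Ideal.span {(p : Z)}) {b} := by
      conv_lhs => rw [← hgens]
      rw [Submodule.span_le]
      intro a ha
      rw [SetLike.mem_coe, Submodule.mem_colon_singleton, smul_eq_mul, ← Ideal.Quotient.eq_zero_iff_mem,
        map_mul, map_prod]
      rw [← Finset.mul_prod_erase _ _ ha, ← mul_assoc]
      simp only [map_sub, map_one, map_pow]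
      rw [mul_sub, mul_one, ← pow_succ', Nat.sub_add_cancel (by omega), hfrob, sub_self, zero_mul]
    intro a ha
    have := Submodule.mem_colon_singleton.mp (hsub ha)
    rwa [smul_eq_mul, mul_comm] at this
  haveI := hP.isPrime
  let O := Localization.AtPrime P
  have hinjO : Function.Injective (algebraMap Z O) :=
    IsLocalization.injective O (P.primeCompl_le_nonZeroDivisors)
  haveI : IsDomain O := IsLocalization.isDomain_localization P.primeCompl_le_nonZeroDivisors
  haveI : IsNoetherianRing O := IsLocalization.isNoetherianRing P.primeCompl O ‹_›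
  have hmax : IsLocalRing.maximalIdeal O = Ideal.span {(p : O)} := by
    refine le_antisymm ?_ ?_
    · rw [← IsLocalization.AtPrime.map_eq_maximalIdeal P O, Ideal.map_le_iff_le_comap]
      intro a ha
      rw [Ideal.mem_comap]
      have h1 := Ideal.mem_map_of_mem (algebraMap Z O) (hbmul a ha)
      rw [Ideal.map_span, Set.image_singleton, map_natCast, map_mul] at h1
      exact (Ideal.unit_mul_mem_iff_mem _ (IsLocalization.map_units O (⟨b, hbP⟩ : P.primeCompl))).mp h1
    · rw [Ideal.span_le, Set.singleton_subset_iff, SetLike.mem_coe, ← map_natCast (algebraMap Z O),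
        IsLocalization.AtPrime.to_map_mem_maximal_iff O P]
      exact hpmem
  have hnf : ¬ IsField O := by
    rw [IsLocalRing.isField_iff_maximalIdeal_eq, hmax, Ideal.span_singleton_eq_bot]
    rw [← map_natCast (algebraMap Z O), map_eq_zero_iff _ hinjO]
    intro h
    have := congrArg Subtype.val h
    simp [hp.out.ne_zero] at this
  have hprinc : (IsLocalRing.maximalIdeal O).IsPrincipal :=
    ⟨⟨(p : O), by rw [hmax, Ideal.submodule_span_eq]⟩⟩
  haveI : IsDiscreteValuationRing O :=
    (((IsDiscreteValuationRing.TFAE O hnf).out 0 4 : IsDiscreteValuationRing O ↔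
      (IsLocalRing.maximalIdeal O).IsPrincipal)).mpr hprinc
  have hfinZP : Finite (Z ⧸ P) := by
    haveI : Module.Finite ℤ (Z ⧸ P) :=
      Module.Finite.of_surjective (Ideal.Quotient.mkₐ ℤ P).toLinearMap Ideal.Quotient.mk_surjective
    refine Module.finite_of_fg_torsion _ fun {x} => ⟨⟨(p : ℤ), ?_⟩, ?_⟩
    · exact mem_nonZeroDivisors_of_ne_zero (Int.natCast_ne_zero.mpr hp.out.ne_zero)
    · show (p : ℤ) • x = 0
      obtain ⟨y, rfl⟩ := Ideal.Quotient.mk_surjective x
      rw [zsmul_eq_mul, Int.cast_natCast, ← map_natCast (Ideal.Quotient.mk P), ← map_mul,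
        Ideal.Quotient.eq_zero_iff_mem]
      exact P.mul_mem_right _ hpmem
  have hbase : UnramBase p O := by
    refine ⟨hmax ▸ IsLocalRing.maximalIdeal.isMaximal O, ?_, fun a ha => ?_⟩
    · rw [← hmax]
      exact Finite.of_equiv _ (IsLocalization.AtPrime.equivQuotMaximalIdeal P O).toEquiv
    · by_contra hu
      have : a ∈ IsLocalRing.maximalIdeal O := (IsLocalRing.mem_maximalIdeal a).mpr hu
      rw [hmax, Ideal.mem_span_singleton] at this
      exact ha this
  let ι : O →+* ℂ := IsLocalization.lift (M := P.primeCompl) (g := Z.val.toRingHom) fun y => by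
    refine isUnit_iff_ne_zero.mpr fun h => ?_
    have h2 : (y : Z) = 0 := Subtype.ext h
    exact y.2 (h2 ▸ P.zero_mem)
  refine ⟨O, inferInstance, inferInstance, inferInstance, hbase, ι, ?_, fun z hz => ?_⟩
  · refine (IsLocalization.lift_injective_iff _).mpr fun x y => ?_
    exact ⟨fun h => congrArg Z.val.toRingHom (hinjO h), fun h => congrArg _ (Subtype.ext h)⟩
  · obtain ⟨i, -, rfl⟩ := hζ.eq_pow_of_pow_eq_one hz
    let a : Z := ⟨ζ ^ i, pow_mem (Algebra.subset_adjoin (Set.mem_singleton ζ)) i⟩
    refine ⟨algebraMap Z O a, ?_⟩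
    show IsLocalization.lift _ (algebraMap Z O a) = _
    exact (IsLocalization.lift_eq _ a).trans rfl

end Cfsg.Agent.Lib.DefectTwist
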