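/-
Lattices over the unramified base affording Galois orbits of irreducible characters, with the
action of a `p`-th root of unity.
-/
import Mathlib
import Cfsg.Agent.Lib.DefectTwist.Base
import Cfsg.Agent.Lib.Chars.Realise
import Cfsg.Agent.Lib.GaloisChar.Basic
import Cfsg.Agent.Lib.SmallGroups.PrimeChar.Gram

set_option autoImplicit false
set_option linter.unusedSectionVars false
set_option linter.style.haveILetI false

namespace Cfsg.Agent.Lib.DefectTwist

open Finset Cfsg Cfsg.Agent.Lib

variable {O : Type} [CommRing O] [IsDomain O] [IsPrincipalIdealRing O]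

/-- Matrices over the fraction field are conjugate to integral ones. -/
theorem exists_integral_matrices {K : Type} [Field K] [Algebra O K] [IsFractionRing O K] {Γ : Type*} [Group Γ] [Finite Γ] {n : Type} [Fintype n]
    [DecidableEq n] (ρ : Γ →* Matrix n n K) :
    ∃ (r : ℕ) (ρ' : Γ →* Matrix (Fin r) (Fin r) O) (P : Matrix (Fin r) n K)
      (Q : Matrix n (Fin r) K), P * Q = 1 ∧ Q * P = 1 ∧
      ∀ g, (ρ' g).map (algebraMap O K) = P * ρ g * Q := by
  classical
  let f : Γ × n → (n → K) := fun a => (ρ a.1).mulVec (Pi.single a.2 1)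
  let L : Submodule O (n → K) := Submodule.span O (Set.range f)
  haveI : Module.Finite O L := Module.Finite.span_of_finite O (Set.finite_range f)
  let bL0 := Module.Free.chooseBasis O L
  let r := Fintype.card (Module.Free.ChooseBasisIndex O L)
  let bL : Module.Basis (Fin r) O L := bL0.reindex (Fintype.equivFin _)
  let v : Fin r → (n → K) := fun j => (bL j : n → K)
  have hli : LinearIndependent K v :=
    (LinearIndependent.iff_fractionRing O K).mp
      (bL.linearIndependent.map' L.subtype L.ker_subtype)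
  have hmem : ∀ x ∈ L, x ∈ Submodule.span K (Set.range v) := by
    intro x hx
    have h : x = ∑ j, algebraMap O K (bL.repr ⟨x, hx⟩ j) • v j := by
      conv_lhs => rw [show x = ((⟨x, hx⟩ : L) : n → K) from rfl, ← bL.sum_repr ⟨x, hx⟩]
      rw [Submodule.coe_sum]
      exact sum_congr rfl fun j _ => by
        rw [Submodule.coe_smul, algebraMap_smul]
    rw [h]
    exact Submodule.sum_mem _ fun j _ => Submodule.smul_mem _ _ (Submodule.subset_span ⟨j, rfl⟩)
  have hspan : ⊤ ≤ Submodule.span K (Set.range v) := by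
    rw [← (Pi.basisFun K n).span_eq, Submodule.span_le]
    rintro _ ⟨i, rfl⟩
    refine hmem _ (Submodule.subset_span ⟨(1, i), ?_⟩)
    simp only [f, map_one, Matrix.one_mulVec, Pi.basisFun_apply]
  let b : Module.Basis (Fin r) K (n → K) := Module.Basis.mk hli hspan
  have hb : ∀ j, b j = v j := fun j => by rw [Module.Basis.mk_apply]
  have hstab : ∀ (g : Γ), ∀ x ∈ L, (ρ g).mulVec x ∈ L := by
    intro g x hx
    induction hx using Submodule.span_induction with
    | mem x hx =>
      obtain ⟨⟨h, i⟩, rfl⟩ := hx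
      refine Submodule.subset_span ⟨(g * h, i), ?_⟩
      simp only [f, map_mul, Matrix.mulVec_mulVec]
    | zero => rw [Matrix.mulVec_zero]; exact L.zero_mem
    | add x y _ _ ihx ihy => rw [Matrix.mulVec_add]; exact L.add_mem ihx ihy
    | smul c x _ ih => rw [Matrix.mulVec_smul]; exact L.smul_mem c ih
  let M : Γ → Matrix (Fin r) (Fin r) O := fun g => Matrix.of fun i j =>
    bL.repr ⟨(ρ g).mulVec (v j), hstab g _ (bL j).2⟩ i
  let e : Module.Basis n K (n → K) := Pi.basisFun K n
  have hM : ∀ g, (M g).map (algebraMap O K) =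
      b.toMatrix e * ρ g * e.toMatrix b := by
    intro g
    have h1 : b.toMatrix e * ρ g * e.toMatrix b =
        LinearMap.toMatrix b b (Matrix.toLin' (ρ g)) := by
      rw [← basis_toMatrix_mul_linearMap_toMatrix_mul_basis_toMatrix b e b e (Matrix.toLin' (ρ g))]
      congr 2
      rw [LinearMap.toMatrix_eq_toMatrix', LinearMap.toMatrix'_toLin']
    rw [h1]
    ext i j
    rw [LinearMap.toMatrix_apply, Matrix.map_apply, hb, Matrix.toLin'_apply]
    set x : L := ⟨(ρ g).mulVec (v j), hstab g _ (bL j).2⟩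
    have hx : (ρ g).mulVec (v j) = ∑ i, algebraMap O K (bL.repr x i) • b i := by
      conv_lhs => rw [show (ρ g).mulVec (v j) = (x : n → K) from rfl, ← bL.sum_repr x]
      rw [Submodule.coe_sum]
      exact sum_congr rfl fun i _ => by rw [Submodule.coe_smul, algebraMap_smul, hb]
    rw [hx, b.repr_sum_self]
    rfl
  have hPQ : b.toMatrix e * e.toMatrix b = 1 := Module.Basis.toMatrix_mul_toMatrix_flip b e
  have hQP : e.toMatrix b * b.toMatrix e = 1 := Module.Basis.toMatrix_mul_toMatrix_flip e b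
  have hinj : Function.Injective (fun A : Matrix (Fin r) (Fin r) O => A.map (algebraMap O K)) :=
    Matrix.map_injective (IsFractionRing.injective O K)
  refine ⟨r, { toFun := M, map_one' := hinj ?_, map_mul' := fun g h => hinj ?_ }, b.toMatrix e,
    e.toMatrix b, hPQ, hQP, hM⟩
  · simp only [hM, map_one, mul_one, Matrix.map_one, map_zero, Matrix.mul_one, hPQ]
  · simp only [Matrix.map_mul, hM, map_mul]
    rw [show b.toMatrix e * ρ g * e.toMatrix b * (b.toMatrix e * ρ h * e.toMatrix b) =
      b.toMatrix e * ρ g * (e.toMatrix b * b.toMatrix e) * ρ h * e.toMatrix b by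
        simp only [Matrix.mul_assoc], hQP, Matrix.mul_one]
    simp only [Matrix.mul_assoc]

/-- The complex representation of an integral one. -/
noncomputable def cplx (ι : O →+* ℂ) {Γ : Type*} [Group Γ] {r : ℕ}
    (ρ : Γ →* Module.End O (Fin r → O)) : Representation ℂ Γ (Fin r → ℂ) :=
  (Matrix.toLinAlgEquiv' (R := ℂ) (n := Fin r)).toAlgHom.toRingHom.toMonoidHom.comp
    ((RingHom.mapMatrix ι).toMonoidHom.comp
      ((LinearMap.toMatrixAlgEquiv' (R := O) (n := Fin r)).toAlgHom.toRingHom.toMonoidHom.comp ρ))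

theorem toMatrix'_cplx (ι : O →+* ℂ) {Γ : Type*} [Group Γ] {r : ℕ}
    (ρ : Γ →* Module.End O (Fin r → O)) (g : Γ) :
    LinearMap.toMatrix' (cplx ι ρ g) = (LinearMap.toMatrix' (ρ g)).map ι := by
  show LinearMap.toMatrix' (Matrix.toLin' ((LinearMap.toMatrix' (ρ g)).map ι)) = _
  rw [LinearMap.toMatrix'_toLin']

theorem char_cplx (ι : O →+* ℂ) {Γ : Type*} [Group Γ] {r : ℕ}
    (ρ : Γ →* Module.End O (Fin r → O)) (g : Γ) :
    (cplx ι ρ).character g = ι (LinearMap.trace O _ (ρ g)) := by
  rw [Representation.character, LinearMap.trace_eq_matrix_trace ℂ (Pi.basisFun ℂ (Fin r)),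
    LinearMap.trace_eq_matrix_trace O (Pi.basisFun O (Fin r)),
    LinearMap.toMatrix_eq_toMatrix', LinearMap.toMatrix_eq_toMatrix', toMatrix'_cplx]
  simp [Matrix.trace, map_sum]

/-- The commuting algebra of an integral representation. -/
abbrev commAlg {Γ : Type*} [Group Γ] {r : ℕ} (ρ : Γ →* Module.End O (Fin r → O)) :
    Subalgebra O (Module.End O (Fin r → O)) :=
  Subalgebra.centralizer O (Set.range ρ)

theorem free_commAlg {Γ : Type*} [Group Γ] {r : ℕ} (ρ : Γ →* Module.End O (Fin r → O)) :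
    Module.Free O (commAlg ρ) ∧ Module.Finite O (commAlg ρ) := by
  haveI : Module.Free O (Module.End O (Fin r → O)) :=
    Module.Free.of_equiv (LinearMap.toMatrix' (R := O) (m := Fin r) (n := Fin r)).symm
  haveI : Module.Finite O (Module.End O (Fin r → O)) :=
    Module.Finite.equiv (LinearMap.toMatrix' (R := O) (m := Fin r) (n := Fin r)).symm
  have h2 : Module.Finite O (commAlg ρ) :=
    inferInstanceAs (Module.Finite O ↥(Subalgebra.toSubmodule (commAlg ρ)))
  have h3 : Module.IsTorsionFree O (commAlg ρ) :=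
    Function.Injective.moduleIsTorsionFree _ (Subalgebra.toSubmodule (commAlg ρ)).injective_subtype
      (fun _ _ => rfl)
  exact ⟨Module.free_of_finite_type_torsion_free' (R := O) (M := Subalgebra.toSubmodule (commAlg ρ)), h2⟩

set_option maxHeartbeats 1000000 in
theorem finrank_commAlg_le (ι : O →+* ℂ) (hι : Function.Injective ι) {Γ : Type*} [Group Γ]
    [Fintype Γ] {r : ℕ} (ρ : Γ →* Module.End O (Fin r → O)) (n : ℕ)
    (hn : classInner (cplx ι ρ).character (cplx ι ρ).character = n) :
    Module.finrank O (commAlg ρ) ≤ n := by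
  classical
  rw [Chars.classInner_char_eq_finrank, Nat.cast_inj] at hn
  rw [← hn]
  let K := FractionRing O
  let ι0 : K →+* ℂ := IsFractionRing.lift hι
  have hι0 : ∀ a, ι0 (algebraMap O K a) = ι a := fun a => IsFractionRing.lift_algebraMap hι a
  obtain ⟨_, _⟩ := free_commAlg ρ
  let bA := Module.finBasis O (commAlg ρ)
  set s := Module.finrank O (commAlg ρ)
  let v : Fin s → Matrix (Fin r) (Fin r) K := fun i =>
    (LinearMap.toMatrix' (bA i : Module.End O (Fin r → O))).map (algebraMap O K)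
  have hliO : LinearIndependent O v := by
    have h1 : LinearIndependent O fun i => (bA i : Module.End O (Fin r → O)) :=
      bA.linearIndependent.map_injOn (commAlg ρ).val.toLinearMap Subtype.val_injective.injOn
    have h2 : LinearIndependent O fun i =>
        LinearMap.toMatrix' (bA i : Module.End O (Fin r → O)) :=
      h1.map' (LinearMap.toMatrix' (R := O) (m := Fin r) (n := Fin r)).toLinearMap
        (LinearEquiv.ker _)
    refine h2.map' (Algebra.linearMap O K).mapMatrix (LinearMap.ker_eq_bot.mpr ?_)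
    intro a b hab
    exact Matrix.map_injective (IsFractionRing.injective O K) hab
  have hliK : LinearIndependent K v := (LinearIndependent.iff_fractionRing O K).mp hliO
  obtain ⟨g, hg⟩ := (Fintype.linearCombination K v).exists_leftInverse_of_injective
    (LinearMap.ker_eq_bot'.mpr fun c hc => funext fun i =>
      Fintype.linearIndependent_iff.mp hliK c (by
        rwa [Fintype.linearCombination_apply] at hc) i)
  let F : Fin s → Representation.IntertwiningMap (cplx ι ρ) (cplx ι ρ) := fun i =>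
    ⟨Matrix.toLin' ((LinearMap.toMatrix' (bA i : Module.End O (Fin r → O))).map ι), fun x => by
      apply LinearMap.toMatrix'.injective
      rw [LinearMap.toMatrix'_comp, LinearMap.toMatrix'_comp, LinearMap.toMatrix'_toLin',
        toMatrix'_cplx, ← Matrix.map_mul, ← Matrix.map_mul, ← LinearMap.toMatrix'_comp,
        ← LinearMap.toMatrix'_comp]
      have hc := (Subalgebra.mem_centralizer_iff O).mp (bA i).2 (ρ x) ⟨x, rfl⟩
      exact congrArg (fun f => (LinearMap.toMatrix' f).map ι) hc.symm⟩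
  have hF : LinearIndependent ℂ F := by
    rw [Fintype.linearIndependent_iff]
    intro c hc k
    have h1 : ∑ i, c i • (LinearMap.toMatrix' (bA i : Module.End O (Fin r → O))).map ι = 0 := by
      apply Matrix.toLin'.injective
      rw [map_sum, map_zero]
      have h2 := congrArg (fun f : Representation.IntertwiningMap (cplx ι ρ) (cplx ι ρ) =>
        f.toLinearMap) hc
      have hadd : ∀ u : Finset (Fin s), (∑ i ∈ u, c i • F i).toLinearMap =
          ∑ i ∈ u, c i • (F i).toLinearMap := by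
        intro u
        induction u using Finset.induction with
        | empty => simp only [sum_empty]; rfl
        | insert a u ha ih => rw [sum_insert ha, sum_insert ha, ← ih]; rfl
      simp only [map_smul]
      exact (hadd univ).symm.trans h2
    have hgk : ∀ i : Fin s, ∑ a, ∑ b, g (Matrix.single a b 1) k * v i a b =
        if i = k then 1 else 0 := by
      intro i
      have h2 := LinearMap.congr_fun hg (Pi.single i 1)
      rw [LinearMap.comp_apply, Fintype.linearCombination_apply_single, one_smul,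
        LinearMap.id_apply] at h2
      conv_lhs at h2 => rw [Matrix.matrix_eq_sum_single (v i)]
      have h3 := congrFun h2 k
      rw [map_sum] at h3
      simp only [map_sum, Finset.sum_apply] at h3
      rw [Pi.single_apply] at h3
      refine Eq.trans ?_ (h3.trans (by simp only [eq_comm]))
      refine sum_congr rfl fun a _ => sum_congr rfl fun b _ => ?_
      rw [show Matrix.single a b (v i a b) = v i a b • Matrix.single a b (1 : K) by simp, map_smul,
        Pi.smul_apply, smul_eq_mul, mul_comm]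
    calc c k = ∑ i, c i * ι0 (if i = k then 1 else 0) := by simp [apply_ite ι0]
      _ = ∑ a, ∑ b, ι0 (g (Matrix.single a b 1) k) *
          (∑ i, c i • (LinearMap.toMatrix' (bA i : Module.End O (Fin r → O))).map ι) a b := by
        simp only [← hgk, map_sum, map_mul, mul_sum, Matrix.sum_apply, Matrix.smul_apply,
          smul_eq_mul, v, Matrix.map_apply, hι0]
        rw [sum_comm]
        refine sum_congr rfl fun a _ => ?_
        rw [sum_comm]
        exact sum_congr rfl fun b _ => sum_congr rfl fun i _ => by ring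
      _ = 0 := by rw [h1]; simp
  simpa using hF.fintype_card_le_finrank

variable [CharZero O]

/-- The automorphisms used to compute the conjugates. -/
def IsShift (p N : ℕ) [NeZero p] (σ : ℂ ≃+* ℂ) (μ : ZMod p) : Prop :=
  (∀ a : ZMod p, σ (ZMod.stdAddChar a) = ZMod.stdAddChar (μ * a)) ∧ ∀ z : ℂ, z ^ N = 1 → σ z = z

variable {p : ℕ} [hp : Fact p.Prime]

theorem exists_isShift {N : ℕ} (hN : ¬ p ∣ N) {μ : ZMod p} (hμ : μ ≠ 0) :
    ∃ σ : ℂ ≃+* ℂ, IsShift p N σ μ := by
  have hco : p.Coprime N := (hp.out.coprime_iff_not_dvd).mpr hN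
  have hN0 : 0 < N := Nat.pos_of_ne_zero fun h => hN (h ▸ dvd_zero p)
  obtain ⟨k, hk1, hk2⟩ := Nat.chineseRemainder hco μ.val 1
  have hμv : ¬ p ∣ μ.val := fun h => hμ (by
    rw [← ZMod.natCast_zmod_val μ, ZMod.natCast_eq_zero_iff]; exact h)
  have hcop : k.Coprime (p * N) := by
    refine Nat.Coprime.mul_right ?_ ?_
    · rw [Nat.coprime_comm, hp.out.coprime_iff_not_dvd, ← Nat.modEq_zero_iff_dvd]
      intro h
      exact hμv (Nat.modEq_zero_iff_dvd.mp (hk1.symm.trans h))
    · exact (Nat.ModEq.gcd_eq hk2).trans (Nat.gcd_one_left _)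
  obtain ⟨σ, hσ⟩ := GaloisChar.exists_ringEquiv_pow (Nat.mul_pos hp.out.pos hN0) hcop
  refine ⟨σ, fun a => ?_, fun z hz => ?_⟩
  · rw [hσ]
    · rw [← AddChar.map_nsmul_eq_pow, nsmul_eq_mul]
      congr 2
      rw [← ZMod.natCast_zmod_val μ]
      exact (ZMod.natCast_eq_natCast_iff _ _ _).mpr hk1
    · rw [← AddChar.map_nsmul_eq_pow, nsmul_eq_mul, Nat.cast_mul, ZMod.natCast_self, zero_mul,
        zero_mul, AddChar.map_zero_eq_one]
  · rw [hσ _ (by rw [mul_comm, pow_mul, hz, one_pow]), ← pow_mod_orderOf]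
    rcases Nat.eq_or_lt_of_le (Nat.one_le_iff_ne_zero.mpr hN0.ne') with h1 | h1
    · rw [← h1, pow_one] at hz
      rw [hz, one_pow]
    · have h2 : k % orderOf z = 1 % orderOf z :=
        Nat.ModEq.of_dvd (orderOf_dvd_of_pow_eq_one hz) hk2
      rw [h2, pow_mod_orderOf, pow_one]

/-- Roots of unity of order dividing `N p` are products. -/
theorem root_decomp {N : ℕ} (hN : ¬ p ∣ N) {z : ℂ} (hz : z ^ (N * p) = 1) :
    ∃ (w : ℂ) (i : ZMod p), w ^ N = 1 ∧ z = w * ZMod.stdAddChar i := by
  have hz0 : z ≠ 0 := fun h => by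
    rw [h, zero_pow (mul_ne_zero (fun h' => hN (by rw [h']; exact dvd_zero p)) hp.out.ne_zero)] at hz
    exact zero_ne_one hz
  obtain ⟨a, b, hab⟩ : IsCoprime (p : ℤ) (N : ℤ) :=
    Nat.Coprime.isCoprime ((hp.out.coprime_iff_not_dvd).mpr hN)
  have hμ : IsPrimitiveRoot (ZMod.stdAddChar (1 : ZMod p)) p := by
    refine IsPrimitiveRoot.iff_def _ _ |>.mpr ⟨?_, fun l hl => ?_⟩
    · rw [← AddChar.map_nsmul_eq_pow, nsmul_one, ZMod.natCast_self, AddChar.map_zero_eq_one]
    · rw [← AddChar.map_nsmul_eq_pow, nsmul_one, ← AddChar.map_zero_eq_one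
        (ψ := (ZMod.stdAddChar : AddChar (ZMod p) ℂ)), ZMod.injective_stdAddChar.eq_iff,
        ZMod.natCast_eq_zero_iff] at hl
      exact hl
  obtain ⟨i, -, hi⟩ := hμ.eq_pow_of_pow_eq_one (ξ := z ^ N) (by rw [← pow_mul, hz])
  refine ⟨(z ^ p) ^ a, b • ((i : ℕ) : ZMod p), ?_, ?_⟩
  · rw [← zpow_natCast, ← zpow_mul, mul_comm, zpow_mul, zpow_natCast, ← pow_mul, mul_comm p N, hz,
      one_zpow]
  · rw [AddChar.map_zsmul_eq_zpow]
    have h2 : ZMod.stdAddChar ((i : ℕ) : ZMod p) = z ^ N := by
      rw [← hi, ← AddChar.map_nsmul_eq_pow, nsmul_one]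
    rw [h2, ← zpow_natCast, ← zpow_mul, ← zpow_natCast z N, ← zpow_mul, ← zpow_add₀ hz0,
      show (p : ℤ) * a + (N : ℤ) * b = 1 by linear_combination hab, zpow_one]

universe u

set_option maxHeartbeats 1000000 in
theorem exists_lattice_aux {K : Type} [Field K] [CharZero K] [Algebra O K] [IsFractionRing O K]
    [Algebra K ℂ] (F : IntermediateField K ℂ) [FiniteDimensional K F]
    (hFgen : F = IntermediateField.adjoin K {(ZMod.stdAddChar (1 : ZMod p) : ℂ)}) (ι : O →+* ℂ)
    (hK : ∀ a, algebraMap K ℂ (algebraMap O K a) = ι a) {N : ℕ}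
    (hN : ¬ p ∣ N) (hroots : ∀ z : ℂ, z ^ N = 1 → z ∈ Set.range ι) {G : Type u} [Group G]
    [Finite G] (hexp : ∀ g : G, orderOf g ∣ N * p) (χ : IrrCharacter G)
    (sig : ZMod p → ℂ ≃+* ℂ) (hsig : ∀ μ, μ ≠ 0 → IsShift p N (sig μ) μ) :
    ∃ (r : ℕ) (ρL : G →* Module.End O (Fin r → O)) (Z : Module.End O (Fin r → O))
      (S : Finset (ZMod p)), (∀ g, Commute Z (ρL g)) ∧ ∑ i ∈ range p, Z ^ i = 0 ∧ S.Nonempty ∧
      (∀ μ ∈ S, μ ≠ 0) ∧
      ∀ g, ι (LinearMap.trace O _ (ρL g)) = ∑ μ ∈ S, sig μ ((χ : G → ℂ) g) := by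
  classical
  have hN0 : N ≠ 0 := fun h => hN (h ▸ dvd_zero p)
  set ζ : ℂ := ZMod.stdAddChar (1 : ZMod p) with hζdef
  have hψ : ∀ a : ZMod p, ZMod.stdAddChar a = ζ ^ a.val := fun a => by
    rw [← AddChar.map_nsmul_eq_pow, nsmul_one, ZMod.natCast_zmod_val]
  have hζp : ζ ^ p = 1 := by
    rw [← AddChar.map_nsmul_eq_pow, nsmul_one, ZMod.natCast_self, AddChar.map_zero_eq_one]
  have hψF : ∀ a : ZMod p, ZMod.stdAddChar a ∈ F := fun a => by
    rw [hψ, hFgen]; exact pow_mem (IntermediateField.mem_adjoin_simple_self K ζ) _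
  have hwF : ∀ w : ℂ, w ^ N = 1 → w ∈ F := fun w hw => by
    obtain ⟨a, rfl⟩ := hroots w hw
    rw [← hK]
    exact F.algebraMap_mem _
  have hrootsF : ∀ z : ℂ, z ^ Monoid.exponent G = 1 → ∃ k : F, F.val.toRingHom k = z := by
    intro z hz
    have hz' : z ^ (N * p) = 1 := by
      obtain ⟨c, hc⟩ := Monoid.exponent_dvd_of_forall_pow_eq_one (G := G) (n := N * p)
        fun g => orderOf_dvd_iff_pow_eq_one.mp (hexp g)
      rw [hc, pow_mul, hz, one_pow]
    obtain ⟨w, i, hw, rfl⟩ := root_decomp hN hz'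
    exact ⟨⟨_, mul_mem (hwF w hw) (hψF i)⟩, rfl⟩
  obtain ⟨n, ρ, hρ, hχ⟩ := χ.2
  haveI := Fintype.ofFinite G
  obtain ⟨σ, ⟨he⟩, hσ⟩ := Chars.exists_realisation F.val.toRingHom hrootsF ρ
  choose kk hkk using hσ
  have hinjF : Function.Injective (fun A : Matrix (Fin n) (Fin n) F => A.map F.val) :=
    Matrix.map_injective Subtype.val_injective
  have hmap : ∀ g, (Matrix.of (kk g)).map F.val = LinearMap.toMatrix' (σ g) := fun g => by
    ext i j; exact hkk g i j
  let τF : G →* Matrix (Fin n) (Fin n) F :=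
    { toFun := fun g => Matrix.of (kk g)
      map_one' := hinjF (by
        show (Matrix.of (kk 1)).map F.val = (1 : Matrix (Fin n) (Fin n) F).map F.val
        rw [hmap, map_one, Module.End.one_eq_id, LinearMap.toMatrix'_id,
          Matrix.map_one _ (map_zero _) (map_one _)])
      map_mul' := fun g h => hinjF (by
        show (Matrix.of (kk (g * h))).map F.val = (Matrix.of (kk g) * Matrix.of (kk h)).map F.val
        rw [Matrix.map_mul, hmap, hmap, hmap, map_mul, LinearMap.toMatrix'_mul]) }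
  have hchi : ∀ g, ((Matrix.trace (τF g) : F) : ℂ) = (χ : G → ℂ) g := fun g => by
    have h1 : (χ : G → ℂ) g = LinearMap.trace ℂ _ (σ g) := by
      rw [← hχ, Representation.char_iso he]
      rfl
    rw [h1, LinearMap.trace_eq_matrix_trace ℂ (Pi.basisFun ℂ (Fin n)),
      LinearMap.toMatrix_eq_toMatrix', ← hmap]
    show ((Matrix.trace (Matrix.of (kk g)) : F) : ℂ) = _
    simp [Matrix.trace]
  let bF := Module.finBasis K F
  let m := Module.finrank K F
  let ψF : Multiplicative (ZMod p) →* F :=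
    { toFun := fun a => ⟨ZMod.stdAddChar a.toAdd, hψF _⟩
      map_one' := Subtype.ext (by simp)
      map_mul' := fun a b => Subtype.ext (by simp [AddChar.map_add_eq_mul]) }
  let ρF : G × Multiplicative (ZMod p) →* Matrix (Fin n) (Fin n) F :=
    { toFun := fun a => ψF a.2 • τF a.1
      map_one' := by simp
      map_mul' := fun a b => by
        simp only [Prod.fst_mul, Prod.snd_mul, map_mul, Matrix.smul_mul, Matrix.mul_smul, smul_smul,
          mul_comm (ψF a.2)] }
  let big : Matrix (Fin n) (Fin n) F →* Matrix (Fin n × Fin m) (Fin n × Fin m) K :=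
    (Matrix.compAlgEquiv (Fin n) (Fin m) K K).toAlgHom.toRingHom.toMonoidHom.comp
      (RingHom.mapMatrix (Algebra.leftMulMatrix bF).toRingHom).toMonoidHom
  have htrbig : ∀ A, Matrix.trace (big A) = Algebra.trace K F (Matrix.trace A) := by
    intro A
    rw [Matrix.trace, Fintype.sum_prod_type]
    simp only [Matrix.trace, map_sum]
    refine sum_congr rfl fun i _ => ?_
    rw [Algebra.trace_eq_matrix_trace bF]
    simp [big, Matrix.trace, Matrix.comp]
    rfl
  obtain ⟨r, ρ', P, Q, hPQ, hQP, hρ'⟩ := exists_integral_matrices (O := O) (big.comp ρF)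
  let ρE : G × Multiplicative (ZMod p) →* Module.End O (Fin r → O) :=
    (Matrix.toLinAlgEquiv' (R := O) (n := Fin r)).toAlgHom.toRingHom.toMonoidHom.comp ρ'
  have hinjO : Function.Injective (fun A : Matrix (Fin r) (Fin r) O => A.map (algebraMap O K)) :=
    Matrix.map_injective (IsFractionRing.injective O K)
  let z0 : G × Multiplicative (ZMod p) := (1, Multiplicative.ofAdd 1)
  have hz0 : ∀ i : ℕ, z0 ^ i = (1, Multiplicative.ofAdd (i : ZMod p)) := fun i => by
    refine Prod.ext (by simp [z0]) ?_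
    show Multiplicative.ofAdd (1 : ZMod p) ^ i = _
    rw [← ofAdd_nsmul, nsmul_one]
  have hsum : ∑ i ∈ range p, ρE z0 ^ i = 0 := by
    simp only [← map_pow]
    show ∑ i ∈ range p, (Matrix.toLinAlgEquiv' (ρ' (z0 ^ i))) = 0
    rw [← map_sum, show ∑ i ∈ range p, ρ' (z0 ^ i) = 0 from ?_, map_zero]
    apply hinjO
    show (∑ i ∈ range p, ρ' (z0 ^ i)).map (algebraMap O K) =
      (0 : Matrix (Fin r) (Fin r) O).map (algebraMap O K)
    rw [← RingHom.mapMatrix_apply, ← RingHom.mapMatrix_apply, map_sum, map_zero]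
    simp only [RingHom.mapMatrix_apply, hρ', MonoidHom.comp_apply, ← Matrix.sum_mul,
      ← Matrix.mul_sum, hz0]
    have hzero : ∑ i ∈ range p, big (ρF (1, Multiplicative.ofAdd (i : ZMod p))) = 0 := by
      show ∑ i ∈ range p, (Matrix.compAlgEquiv (Fin n) (Fin m) K K)
        ((RingHom.mapMatrix (Algebra.leftMulMatrix bF).toRingHom)
          (ρF (1, Multiplicative.ofAdd (i : ZMod p)))) = 0
      rw [← map_sum, ← map_sum]
      have h3 : ∑ i ∈ range p, ρF (1, Multiplicative.ofAdd (i : ZMod p)) = 0 := by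
        simp only [ρF, MonoidHom.coe_mk, OneHom.coe_mk, map_one, ← Finset.sum_smul]
        rw [show ∑ i ∈ range p, ψF (Multiplicative.ofAdd (i : ZMod p)) = 0 from ?_, zero_smul]
        apply Subtype.val_injective
        rw [AddSubmonoidClass.coe_finsetSum, ZeroMemClass.coe_zero]
        show ∑ i ∈ range p, ZMod.stdAddChar (i : ZMod p) = (0 : ℂ)
        have h4 : ∀ i : ℕ, ZMod.stdAddChar (i : ZMod p) = ζ ^ i := fun i => by
          rw [← AddChar.map_nsmul_eq_pow, nsmul_one]
        have hζ1 : ζ ≠ 1 := fun h => by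
          have := (ZMod.injective_stdAddChar (N := p))
            (h.trans (AddChar.map_zero_eq_one (ψ := (ZMod.stdAddChar : AddChar (ZMod p) ℂ))).symm)
          exact one_ne_zero this
        simp only [h4]
        rw [geom_sum_eq hζ1, hζp, sub_self, zero_div]
      rw [h3, map_zero, map_zero]
    rw [hzero, Matrix.mul_zero, Matrix.zero_mul]
  have htr : ∀ g, algebraMap O K (LinearMap.trace O _ (ρE (g, 1))) =
      Algebra.trace K F (Matrix.trace (τF g)) := by
    intro g
    rw [LinearMap.trace_eq_matrix_trace O (Pi.basisFun O (Fin r)),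
      LinearMap.toMatrix_eq_toMatrix']
    show algebraMap O K (Matrix.trace (LinearMap.toMatrix' (Matrix.toLin' (ρ' (g, 1))))) = _
    rw [LinearMap.toMatrix'_toLin',
      show algebraMap O K (Matrix.trace (ρ' (g, 1))) = Matrix.trace ((ρ' (g, 1)).map (algebraMap O K))
        by simp [Matrix.trace]]
    rw [hρ', Matrix.trace_mul_cycle, hQP, Matrix.one_mul, MonoidHom.comp_apply, htrbig]
    simp [ρF]
  -- the embeddings
  let x0 : F := ⟨ζ, hψF 1⟩
  have hexT : ∀ τ : F →ₐ[K] ℂ, ∃ μ : ZMod p, μ ≠ 0 ∧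
      ∀ a : ZMod p, τ ⟨ZMod.stdAddChar a, hψF a⟩ = ZMod.stdAddChar (μ * a) := by
    intro τ
    have hpw : ∀ a : ZMod p, (⟨ZMod.stdAddChar a, hψF a⟩ : F) = x0 ^ a.val := fun a =>
      Subtype.ext (by rw [SubmonoidClass.coe_pow]; exact hψ a)
    have hμ : IsPrimitiveRoot ζ p := by
      have hζ1 : ζ ≠ 1 := fun h => by
        have := (ZMod.injective_stdAddChar (N := p))
          (h.trans (AddChar.map_zero_eq_one (ψ := (ZMod.stdAddChar : AddChar (ZMod p) ℂ))).symm)
        exact one_ne_zero this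
      exact orderOf_eq_prime hζp hζ1 ▸ IsPrimitiveRoot.orderOf ζ
    have hx0p : x0 ^ p = 1 := Subtype.ext (by rw [SubmonoidClass.coe_pow]; exact hζp)
    obtain ⟨i, hi, hi'⟩ := hμ.eq_pow_of_pow_eq_one (ξ := τ x0) (by
      rw [← map_pow, hx0p, map_one])
    refine ⟨(i : ZMod p), fun h0 => ?_, fun a => ?_⟩
    · rw [ZMod.natCast_eq_zero_iff] at h0
      rw [Nat.eq_zero_of_dvd_of_lt h0 hi, pow_zero] at hi'
      have : x0 = 1 := τ.toRingHom.injective (by simpa using hi'.symm)
      exact hμ.ne_one hp.out.one_lt (congrArg Subtype.val this)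
    · rw [hpw, map_pow, ← hi', ← pow_mul, ← AddChar.map_nsmul_eq_pow, nsmul_one, Nat.cast_mul,
        ZMod.natCast_zmod_val]
  choose μT hμ0 hμT using hexT
  have hμinj : Function.Injective μT := by
    intro τ τ' h
    subst hFgen
    refine (IntermediateField.adjoin.powerBasis (IsIntegral.of_pow hp.out.pos (by
      rw [hζp]; exact isIntegral_one) : IsIntegral K ζ)).algHom_ext ?_
    rw [IntermediateField.adjoin.powerBasis_gen]
    have h1 := hμT τ 1
    have h2 := hμT τ' 1
    rw [h] at h1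
    exact h1.trans h2.symm
  refine ⟨r, ρE.comp (MonoidHom.inl G _), ρE z0, univ.image μT, fun g => ?_, hsum, ?_, ?_,
    fun g => ?_⟩
  · show Commute (ρE z0) (ρE (g, 1))
    exact Commute.map (Prod.ext (by simp [z0]) (by simp)) ρE
  · have : Nonempty (F →ₐ[K] ℂ) := ⟨F.val⟩
    exact univ_nonempty.image _
  · intro μ hμ
    obtain ⟨τ, -, rfl⟩ := mem_image.mp hμ
    exact hμ0 τ
  · show ι (LinearMap.trace O _ (ρE (g, 1))) = _
    rw [← hK, htr, trace_eq_sum_embeddings ℂ, sum_image fun a _ b _ h => hμinj h]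
    refine sum_congr rfl fun τ _ => ?_
    obtain ⟨ι', hι', m', -, hm', hsum', -⟩ := Chars.exists_roots_sum ρ g
    have hz : ∀ i, m' i ^ (N * p) = 1 := fun i => by
      obtain ⟨c, hc⟩ := hexp g
      rw [hc, pow_mul, hm', one_pow]
    choose w j hw hwj using fun i => root_decomp hN (hz i)
    choose aw haw using fun i => hroots (w i) (hw i)
    let xF : ι' → F := fun i => algebraMap K F (algebraMap O K (aw i)) * ⟨_, hψF (j i)⟩
    have hxF : ∀ i, (xF i : ℂ) = m' i := fun i => by
      rw [hwj i, ← haw i, ← hK]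
      rfl
    have htrF : Matrix.trace (τF g) = ∑ i, xF i := by
      apply Subtype.val_injective
      rw [hchi, ← hχ, hsum', AddSubmonoidClass.coe_finsetSum]
      exact sum_congr rfl fun i _ => (hxF i).symm
    rw [htrF, map_sum, ← hχ, hsum', map_sum]
    refine sum_congr rfl fun i _ => ?_
    obtain ⟨hσ1, hσ2⟩ := hsig (μT τ) (hμ0 τ)
    rw [map_mul, AlgHom.commutes, hμT, hwj i, map_mul (sig (μT τ)), hσ1, hσ2 _ (hw i), hK, haw]

/-- The lattice attached to an irreducible character. -/
theorem exists_lattice (ι : O →+* ℂ) (hι : Function.Injective ι) {N : ℕ}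
    (hN : ¬ p ∣ N) (hroots : ∀ z : ℂ, z ^ N = 1 → z ∈ Set.range ι) {G : Type u} [Group G]
    [Finite G] (hexp : ∀ g : G, orderOf g ∣ N * p) (χ : IrrCharacter G)
    (sig : ZMod p → ℂ ≃+* ℂ) (hsig : ∀ μ, μ ≠ 0 → IsShift p N (sig μ) μ) :
    ∃ (r : ℕ) (ρL : G →* Module.End O (Fin r → O)) (Z : Module.End O (Fin r → O))
      (S : Finset (ZMod p)), (∀ g, Commute Z (ρL g)) ∧ ∑ i ∈ range p, Z ^ i = 0 ∧ S.Nonempty ∧
      (∀ μ ∈ S, μ ≠ 0) ∧
      ∀ g, ι (LinearMap.trace O _ (ρL g)) = ∑ μ ∈ S, sig μ ((χ : G → ℂ) g) := by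
  letI : Algebra (FractionRing O) ℂ :=
    (IsFractionRing.lift hι : FractionRing O →+* ℂ).toAlgebra
  haveI : CharZero (FractionRing O) :=
    charZero_of_injective_algebraMap (IsFractionRing.injective O (FractionRing O))
  haveI : FiniteDimensional (FractionRing O) (IntermediateField.adjoin (FractionRing O)
      {(ZMod.stdAddChar (1 : ZMod p) : ℂ)}) :=
    IntermediateField.adjoin.finiteDimensional (IsIntegral.of_pow hp.out.pos (by
      rw [← AddChar.map_nsmul_eq_pow, nsmul_one, ZMod.natCast_self, AddChar.map_zero_eq_one]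
      exact isIntegral_one))
  exact exists_lattice_aux (K := FractionRing O) _ rfl ι
    (fun a => IsFractionRing.lift_algebraMap hι a) hN hroots hexp χ
    sig hsig

end Cfsg.Agent.Lib.DefectTwist
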