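/-
Lattices over an unramified base with an endomorphism of prime order: the two Tate quotients.
-/
import Mathlib
import Cfsg.Agent.Lib.DefectTwist.Base

set_option autoImplicit false
set_option linter.unusedSectionVars false
set_option linter.style.haveILetI false

namespace Cfsg.Agent.Lib.DefectTwist

open Finset

variable {O : Type} [CommRing O] [IsDomain O] [IsPrincipalIdealRing O] [CharZero O]
variable {L : Type*} [AddCommGroup L] [Module O L] [Module.Free O L] [Module.Finite O L]

/-- `1 + z + ⋯ + z ^ (p - 1)`. -/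
def normEnd (p : ℕ) (z : Module.End O L) : Module.End O L := ∑ i ∈ range p, z ^ i

/-- `z + 2 z ^ 2 + ⋯`. -/
def weightEnd (p : ℕ) (z : Module.End O L) : Module.End O L :=
  ∑ i ∈ range p, (i : O) • z ^ i

/-- Fixed points. -/
def fixSub (z : Module.End O L) : Submodule O L := LinearMap.ker (z - 1)

/-- Norms. -/
def normSub (p : ℕ) (z : Module.End O L) : Submodule O L := LinearMap.range (normEnd p z)

/-- Elements of norm zero. -/
def kerNorm (p : ℕ) (z : Module.End O L) : Submodule O L := LinearMap.ker (normEnd p z)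

/-- Commutators `(z - 1) l`. -/
def augSub (z : Module.End O L) : Submodule O L := LinearMap.range (z - 1)

section Ring

variable {A : Type*} [Ring A] [Algebra O A]

theorem weight_identity (z : A) (p : ℕ) :
    (z - 1) * ∑ i ∈ range p, (i : O) • z ^ i = (p : O) • z ^ p - ∑ i ∈ range p, z ^ (i + 1) := by
  induction p with
  | zero => simp
  | succ n ih =>
    rw [Finset.sum_range_succ, Finset.sum_range_succ _ n, mul_add, ih, mul_smul_comm, sub_mul,
      one_mul, ← pow_succ']
    push_cast
    module

theorem sum_shift (z : A) {p : ℕ} (hz : z ^ p = 1) :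
    ∑ i ∈ range p, z ^ (i + 1) = ∑ i ∈ range p, z ^ i := by
  cases p with
  | zero => simp
  | succ n =>
    rw [Finset.sum_range_succ, Finset.sum_range_succ' (fun i => z ^ i), hz, pow_zero]

end Ring

variable {p : ℕ} {z : Module.End O L}

theorem natCast_ne_zero_base {p : ℕ} (hp : p ≠ 0) : (p : O) ≠ 0 := Nat.cast_ne_zero.mpr hp


theorem mem_fixSub {x : L} : x ∈ fixSub z ↔ z x = x := by
  simp [fixSub, sub_eq_zero]

theorem pow_apply_fix {x : L} (hx : x ∈ fixSub z) (i : ℕ) : (z ^ i) x = x := by
  induction i with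
  | zero => simp
  | succ n ih => rw [pow_succ, Module.End.mul_apply, mem_fixSub.mp hx, ih]

theorem normEnd_apply_fix {x : L} (hx : x ∈ fixSub z) : normEnd p z x = (p : O) • x := by
  simp [normEnd, LinearMap.sum_apply, pow_apply_fix hx, Nat.cast_smul_eq_nsmul]

theorem sub_one_mul_normEnd (hz : z ^ p = 1) : (z - 1) * normEnd p z = 0 := by
  rw [normEnd, mul_geom_sum, hz, sub_self]

theorem normEnd_mul_sub_one (hz : z ^ p = 1) : normEnd p z * (z - 1) = 0 := by
  rw [normEnd, geom_sum_mul, hz, sub_self]

theorem mul_normEnd (hz : z ^ p = 1) : z * normEnd p z = normEnd p z := by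
  have h := sub_one_mul_normEnd hz
  rwa [sub_mul, one_mul, sub_eq_zero] at h

theorem normEnd_mul (hz : z ^ p = 1) : normEnd p z * z = normEnd p z := by
  have h := normEnd_mul_sub_one hz
  rwa [mul_sub, mul_one, sub_eq_zero] at h

theorem normSub_le_fixSub (hz : z ^ p = 1) : normSub p z ≤ fixSub z := by
  rintro _ ⟨l, rfl⟩
  exact congrArg (fun f : Module.End O L => f l) (sub_one_mul_normEnd hz)

theorem augSub_le_kerNorm (hz : z ^ p = 1) : augSub z ≤ kerNorm p z := by
  rintro _ ⟨l, rfl⟩
  exact congrArg (fun f : Module.End O L => f l) (normEnd_mul_sub_one hz)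

theorem eq_zero_of_fix_kerNorm (hp : p ≠ 0) {x : L} (hx : x ∈ fixSub z) (hx' : x ∈ kerNorm p z) :
    x = 0 := by
  have h : normEnd p z x = 0 := hx'
  rw [normEnd_apply_fix hx] at h
  exact (smul_eq_zero.mp h).resolve_left (natCast_ne_zero_base hp)

theorem smul_mem_normSub {x : L} (hx : x ∈ fixSub z) : (p : O) • x ∈ normSub p z :=
  ⟨x, normEnd_apply_fix hx⟩

theorem weightEnd_identity (hz : z ^ p = 1) :
    (z - 1) * weightEnd p z = (p : O) • 1 - normEnd p z := by
  rw [weightEnd, weight_identity, sum_shift z hz, hz, normEnd]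

theorem weightEnd_identity_apply (hz : z ^ p = 1) (l : L) :
    z (weightEnd p z l) - weightEnd p z l = (p : O) • l - normEnd p z l :=
  congrArg (fun f : Module.End O L => f l) (weightEnd_identity hz)

theorem smul_mem_augSub (hz : z ^ p = 1) {x : L} (hx : x ∈ kerNorm p z) :
    (p : O) • x ∈ augSub z := by
  refine ⟨weightEnd p z x, ?_⟩
  have h : normEnd p z x = 0 := hx
  rw [LinearMap.sub_apply, Module.End.one_apply, weightEnd_identity_apply hz, h, sub_zero]

theorem commute_normEnd {g : Module.End O L} (h : Commute g z) : Commute g (normEnd p z) :=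
  Commute.sum_right _ _ _ fun i _ => h.pow_right i

theorem pow_pred_pow (hp : p ≠ 0) (hz : z ^ p = 1) : (z ^ (p - 1)) ^ p = 1 := by
  rw [← pow_mul, mul_comm, pow_mul, hz, one_pow]

theorem pow_pred_pow_eq (hp : p ≠ 0) (hz : z ^ p = 1) {i : ℕ} (hi : i < p) :
    (z ^ (p - 1)) ^ i = z ^ ((p - i) % p) := by
  have h1 : z ^ ((p - 1) * i) = z ^ (((p - 1) * i) % p) := by
    conv_lhs => rw [← Nat.mod_add_div ((p - 1) * i) p, pow_add, pow_mul, hz, one_pow, mul_one]
  rw [← pow_mul, h1]
  congr 1
  rcases Nat.eq_zero_or_pos i with rfl | hi0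
  · simp
  · have h2 : (p - 1) * i = (p - i) + p * (i - 1) := by
      obtain ⟨j, rfl⟩ : ∃ j, i = j + 1 := ⟨i - 1, by omega⟩
      obtain ⟨k, rfl⟩ : ∃ k, p = k + 1 := ⟨p - 1, by omega⟩
      simp only [Nat.add_sub_cancel]
      have : k + 1 - (j + 1) = k - j := by omega
      rw [this]
      have hjk : j ≤ k := by omega
      obtain ⟨m, rfl⟩ := Nat.exists_eq_add_of_le hjk
      rw [Nat.add_sub_cancel_left]
      ring
    rw [h2, Nat.add_mul_mod_self_left]

theorem normEnd_pow_pred (hp : p ≠ 0) (hz : z ^ p = 1) :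
    normEnd p (z ^ (p - 1)) = normEnd p z := by
  refine Finset.sum_nbij' (fun i => (p - i) % p) (fun i => (p - i) % p) ?_ ?_ ?_ ?_ ?_
  · intro i _
    exact mem_range.mpr (Nat.mod_lt _ (Nat.pos_of_ne_zero hp))
  · intro i _
    exact mem_range.mpr (Nat.mod_lt _ (Nat.pos_of_ne_zero hp))
  · intro i hi
    have hi' := mem_range.mp hi
    rcases Nat.eq_zero_or_pos i with rfl | h0
    · simp
    · show (p - (p - i) % p) % p = i
      rw [Nat.mod_eq_of_lt (by omega : p - i < p), Nat.mod_eq_of_lt (by omega)]
      omega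
  · intro i hi
    have hi' := mem_range.mp hi
    rcases Nat.eq_zero_or_pos i with rfl | h0
    · simp
    · show (p - (p - i) % p) % p = i
      rw [Nat.mod_eq_of_lt (by omega : p - i < p), Nat.mod_eq_of_lt (by omega)]
      omega
  · intro i hi
    exact pow_pred_pow_eq hp hz (mem_range.mp hi)

/-- The structure of a vector space over the residue field. -/
noncomputable abbrev moduleKp {p : ℕ} {X : Type*} [AddCommGroup X] [Module O X]
    (hX : ∀ x : X, (p : O) • x = 0) : Module (Kp p O) X :=
  Module.IsTorsionBySet.module (R := O) (M := X) (I := Ideal.span {(p : O)}) (by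
    intro x a
    obtain ⟨c, hc⟩ := Ideal.mem_span_singleton'.mp a.2
    show (a : O) • x = 0
    rw [← hc, mul_smul, hX, smul_zero])

/-- A linear map over `O` between spaces killed by `p` as a linear map over the residue field. -/
noncomputable def toKpLinear {p : ℕ} {X Y : Type*} [AddCommGroup X] [Module O X]
    [AddCommGroup Y] [Module O Y] (hX : ∀ x : X, (p : O) • x = 0)
    (hY : ∀ y : Y, (p : O) • y = 0) (f : X →ₗ[O] Y) :
    letI := moduleKp hX; letI := moduleKp hY; X →ₗ[Kp p O] Y :=
  letI := moduleKp hX; letI := moduleKp hY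
  { toFun := f
    map_add' := f.map_add
    map_smul' := fun c x => by
      obtain ⟨a, rfl⟩ := Ideal.Quotient.mk_surjective c
      exact f.map_smul a x }

/-- Maps between spaces killed by `p` extend along injections. -/
theorem exists_extend {X Y Z : Type*} [AddCommGroup X] [AddCommGroup Y] [AddCommGroup Z]
    [Module O X] [Module O Y] [Module O Z] {p : ℕ} [UnramBase p O]
    (hX : ∀ x : X, (p : O) • x = 0) (hY : ∀ y : Y, (p : O) • y = 0)
    (hZ : ∀ w : Z, (p : O) • w = 0) (ι : X →ₗ[O] Y) (hι : Function.Injective ι) (h : X →ₗ[O] Z) :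
    ∃ k : Y →ₗ[O] Z, ∀ x, k (ι x) = h x := by
  letI := moduleKp hX
  letI := moduleKp hY
  letI := moduleKp hZ
  obtain ⟨r, hr⟩ := (toKpLinear hX hY ι).exists_leftInverse_of_injective
    (LinearMap.ker_eq_bot.mpr hι)
  exact ⟨{ toFun := fun y => h (r y)
           map_add' := fun a b => by rw [map_add, map_add]
           map_smul' := fun c y => by
             show h (r (c • y)) = c • h (r y)
             rw [← map_smul h]
             exact congrArg h (r.map_smul (redK p c) y) },
    fun x => congrArg h (LinearMap.congr_fun hr x)⟩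

/-- Maps between spaces killed by `p` lift along surjections. -/
theorem exists_lift {X Y Z : Type*} [AddCommGroup X] [AddCommGroup Y] [AddCommGroup Z]
    [Module O X] [Module O Y] [Module O Z] {p : ℕ} [UnramBase p O]
    (hX : ∀ x : X, (p : O) • x = 0) (hY : ∀ y : Y, (p : O) • y = 0)
    (hZ : ∀ w : Z, (p : O) • w = 0) (π : Y →ₗ[O] Z) (hπ : Function.Surjective π) (h : X →ₗ[O] Z) :
    ∃ k : X →ₗ[O] Y, ∀ x, π (k x) = h x := by
  letI := moduleKp hX
  letI := moduleKp hY
  letI := moduleKp hZ
  obtain ⟨r, hr⟩ := (toKpLinear hY hZ π).exists_rightInverse_of_surjective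
    (LinearMap.range_eq_top.mpr hπ)
  exact ⟨{ toFun := fun x => r (h x)
           map_add' := fun a b => by rw [map_add, map_add]
           map_smul' := fun c x => by
             show r (h (c • x)) = c • r (h x)
             rw [map_smul]
             exact r.map_smul (redK p c) (h x) },
    fun x => LinearMap.congr_fun hr (h x)⟩

theorem quot_smul_eq_zero {M : Type*} [AddCommGroup M] [Module O M] (S : Submodule O M)
    (h : ∀ m : M, (p : O) • m ∈ S) (q : M ⧸ S) : (p : O) • q = 0 := by
  induction q using Submodule.Quotient.induction_on with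
  | H x =>
    rw [← Submodule.Quotient.mk_smul, Submodule.Quotient.mk_eq_zero]
    exact h x

/-- Multiples of `p`. -/
def smulSub (p : ℕ) (M : Type*) [AddCommGroup M] [Module O M] : Submodule O M :=
  LinearMap.range ((p : O) • (LinearMap.id : M →ₗ[O] M))

theorem mem_smulSub {M : Type*} [AddCommGroup M] [Module O M] {x : M} :
    x ∈ smulSub (O := O) p M ↔ ∃ y, (p : O) • y = x := by
  simp [smulSub]

/-- The quotient `ker (z - 1) / range T`. -/
abbrev HatZero (p : ℕ) (z : Module.End O L) : Type _ :=
  (fixSub z) ⧸ (normSub p z).comap (fixSub z).subtype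

/-- The quotient `ker T / range (z - 1)`. -/
abbrev HatMinus (p : ℕ) (z : Module.End O L) : Type _ :=
  (kerNorm p z) ⧸ (augSub z).comap (kerNorm p z).subtype

theorem hatZero_smul (q : HatZero p z) : (p : O) • q = 0 :=
  quot_smul_eq_zero ((normSub p z).comap (fixSub z).subtype)
    (fun m : fixSub z => smul_mem_normSub m.2) q

theorem hatMinus_smul (hz : z ^ p = 1) (q : HatMinus p z) : (p : O) • q = 0 :=
  quot_smul_eq_zero ((augSub z).comap (kerNorm p z).subtype)
    (fun m : kerNorm p z => smul_mem_augSub hz m.2) q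

/-- Every endomorphism of `ker (z - 1) / range T` is induced by a `z`-equivariant map. -/
theorem exists_fix_lift [Fact p.Prime] [UnramBase p O] (hz : z ^ p = 1) (h : HatZero p z →ₗ[O] HatZero p z) :
    ∃ g : Module.End O L, Commute g z ∧ ∀ x : fixSub z, ∃ hx : g x ∈ fixSub z,
      h (Submodule.Quotient.mk x) = Submodule.Quotient.mk ⟨g x, hx⟩ := by
  let ι₀ : fixSub z →ₗ[O] normSub p z := (normEnd p z).rangeRestrict ∘ₗ (fixSub z).subtype
  let ι : HatZero p z →ₗ[O] normSub p z ⧸ smulSub p (normSub p z) :=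
    Submodule.liftQ _ ((smulSub p (normSub p z)).mkQ ∘ₗ ι₀) (fun x hx => by
      obtain ⟨l, hl⟩ := hx
      rw [LinearMap.mem_ker, LinearMap.comp_apply, Submodule.mkQ_apply,
        Submodule.Quotient.mk_eq_zero, mem_smulSub]
      refine ⟨⟨x.1, ⟨l, hl⟩⟩, Subtype.ext ?_⟩
      exact (normEnd_apply_fix x.2).symm)
  have hι : Function.Injective ι := by
    rw [← LinearMap.ker_eq_bot, eq_bot_iff]
    intro q hq
    induction q using Submodule.Quotient.induction_on with
    | H x =>
      have hq' : (smulSub p (normSub p z)).mkQ (ι₀ x) = 0 := hq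
      rw [Submodule.mkQ_apply, Submodule.Quotient.mk_eq_zero, mem_smulSub] at hq'
      obtain ⟨⟨y, hy⟩, he⟩ := hq'
      have he' : (p : O) • y = normEnd p z x.1 := congrArg Subtype.val he
      rw [normEnd_apply_fix x.2] at he'
      rw [Submodule.mem_bot, Submodule.Quotient.mk_eq_zero]
      have : y = x.1 := smul_right_injective L
        (natCast_ne_zero_base (Fact.out : p.Prime).ne_zero) he'
      show x.1 ∈ normSub p z
      rw [← this]
      exact hy
  obtain ⟨k, hk⟩ := exists_extend hatZero_smul
    (quot_smul_eq_zero _ fun m => mem_smulSub.mpr ⟨m, rfl⟩) hatZero_smul ι hι h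
  obtain ⟨φ, hφ⟩ := Module.projective_lifting_property ((normSub p z).comap (fixSub z).subtype).mkQ
    (k ∘ₗ (smulSub p (normSub p z)).mkQ) (Submodule.mkQ_surjective _)
  refine ⟨(fixSub z).subtype ∘ₗ φ ∘ₗ (normEnd p z).rangeRestrict, ?_, fun x => ⟨(φ _).2, ?_⟩⟩
  · refine LinearMap.ext fun l => ?_
    show (φ ((normEnd p z).rangeRestrict (z l))).1 = z (φ ((normEnd p z).rangeRestrict l)).1
    have hrr : (normEnd p z).rangeRestrict (z l) = (normEnd p z).rangeRestrict l :=
      Subtype.ext (congrArg (fun f : Module.End O L => f l) (normEnd_mul hz))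
    rw [mem_fixSub.mp (φ ((normEnd p z).rangeRestrict l)).2, hrr]
  · exact ((LinearMap.congr_fun hφ (ι₀ x)).trans (hk (Submodule.Quotient.mk x))).symm

/-- Every endomorphism of `ker T / range (z - 1)` is induced by a `z`-equivariant map. -/
theorem exists_kerNorm_lift [Fact p.Prime] [UnramBase p O] (hz : z ^ p = 1) (h : HatMinus p z →ₗ[O] HatMinus p z) :
    ∃ g : Module.End O L, Commute g z ∧ ∀ x : kerNorm p z, ∃ hx : g x ∈ kerNorm p z,
      h (Submodule.Quotient.mk x) = Submodule.Quotient.mk ⟨g x, hx⟩ := by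
  have hp : p ≠ 0 := (Fact.out : p.Prime).ne_zero
  have hp' : (p : O) ≠ 0 := natCast_ne_zero_base hp
  set K := kerNorm p z
  set zi := z ^ (p - 1)
  have hzi : zi ^ p = 1 := pow_pred_pow hp hz
  have hzi1 : zi * z = 1 := by rw [← pow_succ, Nat.sub_add_cancel (Nat.pos_of_ne_zero hp), hz]
  have hzi2 : z * zi = 1 := by rw [← pow_succ', Nat.sub_add_cancel (Nat.pos_of_ne_zero hp), hz]
  -- the embedding into `L / (p L + range T)`
  let U : Submodule O L := smulSub p L ⊔ normSub p z
  let ι₀ : K →ₗ[O] L ⧸ U := U.mkQ ∘ₗ weightEnd p zi ∘ₗ K.subtype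
  have hι₀ : ∀ x : K, x ∈ (augSub z).comap K.subtype → ι₀ x = 0 := by
    rintro x ⟨l, hl⟩
    rw [LinearMap.comp_apply, LinearMap.comp_apply, Submodule.mkQ_apply,
      Submodule.Quotient.mk_eq_zero, ← hl]
    have hc : weightEnd p zi * (z - 1) = ((p : O) • 1 - normEnd p z) * (-z) := by
      have h1 := weightEnd_identity hzi
      rw [normEnd_pow_pred hp hz] at h1
      rw [← h1]
      have h2 : (zi - 1) * -z = z - 1 := by rw [mul_neg, sub_mul, one_mul, hzi1, neg_sub]
      have h3 : Commute (weightEnd p zi) (zi - 1) :=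
        Commute.sum_left _ _ _ fun i _ =>
          (((Commute.refl zi).pow_left i).sub_right (Commute.one_right _)).smul_left _
      rw [← h2, ← mul_assoc, h3.eq]
    have h4 := congrArg (fun f : Module.End O L => f l) hc
    simp only [Module.End.mul_apply] at h4
    refine h4 ▸ ?_
    simp only [LinearMap.sub_apply, LinearMap.smul_apply, Module.End.one_apply, LinearMap.neg_apply]
    exact Submodule.sub_mem _ (Submodule.mem_sup_left (mem_smulSub.mpr ⟨_, rfl⟩))
      (Submodule.mem_sup_right ⟨_, rfl⟩)
  let ι : HatMinus p z →ₗ[O] L ⧸ U :=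
    Submodule.liftQ _ ι₀ (fun x hx => LinearMap.mem_ker.mpr (hι₀ x hx))
  have hι : Function.Injective ι := by
    rw [← LinearMap.ker_eq_bot, eq_bot_iff]
    intro q hq
    induction q using Submodule.Quotient.induction_on with
    | H x =>
      have hq' : ι₀ x = 0 := hq
      rw [LinearMap.comp_apply, LinearMap.comp_apply, Submodule.mkQ_apply,
        Submodule.Quotient.mk_eq_zero, Submodule.mem_sup] at hq'
      obtain ⟨_, ha, _, ⟨l, rfl⟩, hsum⟩ := hq'
      obtain ⟨m, rfl⟩ := mem_smulSub.mp ha
      have h1 := weightEnd_identity_apply hzi x.1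
      rw [normEnd_pow_pred hp hz, show normEnd p z x.1 = 0 from x.2, sub_zero] at h1
      have h2 : zi (normEnd p z l) = normEnd p z l := by
        rw [pow_apply_fix (normSub_le_fixSub hz ⟨l, rfl⟩)]
      rw [Submodule.mem_bot, Submodule.Quotient.mk_eq_zero]
      have h3 : x.1 = zi m - m := by
        apply smul_right_injective L hp'
        show (p : O) • x.1 = (p : O) • (zi m - m)
        rw [← h1, show weightEnd p zi x.1 = _ from hsum.symm, map_add, map_smul, h2, smul_sub]
        abel
      refine ⟨-(zi m), ?_⟩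
      rw [LinearMap.sub_apply, Module.End.one_apply, map_neg,
        show z (zi m) = m from congrArg (fun f : Module.End O L => f m) hzi2]
      exact (by rw [h3]; abel : -m - -zi m = x.1)
  have hU : ∀ l : L, (p : O) • l ∈ U := fun l => Submodule.mem_sup_left (mem_smulSub.mpr ⟨l, rfl⟩)
  obtain ⟨k, hk⟩ := exists_extend (hatMinus_smul hz) (quot_smul_eq_zero _ hU) (hatMinus_smul hz)
    ι hι h
  -- lift into `K / p K`
  let π : (K ⧸ smulSub p K) →ₗ[O] HatMinus p z := Submodule.mapQ _ _ LinearMap.id (fun x hx => by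
    obtain ⟨y, rfl⟩ := mem_smulSub.mp hx
    exact smul_mem_augSub hz y.2)
  have hπ : Function.Surjective π := fun q => by
    induction q using Submodule.Quotient.induction_on with
    | H x => exact ⟨Submodule.Quotient.mk x, rfl⟩
  obtain ⟨k', hk'⟩ := exists_lift (quot_smul_eq_zero _ hU)
    (quot_smul_eq_zero _ fun m => mem_smulSub.mpr ⟨m, rfl⟩) (hatMinus_smul hz)
    π hπ k
  obtain ⟨φ, hφ⟩ := Module.projective_lifting_property (smulSub p K).mkQ
    (k' ∘ₗ U.mkQ) (Submodule.mkQ_surjective _)
  -- `φ` maps norms to multiples of `p`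
  have hdiv : ∀ r : normSub p z, ∃ y : K, (p : O) • y = φ r.1 := fun r => by
    rw [← mem_smulSub, ← Submodule.Quotient.mk_eq_zero]
    have h0 : (U.mkQ r.1 : L ⧸ U) = 0 :=
      (Submodule.Quotient.mk_eq_zero U).mpr (Submodule.mem_sup_right r.2)
    exact (LinearMap.congr_fun hφ r.1).trans (by simp only [LinearMap.comp_apply, h0]; exact map_zero k')
  choose q₀ hq₀ using hdiv
  let q : normSub p z →ₗ[O] K :=
    { toFun := q₀
      map_add' := fun a b => smul_right_injective K hp' (by
        show (p : O) • q₀ (a + b) = (p : O) • (q₀ a + q₀ b)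
        rw [smul_add, hq₀, hq₀, hq₀, Submodule.coe_add, map_add])
      map_smul' := fun c a => smul_right_injective K hp' (by
        show (p : O) • q₀ (c • a) = (p : O) • (RingHom.id O) c • q₀ a
        rw [RingHom.id_apply, smul_comm, hq₀, hq₀, Submodule.coe_smul, map_smul]) }
  let φ' : L →ₗ[O] L := K.subtype ∘ₗ φ
  let Q : L →ₗ[O] L := K.subtype ∘ₗ q ∘ₗ (normEnd p z).rangeRestrict
  let S : ℕ → Module.End O L := fun i => ∑ j ∈ range i, z ^ j
  let g : Module.End O L := (∑ i ∈ range p, S i * φ' * zi ^ i) + weightEnd p z * Q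
  have hQp : ∀ l, (p : O) • Q l = φ' (normEnd p z l) := fun l =>
    congrArg Subtype.val (hq₀ ((normEnd p z).rangeRestrict l))
  have hQz : ∀ l, Q (z l) = Q l := fun l => by
    have hrr : (normEnd p z).rangeRestrict (z l) = (normEnd p z).rangeRestrict l :=
      Subtype.ext (congrArg (fun f : Module.End O L => f l) (normEnd_mul hz))
    show ((q ((normEnd p z).rangeRestrict (z l))) : L) = _
    rw [hrr]
    rfl
  have hQT : ∀ l, normEnd p z (Q l) = 0 := fun l => (q _).2
  have hφT : ∀ l, normEnd p z (φ' l) = 0 := fun l => (φ l).2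
  have hTSum : ∀ l, ∑ i ∈ range p, φ' ((zi ^ i) l) = φ' (normEnd p z l) := fun l => by
    rw [← map_sum, ← LinearMap.sum_apply, show (∑ i ∈ range p, zi ^ i) = normEnd p z from
      normEnd_pow_pred hp hz]
  refine ⟨g, ?_, fun x => ?_⟩
  · refine LinearMap.ext fun l => ?_
    show g (z l) = z (g l)
    simp only [g, LinearMap.add_apply, LinearMap.sum_apply, Module.End.mul_apply, map_add, map_sum]
    have hW : z (weightEnd p z (Q l)) = weightEnd p z (Q l) + (p : O) • Q l := by
      have h1 := weightEnd_identity_apply hz (Q l)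
      rw [hQT, sub_zero, sub_eq_iff_eq_add] at h1
      rw [h1, add_comm]
    have hzS : ∀ i w, z (S i w) = S (i + 1) w - w := by
      intro i w
      simp only [S, LinearMap.sum_apply, map_sum, Finset.sum_range_succ' (fun j => (z ^ j) w) i,
        pow_zero, Module.End.one_apply, add_sub_cancel_right]
      exact Finset.sum_congr rfl fun j _ => by rw [pow_succ', Module.End.mul_apply]
    rw [hQz, hW]
    simp only [hzS, Finset.sum_sub_distrib, hTSum, hQp]
    have hshift : ∑ i ∈ range p, S i (φ' ((zi ^ i) (z l))) =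
        ∑ i ∈ range p, S (i + 1) (φ' ((zi ^ i) l)) := by
      obtain ⟨n, hn⟩ : ∃ n, p = n + 1 := ⟨p - 1, by omega⟩
      have hSp : ∀ w : L, normEnd p z w = 0 → S p w = 0 := fun w hw => hw
      have hzil : ∀ i, (zi ^ (i + 1)) (z l) = (zi ^ i) l := fun i => by
        rw [pow_succ, Module.End.mul_apply]
        exact congrArg (zi ^ i) (congrArg (fun f : Module.End O L => f l) hzi1)
      rw [hn, Finset.sum_range_succ', Finset.sum_range_succ
        (fun i => S (i + 1) (φ' ((zi ^ i) l))), ← hn, hSp _ (hφT _)]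
      simp [S, hzil]
    rw [hshift]
    abel
  · have hx0 : normEnd p z x.1 = 0 := x.2
    have hQx : Q x.1 = 0 := by
      apply smul_right_injective L hp'
      show (p : O) • Q x.1 = (p : O) • (0 : L)
      rw [hQp, hx0, map_zero, smul_zero]
    have hgx : g x.1 = ∑ i ∈ range p, S i (φ' ((zi ^ i) x.1)) := by
      simp [g, LinearMap.add_apply, LinearMap.sum_apply, Module.End.mul_apply, hQx]
    have hgK : g x.1 ∈ kerNorm p z := by
      rw [hgx]
      refine Submodule.sum_mem _ fun i _ => ?_
      have hc : Commute (normEnd p z) (S i) :=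
        Commute.sum_right _ _ _ fun j _ => ((commute_normEnd (Commute.refl z)).symm).pow_right j
      show normEnd p z (S i (φ' ((zi ^ i) x.1))) = 0
      rw [← Module.End.mul_apply, hc.eq, Module.End.mul_apply, hφT, map_zero]
    refine ⟨hgK, ?_⟩
    have hval : h (Submodule.Quotient.mk x) =
        Submodule.Quotient.mk (φ (weightEnd p zi x.1)) := by
      rw [← hk]
      show k (U.mkQ (weightEnd p zi x.1)) = _
      rw [← hk']
      show π (k' (U.mkQ (weightEnd p zi x.1))) = _
      have h1 := LinearMap.congr_fun hφ (weightEnd p zi x.1)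
      simp only [LinearMap.comp_apply, AddMonoidHom.coe_toIntLinearMap] at h1
      rw [← h1]
      rfl
    rw [hval, Submodule.Quotient.eq]
    show (φ (weightEnd p zi x.1) : L) - g x.1 ∈ augSub z
    rw [hgx, show (φ (weightEnd p zi x.1) : L) = φ' (weightEnd p zi x.1) from rfl]
    simp only [weightEnd, LinearMap.sum_apply, LinearMap.smul_apply, map_sum, map_smul,
      ← Finset.sum_sub_distrib]
    refine Submodule.sum_mem _ fun i hi => ?_
    clear hi
    generalize φ' ((zi ^ i) x.1) = w
    induction i with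
    | zero => simp [S]
    | succ i ih =>
      have : (((i + 1 : ℕ) : O) • w - S (i + 1) w) = ((i : O) • w - S i w) + (w - (z ^ i) w) := by
        simp only [S, Finset.sum_range_succ, LinearMap.add_apply]
        push_cast
        module
      rw [this]
      refine Submodule.add_mem _ ih ?_
      have h2 : (z ^ i) w - w ∈ augSub z := ⟨S i w, by
        rw [← Module.End.mul_apply, mul_geom_sum]
        rfl⟩
      simpa using Submodule.neg_mem _ h2

theorem trace_normEnd (hz : z ^ p = 1) :
    LinearMap.trace O L (normEnd p z) = (p : O) * Module.finrank O (fixSub z) := by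
  rw [← LinearMap.trace_restrict_eq_of_forall_mem (fixSub z) (normEnd p z)
    (fun x => normSub_le_fixSub hz ⟨x, rfl⟩)]
  have h : (normEnd p z).restrict (p := fixSub z) (q := fixSub z)
      (fun x _ => normSub_le_fixSub hz ⟨x, rfl⟩) = (p : O) • LinearMap.id := by
    refine LinearMap.ext fun x => Subtype.ext ?_
    exact normEnd_apply_fix x.2
  rw [h, map_smul, LinearMap.trace_id, smul_eq_mul]

/-- The index of the multiples of `p`. -/
theorem index_range_smul [Fact p.Prime] [UnramBase p O] (M : Type*) [AddCommGroup M] [Module O M]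
    [Module.Free O M] [Module.Finite O M] :
    (smulSub (O := O) p M).toAddSubgroup.index = Nat.card (Kp p O) ^ Module.finrank O M := by
  classical
  let b := Module.finBasis O M
  let f : M →+ (Fin (Module.finrank O M) → Kp p O) :=
    { toFun := fun x i => redK p (b.repr x i)
      map_zero' := funext fun i => by simp
      map_add' := fun x y => funext fun i => by simp }
  have hker : f.ker = (smulSub (O := O) p M).toAddSubgroup := by
    ext x
    rw [AddMonoidHom.mem_ker, Submodule.mem_toAddSubgroup, mem_smulSub]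
    constructor
    · intro h
      choose c hc using fun i => redK_eq_zero_iff.mp (congrFun h i)
      refine ⟨∑ i, c i • b i, ?_⟩
      conv_rhs => rw [← b.sum_repr x]
      simp only [Finset.smul_sum, smul_smul, ← hc]
    · rintro ⟨y, rfl⟩
      funext i
      show redK p (b.repr ((p : O) • y) i) = 0
      rw [map_smul, Finsupp.smul_apply, smul_eq_mul, map_mul, map_natCast, natCast_redK_self,
        zero_mul]
  have hsurj : Function.Surjective f := fun g => by
    choose c hc using fun i => Ideal.Quotient.mk_surjective (g i)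
    refine ⟨∑ i, c i • b i, funext fun i => ?_⟩
    show redK p (b.repr _ i) = g i
    rw [b.repr_sum_self, hc]
  rw [← hker, AddSubgroup.index_ker, AddMonoidHom.range_eq_top.mpr hsurj, AddSubgroup.card_top,
    Nat.card_fun, Nat.card_fin]

/-- The indices of the images of the powers of an injective endomorphism. -/
theorem index_range_pow {M : Type*} [AddCommGroup M] [Module O M] {f : Module.End O M}
    (hf : Function.Injective f) (j : ℕ) :
    (f ^ j).range.toAddSubgroup.index = f.range.toAddSubgroup.index ^ j := by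
  induction j with
  | zero => simp [Module.End.one_eq_id]
  | succ j ih =>
    have hle : (f ^ (j + 1)).range.toAddSubgroup ≤ f.range.toAddSubgroup := by
      rintro _ ⟨y, rfl⟩
      exact ⟨(f ^ j) y, by rw [pow_succ', Module.End.mul_apply]⟩
    rw [← AddSubgroup.relIndex_mul_index hle, pow_succ f.range.toAddSubgroup.index]
    congr 1
    have e1 : (f ^ (j + 1)).range.toAddSubgroup =
        (f ^ j).range.toAddSubgroup.map f.toAddMonoidHom := by
      rw [pow_succ', Module.End.mul_eq_comp, LinearMap.range_comp]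
      rfl
    have e2 : f.range.toAddSubgroup = (⊤ : AddSubgroup _).map f.toAddMonoidHom := by
      ext y
      simp
    refine Eq.trans ?_ ih
    rw [e1]
    conv_lhs => rw [e2]
    rw [AddSubgroup.relIndex_map_map_of_injective _ _ hf, AddSubgroup.relIndex_top_right]

open Polynomial in
/-- `(ζ - 1) ^ (p - 1)` is `p` times a unit. -/
theorem exists_unit_pow [hp : Fact p.Prime] {A : Type*} [Ring A] [Algebra O A] (f : A)
    (hs : ∑ i ∈ range p, (f + 1) ^ i = 0) :
    ∃ Q : A, IsUnit Q ∧ f ^ (p - 1) = (p : O) • Q ∧ Commute f Q := by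
  obtain ⟨n, hn⟩ : ∃ n, p = n + 2 := ⟨p - 2, by have := hp.out.two_le; omega⟩
  let cf : ℕ → O := fun j => ((p.choose (j + 1) / p : ℕ) : O)
  let S : A := ∑ j ∈ range n, cf (j + 1) • f ^ j
  have hfS : Commute f S :=
    Commute.sum_right _ _ _ fun j _ => ((Commute.refl f).pow_right j).smul_right _
  have hexp : ∑ j ∈ range p, ((p.choose (j + 1) : ℕ) : A) * f ^ j = 0 := by
    have h1 := congrArg (Polynomial.aeval (R := ℤ) f) (geom_sum_X_comp_X_add_one_eq_sum (R := ℤ) p)
    simp only [Polynomial.aeval_comp, map_sum, map_pow, aeval_X, map_add, map_one, map_mul,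
      map_natCast, hs] at h1
    rw [eq_comm] at h1
    simpa [Nat.cast_comm] using h1
  have h7 : f ^ (p - 1) = (p : O) • -(1 + f * S) := by
    rw [smul_neg, eq_neg_iff_add_eq_zero]
    rw [show range p = range (n + 1 + 1) by rw [hn], Finset.sum_range_succ,
      Finset.sum_range_succ'] at hexp
    have hlast : p.choose (n + 1 + 1) = 1 := by rw [← hn, Nat.choose_self]
    simp only [hlast, Nat.cast_one, one_mul, pow_zero, mul_one, zero_add, Nat.choose_one_right]
      at hexp
    have h2 : ∑ j ∈ range n, ((p.choose (j + 1 + 1) : ℕ) : A) * f ^ (j + 1) = (p : O) • (f * S) := by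
      simp only [S, Finset.mul_sum, Finset.smul_sum, mul_smul_comm, ← pow_succ', smul_smul]
      refine Finset.sum_congr rfl fun j hj => ?_
      have hdvd : p ∣ p.choose (j + 1 + 1) :=
        hp.out.dvd_choose_self (Nat.succ_ne_zero _) (by have := mem_range.mp hj; omega)
      simp only [cf]
      rw [← Nat.cast_mul, Nat.mul_div_cancel' hdvd, Nat.cast_smul_eq_nsmul, nsmul_eq_mul]
    rw [h2] at hexp
    rw [show p - 1 = n + 1 by omega, smul_add, show (p : O) • (1 : A) = (p : A) by
      rw [Nat.cast_smul_eq_nsmul, nsmul_one], ← hexp]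
    abel
  refine ⟨-(1 + f * S), IsUnit.neg ?_, h7,
    ((Commute.one_right f).add_right ((Commute.refl f).mul_right hfS)).neg_right⟩
  set Q : A := 1 + f * S with hQ
  set Y : A := -(f * S) with hY
  have hgeom : Q * ∑ j ∈ range (p - 1), Y ^ j = 1 - Y ^ (p - 1) := by
    rw [hQ, show (1 : A) + f * S = 1 - Y by rw [hY, sub_neg_eq_add], mul_neg_geom_sum]
  have hcQS : Commute Q S := (Commute.one_left S).add_left (hfS.mul_left (Commute.refl S))
  have hYp : Y ^ (p - 1) = Q * ((-1) ^ (p - 1) * (-((p : O) • S ^ (p - 1)))) := by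
    rw [hY, neg_pow, hfS.mul_pow, h7]
    simp only [neg_mul, mul_neg, smul_mul_assoc, mul_smul_comm, smul_neg, ← mul_assoc]
    rw [((Commute.neg_one_right Q).pow_right (p - 1)).eq]
  have hcf : Commute Q f := (Commute.one_left f).add_left ((Commute.refl f).mul_left hfS.symm)
  have hc : Commute Q ((∑ j ∈ range (p - 1), Y ^ j) +
      ((-1) ^ (p - 1) * (-((p : O) • S ^ (p - 1))))) := by
    refine (Commute.sum_right _ _ _ fun j _ => ?_).add_right
      (((Commute.neg_one_right Q).pow_right _).mul_right
        (((hcQS.pow_right _).smul_right _).neg_right))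
    exact ((hcf.mul_right hcQS).neg_right).pow_right j
  refine ⟨⟨Q, (∑ j ∈ range (p - 1), Y ^ j) + ((-1) ^ (p - 1) * (-((p : O) • S ^ (p - 1)))), ?_, ?_⟩,
    rfl⟩
  · show Q * ((∑ j ∈ range (p - 1), Y ^ j) + ((-1) ^ (p - 1) * (-((p : O) • S ^ (p - 1))))) = 1
    rw [mul_add, hgeom, ← hYp, sub_add_cancel]
  · rw [← hc.eq, mul_add, hgeom, ← hYp, sub_add_cancel]

/-- The index of the image of `f` when `f ^ (p - 1)` is `p` times a unit. -/
theorem index_range_pow_pred [hp : Fact p.Prime] [UnramBase p O] {M : Type*} [AddCommGroup M]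
    [Module O M] [Module.Free O M] [Module.Finite O M] {f Q : Module.End O M} (hQ : IsUnit Q)
    (h : f ^ (p - 1) = (p : O) • Q) :
    Function.Injective f ∧
      f.range.toAddSubgroup.index ^ (p - 1) = Nat.card (Kp p O) ^ Module.finrank O M := by
  obtain ⟨u, rfl⟩ := hQ
  have hinv : ∀ y, (↑u : Module.End O M) ((↑u⁻¹ : Module.End O M) y) = y := fun y => by
    rw [← Module.End.mul_apply, Units.mul_inv, Module.End.one_apply]
  have hinv' : ∀ y, (↑u⁻¹ : Module.End O M) ((↑u : Module.End O M) y) = y := fun y => by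
    rw [← Module.End.mul_apply, Units.inv_mul, Module.End.one_apply]
  have hf : Function.Injective f := by
    rw [← LinearMap.ker_eq_bot, eq_bot_iff]
    intro x hx
    have h1 : ((f ^ (p - 1)) x) = 0 := by
      rw [show p - 1 = (p - 2) + 1 by have := hp.out.two_le; omega, pow_succ, Module.End.mul_apply,
        show f x = 0 from hx, map_zero]
    rw [h, LinearMap.smul_apply] at h1
    have h2 : (↑u : Module.End O M) x = 0 :=
      (smul_eq_zero.mp h1).resolve_left (natCast_ne_zero_base hp.out.ne_zero)
    rw [Submodule.mem_bot, ← hinv' x, h2, map_zero]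
  refine ⟨hf, ?_⟩
  rw [← index_range_pow hf, ← index_range_smul M, h]
  congr 1
  ext x
  rw [Submodule.mem_toAddSubgroup, Submodule.mem_toAddSubgroup, mem_smulSub, LinearMap.mem_range]
  constructor
  · rintro ⟨y, rfl⟩
    exact ⟨_, rfl⟩
  · rintro ⟨y, rfl⟩
    exact ⟨(↑u⁻¹ : Module.End O M) y, by rw [LinearMap.smul_apply, hinv]⟩

/-- The orders of the two Tate quotients and the trace of `z`. -/
theorem herbrand [hp : Fact p.Prime] [UnramBase p O] (hz : z ^ p = 1) :
    ∃ a b : ℕ, Nat.card (HatZero p z) = Nat.card (Kp p O) ^ a ∧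
      Nat.card (HatMinus p z) = Nat.card (Kp p O) ^ b ∧
      ∀ E : ℤ, (E : O) = LinearMap.trace O L (normEnd p z) - Module.finrank O L →
        ((p : ℤ) - 1) * ((a : ℤ) - b) = E := by
  set T := normEnd p z with hT
  set P0 := Nat.card (Kp p O) with hP0
  have hP2 : 2 ≤ P0 := Finite.one_lt_card
  let F := (fixSub z).toAddSubgroup
  let K := (kerNorm p z).toAddSubgroup
  let R := (normSub p z).toAddSubgroup
  let I := (augSub z).toAddSubgroup
  let Tm : L →+ L := T.toAddMonoidHom
  let fm : L →+ L := (z - 1).toAddMonoidHom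
  have hA : Nat.card (HatZero p z) = R.relIndex F := by
    rw [AddSubgroup.relIndex, AddSubgroup.index_eq_card]
    rfl
  have hB : Nat.card (HatMinus p z) = I.relIndex K := by
    rw [AddSubgroup.relIndex, AddSubgroup.index_eq_card]
    rfl
  set d := (F ⊔ K).index with hd
  -- norms
  have h1 : (F.map Tm).relIndex F = P0 ^ Module.finrank O (fixSub z) := by
    rw [hP0, ← index_range_smul (fixSub z), AddSubgroup.relIndex]
    congr 1
    ext x
    rw [AddSubgroup.mem_addSubgroupOf, Submodule.mem_toAddSubgroup]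
    refine Iff.trans ?_ (mem_smulSub (O := O) (p := p) (M := fixSub z) (x := x)).symm
    constructor
    · rintro ⟨y, hy, he⟩
      exact ⟨⟨y, hy⟩, Subtype.ext ((normEnd_apply_fix hy).symm.trans he)⟩
    · rintro ⟨y, rfl⟩
      exact ⟨y.1, y.2, normEnd_apply_fix y.2⟩
  have hRtop : R = (⊤ : AddSubgroup L).map Tm := by
    ext y
    simp [R, normSub, Tm, hT]
  have h2 : (F.map Tm).relIndex R = d := by
    rw [hRtop, AddSubgroup.relIndex_map_map, top_sup_eq, AddSubgroup.relIndex_top_right]
    rfl
  have hIdef : I = (⊤ : AddSubgroup L).map fm := by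
    ext y
    simp [I, augSub, fm]
  have h3 : (K.map fm).relIndex I = d := by
    rw [hIdef, AddSubgroup.relIndex_map_map, top_sup_eq, AddSubgroup.relIndex_top_right, hd]
    congr 1
    rw [sup_comm]
    rfl
  have h4 : d * R.relIndex F = P0 ^ Module.finrank O (fixSub z) := by
    rw [← h1, ← h2]
    refine AddSubgroup.relIndex_mul_relIndex _ _ _ ?_ (normSub_le_fixSub hz)
    rintro _ ⟨x, -, rfl⟩
    exact ⟨x, rfl⟩
  -- the restriction of `z - 1` to `K`
  let f : Module.End O (kerNorm p z) := (z - 1).restrict fun x hx => by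
    show T ((z - 1) x) = 0
    rw [← Module.End.mul_apply, hT, normEnd_mul_sub_one hz, LinearMap.zero_apply]
  have hsum : ∑ i ∈ range p, (f + 1) ^ i = 0 := by
    refine LinearMap.ext fun x => Subtype.ext ?_
    have hval : ∀ i : ℕ, (((f + 1) ^ i) x).1 = (z ^ i) x.1 := by
      intro i
      induction i with
      | zero => simp
      | succ i ih =>
        rw [pow_succ', pow_succ', Module.End.mul_apply, Module.End.mul_apply, ← ih]
        simp [f, LinearMap.restrict_apply]
    simp only [LinearMap.sum_apply, Submodule.coe_sum, hval, LinearMap.zero_apply,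
      ZeroMemClass.coe_zero]
    have hx : T x.1 = 0 := x.2
    simpa [hT, normEnd, LinearMap.sum_apply] using hx
  obtain ⟨Q, hQ, hfQ, -⟩ := exists_unit_pow (O := O) f hsum
  obtain ⟨hf, h9⟩ := index_range_pow_pred hQ hfQ
  set qq := f.range.toAddSubgroup.index
  have h5 : (K.map fm).relIndex K = qq := by
    rw [AddSubgroup.relIndex]
    congr 1
    ext x
    constructor
    · intro hx
      obtain ⟨y, hy, he⟩ := AddSubgroup.mem_addSubgroupOf.mp hx
      exact ⟨⟨y, hy⟩, Subtype.ext he⟩
    · rintro ⟨y, rfl⟩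
      exact AddSubgroup.mem_addSubgroupOf.mpr ⟨y.1, y.2, rfl⟩
  have h10 : d * I.relIndex K = qq := by
    rw [← h5, ← h3]
    refine AddSubgroup.relIndex_mul_relIndex _ _ _ ?_ (augSub_le_kerNorm hz)
    rintro _ ⟨x, -, rfl⟩
    exact ⟨x, rfl⟩
  have hne : ∀ n : ℕ, P0 ^ n ≠ 0 := fun n => pow_ne_zero n (by omega)
  have hAfin : Finite (HatZero p z) := Nat.finite_of_card_ne_zero fun h0 => hne _ (by
    rw [← h4, ← hA, h0, mul_zero])
  have hBfin : Finite (HatMinus p z) := Nat.finite_of_card_ne_zero fun h0 => hne _ (by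
    rw [← h9, ← h10, ← hB, h0, mul_zero, zero_pow (Nat.sub_ne_zero_of_lt hp.out.one_lt)])
  obtain ⟨a, ha⟩ : ∃ a, Nat.card (HatZero p z) = P0 ^ a := by
    letI := moduleKp (O := O) (p := p) (X := HatZero p z) hatZero_smul
    exact ⟨_, Module.natCard_eq_pow_finrank (K := Kp p O) (V := HatZero p z)⟩
  obtain ⟨b, hb⟩ : ∃ b, Nat.card (HatMinus p z) = P0 ^ b := by
    letI := moduleKp (O := O) (p := p) (X := HatMinus p z) (hatMinus_smul hz)
    exact ⟨_, Module.natCard_eq_pow_finrank (K := Kp p O) (V := HatMinus p z)⟩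
  refine ⟨a, b, ha, hb, fun E hE => ?_⟩
  have hr : Module.finrank O L =
      Module.finrank O (fixSub z) + Module.finrank O (kerNorm p z) := by
    rw [← Submodule.finrank_quotient_add_finrank (kerNorm p z)]
    congr 1
    rw [show Module.finrank O (L ⧸ kerNorm p z) = Module.finrank O (normSub p z) from
      LinearEquiv.finrank_eq (normEnd p z).quotKerEquivRange]
    refine le_antisymm (Submodule.finrank_mono (normSub_le_fixSub hz)) ?_
    exact LinearMap.finrank_le_finrank_of_injective
      (f := (((p : O) • (fixSub z).subtype).codRestrict (normSub p z) fun x =>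
        smul_mem_normSub x.2))
      fun x y hxy => Subtype.ext (smul_right_injective L
        (natCast_ne_zero_base hp.out.ne_zero) (congrArg Subtype.val hxy))
  rw [hT, trace_normEnd hz, hr] at hE
  have hE' : E = ((p : ℤ) - 1) * Module.finrank O (fixSub z) - Module.finrank O (kerNorm p z) := by
    apply Int.cast_injective (α := O)
    rw [hE]
    push_cast
    ring
  rw [← hA, ha] at h4
  rw [← hB, hb] at h10
  rw [← h10, mul_pow, ← pow_mul] at h9
  have key : P0 ^ (Module.finrank O (fixSub z) * (p - 1) + b * (p - 1)) =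
      P0 ^ (Module.finrank O (kerNorm p z) + a * (p - 1)) := by
    rw [pow_add, pow_mul, ← h4, mul_pow, ← pow_mul, pow_add, ← h9]
    ring
  have e := congrArg (Nat.cast : ℕ → ℤ) (Nat.pow_right_injective hP2 key)
  push_cast [Nat.cast_sub hp.out.one_le] at e
  rw [hE']
  linear_combination -e

end Cfsg.Agent.Lib.DefectTwist
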