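/-
The Tate quotients of an isotypic component of a lattice and the commuting algebra.
-/
import Mathlib
import Cfsg.Agent.Lib.DefectTwist.Tate
import Cfsg.Agent.Lib.DefectTwist.Count
import Cfsg.Agent.Lib.DefectTwist.Lattice
import Cfsg.Agent.Lib.DefectOne.Averaging

set_option autoImplicit false
set_option linter.unusedSectionVars false
set_option linter.style.haveILetI false
set_option maxSynthPendingDepth 3

namespace Cfsg.Agent.Lib.DefectTwist

open Finset Subgroup
open Cfsg.Agent.Lib.DefectOne (Local)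

variable {O : Type} [CommRing O] [IsDomain O] [IsPrincipalIdealRing O] [CharZero O]
variable {p : ℕ} [hp : Fact p.Prime] [UnramBase p O]
variable {G : Type*} [Group G] [Finite G]

variable (O) in
/-- A lattice with the action of a matrix algebra coming from `V`. -/
structure Setup (S : Local p G) (N : ℕ) where
  /-- The rank. -/
  r : ℕ
  /-- The representation. -/
  ρL : G →* Module.End O (Fin r → O)
  /-- The root of unity. -/
  Z : Module.End O (Fin r → O)
  hZ : ∀ g, Commute Z (ρL g)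
  hZsum : ∑ i ∈ range p, Z ^ i = 0
  /-- The size of the matrices. -/
  d : ℕ
  /-- The action of the matrices. -/
  Φ : Matrix (Fin d) (Fin d) O →ₗ[O] Module.End O (Fin r → O)
  Φmul : ∀ X Y, Φ X * Φ Y = Φ (X * Y)
  Φleft : ∀ v ∈ S.V, ∃ X, ρL v * Φ 1 = Φ X ∧ Φ 1 * ρL v = Φ X
  Φcomm : ∀ f : Module.End O (Fin r → O), (∀ v ∈ S.V, Commute f (ρL v)) → ∀ X, Commute f (Φ X)
  /-- An element generating the stabiliser modulo the centralizer. -/
  u : G
  u_norm : u * S.x * u⁻¹ ∈ zpowers S.x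
  u_pow : u ^ N ∈ zpowers S.x
  /-- The intertwiner. -/
  U : Matrix (Fin d) (Fin d) O
  /-- Its inverse. -/
  Ui : Matrix (Fin d) (Fin d) O
  hU : U * Ui = 1
  hU' : Ui * U = 1
  u_conj : ∀ X, ρL u * Φ X = Φ (U * X * Ui) * ρL u
  /-- The scale. -/
  c : Kp p O
  U_pow : (c • U.map (redK p)) ^ N = 1
  cover : ∀ g : G, g * S.x * g⁻¹ ∈ zpowers S.x →
    (∃ i : ℕ, Commute ((u ^ i)⁻¹ * g) S.x) ∨ Φ 1 * ρL g * Φ 1 = 0

namespace Setup

variable {S : Local p G} {N : ℕ} (D : Setup O S N)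

/-- The idempotent. -/
abbrev E : Module.End O (Fin D.r → O) := D.Φ 1

/-- The isotypic component. -/
abbrev M : Submodule O (Fin D.r → O) := LinearMap.range D.E

theorem E_mul (X : Matrix (Fin D.d) (Fin D.d) O) : D.E * D.Φ X = D.Φ X := by
  rw [E, D.Φmul, Matrix.one_mul]

theorem mul_E (X : Matrix (Fin D.d) (Fin D.d) O) : D.Φ X * D.E = D.Φ X := by
  rw [E, D.Φmul, Matrix.mul_one]

theorem E_E : D.E * D.E = D.E := D.E_mul 1

theorem E_fix {m : Fin D.r → O} (h : m ∈ D.M) : D.E m = m := by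
  obtain ⟨y, rfl⟩ := h
  exact LinearMap.congr_fun D.E_E y

/-- The compression to the isotypic component. -/
noncomputable def cmp (f : Module.End O (Fin D.r → O)) : Module.End O D.M :=
  (D.E * f).restrict fun _ _ => ⟨_, rfl⟩

theorem coe_cmp (f : Module.End O (Fin D.r → O)) (m : D.M) :
    ((D.cmp f m : D.M) : Fin D.r → O) = D.E (f m) := rfl

theorem cmp_add (f g : Module.End O (Fin D.r → O)) : D.cmp (f + g) = D.cmp f + D.cmp g :=
  LinearMap.ext fun m => Subtype.ext (map_add D.E _ _)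

theorem cmp_smul (a : O) (f : Module.End O (Fin D.r → O)) : D.cmp (a • f) = a • D.cmp f :=
  LinearMap.ext fun m => Subtype.ext (map_smul D.E _ _)

theorem cmp_sum {ι : Type*} (s : Finset ι) (f : ι → Module.End O (Fin D.r → O)) :
    D.cmp (∑ i ∈ s, f i) = ∑ i ∈ s, D.cmp (f i) := by
  classical
  induction s using Finset.induction with
  | empty => exact LinearMap.ext fun m => Subtype.ext (by simp [coe_cmp])
  | insert a s ha ih => rw [sum_insert ha, sum_insert ha, cmp_add, ih]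

theorem cmp_zero : D.cmp 0 = 0 := LinearMap.ext fun m => Subtype.ext (map_zero D.E)

theorem cmp_one : D.cmp 1 = 1 := LinearMap.ext fun m => Subtype.ext (D.E_fix m.2)

theorem cmp_E : D.cmp D.E = 1 := LinearMap.ext fun m => Subtype.ext (by
  rw [coe_cmp, D.E_fix m.2, D.E_fix m.2]; rfl)

theorem cmp_eq_zero {f : Module.End O (Fin D.r → O)} (h : D.E * f * D.E = 0) : D.cmp f = 0 := by
  refine LinearMap.ext fun m => Subtype.ext ?_
  rw [coe_cmp]
  conv_lhs => rw [← D.E_fix m.2]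
  exact LinearMap.congr_fun h (m : Fin D.r → O)

theorem cmp_mul_right {f g : Module.End O (Fin D.r → O)} (h : Commute g D.E) :
    D.cmp (f * g) = D.cmp f * D.cmp g := by
  refine LinearMap.ext fun m => Subtype.ext ?_
  rw [Module.End.mul_apply, coe_cmp, coe_cmp, coe_cmp]
  show D.E (f (g m)) = D.E (f (D.E (g m)))
  congr 2
  have h1 := LinearMap.congr_fun h.eq (m : Fin D.r → O)
  rw [Module.End.mul_apply, Module.End.mul_apply, D.E_fix m.2] at h1
  rw [← h1]

theorem cmp_mul_left {f g : Module.End O (Fin D.r → O)} (h : Commute f D.E) :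
    D.cmp (f * g) = D.cmp f * D.cmp g := by
  refine LinearMap.ext fun m => Subtype.ext ?_
  rw [Module.End.mul_apply, coe_cmp, coe_cmp, coe_cmp, Module.End.mul_apply,
    ← Module.End.mul_apply f D.E, h.eq, Module.End.mul_apply, ← Module.End.mul_apply D.E D.E, D.E_E]

theorem commute_E_V {v : G} (hv : v ∈ S.V) : Commute (D.ρL v) D.E := by
  obtain ⟨X, h1, h2⟩ := D.Φleft v hv
  exact h1.trans h2.symm

theorem commute_Φ_x (X : Matrix (Fin D.d) (Fin D.d) O) : Commute (D.ρL S.x) (D.Φ X) :=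
  D.Φcomm _ (fun v hv => (S.commute v hv).map D.ρL) X

theorem commute_E_u : Commute (D.ρL D.u) D.E := by
  have h := D.u_conj 1
  rw [Matrix.mul_one, D.hU] at h
  exact h

theorem commute_Φ_Z (X : Matrix (Fin D.d) (Fin D.d) O) : Commute D.Z (D.Φ X) :=
  D.Φcomm _ (fun v _ => D.hZ v) X

theorem commute_Φ_comm {s : Module.End O (Fin D.r → O)} (hs : s ∈ commAlg D.ρL)
    (X : Matrix (Fin D.d) (Fin D.d) O) : Commute s (D.Φ X) :=
  D.Φcomm _ (fun v _ => ((Subalgebra.mem_centralizer_iff O).mp hs (D.ρL v) ⟨v, rfl⟩).symm) X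

theorem commute_E_pow {g : G} (h : Commute (D.ρL g) D.E) (i : ℕ) :
    Commute (D.ρL (g ^ i)) D.E := by
  rw [map_pow]; exact h.pow_left i

theorem commute_E_cent {c : G} (hc : Commute c S.x) : Commute (D.ρL c) D.E := by
  obtain ⟨i, v, hv, rfl⟩ := S.factor c hc
  rw [map_mul, map_pow]
  exact ((D.commute_Φ_x 1).pow_left i).mul_left (D.commute_E_V hv)

theorem cmp_pow {f : Module.End O (Fin D.r → O)} (h : Commute f D.E) (i : ℕ) :
    D.cmp (f ^ i) = D.cmp f ^ i := by
  induction i with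
  | zero => rw [pow_zero, pow_zero, cmp_one]
  | succ i ih => rw [pow_succ, pow_succ, D.cmp_mul_right h, ih]

/-- The action of `x`. -/
noncomputable def zM : Module.End O D.M := D.cmp (D.ρL S.x)

theorem zM_pow_eq (i : ℕ) : D.zM ^ i = D.cmp (D.ρL (S.x ^ i)) := by
  rw [map_pow, D.cmp_pow (D.commute_Φ_x 1)]
  rfl

theorem zM_pow : D.zM ^ p = 1 := by
  rw [D.zM_pow_eq, S.x_pow_p, map_one, cmp_one]

theorem trace_cmp (f : Module.End O (Fin D.r → O)) :
    LinearMap.trace O D.M (D.cmp f) = LinearMap.trace O _ (f * D.E) := by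
  rw [LinearMap.trace_mul_comm]
  exact LinearMap.trace_restrict_eq_of_forall_mem D.M (D.E * f) fun m => ⟨_, rfl⟩

/-- A pair of sublattices behaving like `ker (z - 1) ≥ range T`. -/
structure IsPair (F R : Submodule O D.M) : Prop where
  le : R ≤ F
  smul_mem : ∀ l ∈ F, (p : O) • l ∈ R
  stable : ∀ g : Module.End O D.M, Commute g D.zM → (∀ l ∈ F, g l ∈ F) ∧ ∀ l ∈ R, g l ∈ R
  u_stable : (∀ l ∈ F, D.cmp (D.ρL D.u) l ∈ F) ∧ ∀ l ∈ R, D.cmp (D.ρL D.u) l ∈ R
  z_trivial : ∀ l ∈ F, D.zM l - l ∈ R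
  trace_mem : ∀ φ : Module.End O D.M, ∀ l ∈ F,
    ∑ i ∈ range p, (D.zM ^ i) (φ ((D.zM ^ (p - 1)) ^ i • l)) ∈ R
  lift : ∀ h : (F ⧸ R.comap F.subtype) →ₗ[O] (F ⧸ R.comap F.subtype),
    ∃ g : Module.End O D.M, Commute g D.zM ∧ ∀ l : F, ∃ hl : g l ∈ F,
      h (Submodule.Quotient.mk l) = Submodule.Quotient.mk ⟨g l, hl⟩

theorem exists_conj_pow :
    ∃ m : ℕ, ¬ p ∣ m ∧ D.u * S.x * D.u⁻¹ = S.x ^ m := by
  obtain ⟨k, hk⟩ := mem_zpowers_iff.mp D.u_norm
  have hm : D.u * S.x * D.u⁻¹ = S.x ^ (k % (p : ℤ)).toNat := by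
    rw [← hk, ← zpow_mod_orderOf, S.order_x, ← zpow_natCast,
      Int.toNat_of_nonneg (Int.emod_nonneg _ (by exact_mod_cast hp.out.ne_zero))]
  refine ⟨_, fun ⟨j, hj⟩ => ?_, hm⟩
  rw [hj, pow_mul, S.x_pow_p, one_pow, conj_eq_one_iff] at hm
  have h := S.order_x
  rw [hm, orderOf_one] at h
  exact hp.out.ne_one h.symm

theorem uM_zM_pow {m : ℕ} (hm : D.u * S.x * D.u⁻¹ = S.x ^ m) (i : ℕ) :
    D.cmp (D.ρL D.u) * D.zM ^ i = D.zM ^ (m * i) * D.cmp (D.ρL D.u) := by
  rw [zM_pow_eq, zM_pow_eq, ← D.cmp_mul_left D.commute_E_u, ← D.cmp_mul_right D.commute_E_u,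
    ← map_mul, ← map_mul]
  congr 2
  rw [pow_mul, ← hm, conj_pow, inv_mul_cancel_right]

theorem uM_normEnd :
    D.cmp (D.ρL D.u) * normEnd p D.zM = normEnd p D.zM * D.cmp (D.ρL D.u) := by
  obtain ⟨m, hmp, hm⟩ := D.exists_conj_pow
  simp only [normEnd, Finset.mul_sum, Finset.sum_mul, D.uM_zM_pow hm]
  have hz := D.zM_pow
  have hred : ∀ i, D.zM ^ i = D.zM ^ (i % p) := fun i => by
    conv_lhs => rw [← Nat.mod_add_div i p, pow_add, pow_mul, hz, one_pow, mul_one]
  refine Finset.sum_bij' (fun i _ => m * i % p)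
    (fun i _ => ((m : ZMod p)⁻¹ * i).val) ?_ ?_ ?_ ?_ ?_
  · exact fun i _ => mem_range.mpr (Nat.mod_lt _ hp.out.pos)
  · exact fun i _ => mem_range.mpr (ZMod.val_lt _)
  · intro i hi
    rw [ZMod.natCast_mod, Nat.cast_mul, ← mul_assoc, inv_mul_cancel₀
      (by rwa [Ne, ZMod.natCast_eq_zero_iff]), one_mul, ZMod.val_natCast,
      Nat.mod_eq_of_lt (mem_range.mp hi)]
  · intro i hi
    rw [← ZMod.val_natCast, Nat.cast_mul, ZMod.natCast_zmod_val, ← mul_assoc, mul_inv_cancel₀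
      (by rwa [Ne, ZMod.natCast_eq_zero_iff]), one_mul, ZMod.val_natCast,
      Nat.mod_eq_of_lt (mem_range.mp hi)]
  · intro i hi
    rw [← hred]

theorem isPair_fix : D.IsPair (fixSub D.zM) (normSub p D.zM) where
  le := normSub_le_fixSub D.zM_pow
  smul_mem := fun _ h => smul_mem_normSub h
  stable := fun g hg => ⟨fun l hl => mem_fixSub.mpr (by
      rw [← Module.End.mul_apply, ← hg.eq, Module.End.mul_apply, mem_fixSub.mp hl]),
    fun l ⟨m, hm⟩ => ⟨g m, by
      rw [← hm, ← Module.End.mul_apply, ← (commute_normEnd hg).eq, Module.End.mul_apply]⟩⟩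
  u_stable := by
    constructor
    · intro l hl
      obtain ⟨m, hmp, hm⟩ := D.exists_conj_pow
      have h1 := congrArg (fun f : Module.End O D.M => f l)
        (D.uM_zM_pow hm (m : ZMod p)⁻¹.val)
      simp only [Module.End.mul_apply, pow_apply_fix hl] at h1
      rw [← Nat.mod_add_div (m * (m : ZMod p)⁻¹.val) p, pow_add, pow_mul _ p, D.zM_pow, one_pow,
        mul_one, ← ZMod.val_natCast, Nat.cast_mul, ZMod.natCast_zmod_val, mul_inv_cancel₀
          (by rwa [Ne, ZMod.natCast_eq_zero_iff])] at h1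
      haveI : Fact (1 < p) := ⟨hp.out.one_lt⟩
      rw [ZMod.val_one, pow_one] at h1
      exact mem_fixSub.mpr h1.symm
    · rintro l ⟨w, rfl⟩
      exact ⟨D.cmp (D.ρL D.u) w, (LinearMap.congr_fun D.uM_normEnd w).symm⟩
  z_trivial := fun l hl => by
    rw [mem_fixSub.mp hl, sub_self]
    exact Submodule.zero_mem _
  trace_mem := fun φ l hl => by
    have h : ∀ i, (D.zM ^ (p - 1)) ^ i • l = l := fun i => by
      show ((D.zM ^ (p - 1)) ^ i) l = l
      rw [← pow_mul, pow_apply_fix hl]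
    simp only [h]
    exact ⟨φ l, by simp [normEnd, LinearMap.sum_apply]⟩
  lift := exists_fix_lift D.zM_pow

theorem isPair_kerNorm : D.IsPair (kerNorm p D.zM) (augSub D.zM) where
  le := augSub_le_kerNorm D.zM_pow
  smul_mem := fun _ h => smul_mem_augSub D.zM_pow h
  stable := fun g hg => ⟨fun l hl => by
      show normEnd p D.zM (g l) = 0
      rw [← Module.End.mul_apply, ← (commute_normEnd hg).eq, Module.End.mul_apply,
        show normEnd p D.zM l = 0 from hl, map_zero],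
    fun l ⟨m, hm⟩ => ⟨g m, by
      rw [← hm, LinearMap.sub_apply, LinearMap.sub_apply, map_sub, Module.End.one_apply,
        Module.End.one_apply, ← Module.End.mul_apply, ← hg.eq, Module.End.mul_apply]⟩⟩
  u_stable := by
    constructor
    · intro l hl
      show normEnd p D.zM (D.cmp (D.ρL D.u) l) = 0
      rw [← Module.End.mul_apply, ← D.uM_normEnd, Module.End.mul_apply,
        show normEnd p D.zM l = 0 from hl, map_zero]
    · rintro l ⟨w, rfl⟩
      obtain ⟨m, -, hm⟩ := D.exists_conj_pow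
      have hzu := D.uM_zM_pow hm 1
      rw [pow_one, mul_one] at hzu
      have h : D.cmp (D.ρL D.u) * (D.zM - 1) =
          (D.zM - 1) * ((∑ i ∈ range m, D.zM ^ i) * D.cmp (D.ρL D.u)) := by
        rw [← mul_assoc, mul_geom_sum, mul_sub, sub_mul, hzu, mul_one, one_mul]
      exact ⟨_, (LinearMap.congr_fun h w).symm⟩
  z_trivial := fun l _ => ⟨l, rfl⟩
  trace_mem := fun φ l hl => by
    have hT : normEnd p D.zM l = 0 := hl
    have h2 : φ (∑ i ∈ range p, ((D.zM ^ (p - 1)) ^ i) l) = 0 := by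
      rw [← LinearMap.sum_apply, show (∑ i ∈ range p, (D.zM ^ (p - 1)) ^ i) = normEnd p D.zM
        from normEnd_pow_pred hp.out.ne_zero D.zM_pow, hT, map_zero]
    rw [map_sum] at h2
    rw [← sub_zero (∑ i ∈ range p, _), ← h2, ← sum_sub_distrib]
    refine Submodule.sum_mem _ fun i _ => ⟨(∑ j ∈ range i, D.zM ^ j)
      (φ (((D.zM ^ (p - 1)) ^ i) l)), ?_⟩
    rw [← Module.End.mul_apply, mul_geom_sum]
    rfl
  lift := exists_kerNorm_lift D.zM_pow

end Setup

end Cfsg.Agent.Lib.DefectTwist
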