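/-
The Tate quotients of an isotypic component are small.
-/
import Mathlib
import Cfsg.Agent.Lib.DefectTwist.Setup

set_option autoImplicit false
set_option linter.unusedSectionVars false
set_option linter.style.haveILetI false
set_option maxSynthPendingDepth 3

namespace Cfsg.Agent.Lib.DefectTwist

open Finset Subgroup
open Cfsg.Agent.Lib.DefectOne (Local)

variable {O : Type} [CommRing O] [IsDomain O] [IsPrincipalIdealRing O] [CharZero O]
variable {p : ℕ} [hp : Fact p.Prime] [UnramBase p O]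
variable {G : Type*} [Group G] [Finite G]

namespace Setup

variable {S : Local p G} {N : ℕ} (D : Setup O S N)

/-- Endomorphisms preserving a pair. -/
def Good (F R : Submodule O D.M) (f : Module.End O D.M) : Prop :=
  (∀ l ∈ F, f l ∈ F) ∧ ∀ l ∈ R, f l ∈ R

/-- The quotient of a pair. -/
abbrev Quot' (F R : Submodule O D.M) : Type _ := F ⧸ R.comap F.subtype

theorem quot_killed {F R : Submodule O D.M} (hFR : D.IsPair F R) (q : D.Quot' F R) :
    (p : O) • q = 0 :=
  quot_smul_eq_zero (R.comap F.subtype) (fun m : F => hFR.smul_mem m.1 m.2) q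

/-- The induced map on the quotient. -/
noncomputable def bar {F R : Submodule O D.M} (hFR : D.IsPair F R) (f : Module.End O D.M)
    (hf : D.Good F R f) : letI := moduleKp (D.quot_killed hFR); Module.End (Kp p O) (D.Quot' F R) :=
  letI := moduleKp (D.quot_killed hFR)
  toKpLinear (D.quot_killed hFR) (D.quot_killed hFR)
    (Submodule.mapQ (R.comap F.subtype) (R.comap F.subtype) (f.restrict hf.1) fun _ hl => hf.2 _ hl)

theorem Good.mul {F R : Submodule O D.M} {f g : Module.End O D.M} (hf : D.Good F R f)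
    (hg : D.Good F R g) : D.Good F R (f * g) :=
  ⟨fun l hl => hf.1 _ (hg.1 l hl), fun l hl => hf.2 _ (hg.2 l hl)⟩

theorem Good.pow {F R : Submodule O D.M} {f : Module.End O D.M} (hf : D.Good F R f) (i : ℕ) :
    D.Good F R (f ^ i) := by
  induction i with
  | zero => rw [pow_zero]; exact ⟨fun l hl => hl, fun l hl => hl⟩
  | succ i ih => rw [pow_succ]; exact ih.mul D hf

theorem Good.sum {F R : Submodule O D.M} {ι : Type*} (s : Finset ι) {f : ι → Module.End O D.M}
    (hf : ∀ i ∈ s, D.Good F R (f i)) : D.Good F R (∑ i ∈ s, f i) := by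
  constructor
  · intro l hl
    rw [LinearMap.sum_apply]
    exact F.sum_mem fun i hi => (hf i hi).1 l hl
  · intro l hl
    rw [LinearMap.sum_apply]
    exact R.sum_mem fun i hi => (hf i hi).2 l hl

theorem Good.smul {F R : Submodule O D.M} (a : O) {f : Module.End O D.M} (hf : D.Good F R f) :
    D.Good F R (a • f) :=
  ⟨fun l hl => F.smul_mem a (hf.1 l hl), fun l hl => R.smul_mem a (hf.2 l hl)⟩

open Classical in
/-- A total version of `bar`. -/
noncomputable def tbar {F R : Submodule O D.M} (hFR : D.IsPair F R) (f : Module.End O D.M) :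
    letI := moduleKp (D.quot_killed hFR); Module.End (Kp p O) (D.Quot' F R) :=
  letI := moduleKp (D.quot_killed hFR)
  if hf : D.Good F R f then D.bar hFR f hf else 0

theorem tbar_mk {F R : Submodule O D.M} (hFR : D.IsPair F R) {f : Module.End O D.M}
    (hf : D.Good F R f) (l : F) (hl : f l ∈ F) :
    letI := moduleKp (D.quot_killed hFR)
    D.tbar hFR f (Submodule.Quotient.mk l) = Submodule.Quotient.mk ⟨f l, hl⟩ := by
  simp only [tbar, dif_pos hf]
  rfl

theorem tbar_sum {F R : Submodule O D.M} (hFR : D.IsPair F R) {ι : Type*} (s : Finset ι)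
    (f : ι → Module.End O D.M) (hf : ∀ i ∈ s, D.Good F R (f i)) :
    D.tbar hFR (∑ i ∈ s, f i) = ∑ i ∈ s, D.tbar hFR (f i) := by
  classical
  letI := moduleKp (D.quot_killed hFR)
  induction s using Finset.induction with
  | empty =>
    simp only [sum_empty]
    refine LinearMap.ext fun x => ?_
    induction x using Submodule.Quotient.induction_on with
    | H l =>
      refine (D.tbar_mk hFR ⟨fun _ _ => F.zero_mem, fun _ _ => R.zero_mem⟩ l
        (show (0 : Module.End O D.M) l.1 ∈ F from F.zero_mem)).trans ?_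
      exact (Submodule.Quotient.mk_eq_zero _).mpr (show (0 : D.M) ∈ R from R.zero_mem)
  | insert i s hi ih =>
    have h1 := hf i (mem_insert_self i s)
    have h2 := Good.sum D s fun j hj => hf j (mem_insert_of_mem hj)
    rw [sum_insert hi, sum_insert hi, ← ih fun j hj => hf j (mem_insert_of_mem hj)]
    refine LinearMap.ext fun x => ?_
    induction x using Submodule.Quotient.induction_on with
    | H l =>
      rw [LinearMap.add_apply, D.tbar_mk hFR h1 l (h1.1 _ l.2), D.tbar_mk hFR h2 l (h2.1 _ l.2),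
        D.tbar_mk hFR (f := f i + ∑ j ∈ s, f j) ⟨fun m hm => F.add_mem (h1.1 m hm) (h2.1 m hm),
          fun m hm => R.add_mem (h1.2 m hm) (h2.2 m hm)⟩ l (F.add_mem (h1.1 _ l.2) (h2.1 _ l.2))]
      rfl

/-- The lift of a residue. -/
noncomputable def lift' (a : Kp p O) : O := (Ideal.Quotient.mk_surjective a).choose

theorem redK_lift' (a : Kp p O) : redK p (lift' a) = a :=
  (Ideal.Quotient.mk_surjective a).choose_spec

set_option maxHeartbeats 4000000 in
/-- The bound. -/
theorem card_le {F R : Submodule O D.M} (hFR : D.IsPair F R) {ω : Kp p O}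
    (hω : IsPrimitiveRoot ω N) (hN : ¬ p ∣ N) {n : ℕ} (a : Fin n → commAlg D.ρL)
    (hgen : ∀ s ∈ commAlg D.ρL, ∃ (cf : Fin n → O) (s' : Module.End O (Fin D.r → O)),
      s' ∈ commAlg D.ρL ∧ s = ∑ j, cf j • (a j : Module.End O (Fin D.r → O)) + (D.Z - 1) * s') :
    Nat.card (D.Quot' F R) ≤ Nat.card (Kp p O) ^ (D.d * n) := by
  classical
  haveI := Fintype.ofFinite G
  set A := D.Quot' F R
  letI iA : Module (Kp p O) A := moduleKp (D.quot_killed hFR)
  haveI : Module.Finite O D.M := inferInstance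
  haveI : Module.Finite O A := inferInstance
  haveI : IsScalarTower O (Kp p O) A := ⟨fun o c x => by
    obtain ⟨b, rfl⟩ := Ideal.Quotient.mk_surjective c
    show (o * b) • x = o • b • x
    rw [mul_smul]⟩
  haveI : Module.Finite (Kp p O) A := Module.Finite.of_restrictScalars_finite O (Kp p O) A
  have hext : ∀ f g : Module.End (Kp p O) A,
      (∀ l : F, f (Submodule.Quotient.mk l) = g (Submodule.Quotient.mk l)) → f = g := by
    intro f g h
    refine LinearMap.ext fun x => ?_
    induction x using Submodule.Quotient.induction_on with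
    | H l => exact h l
  have hbr : ∀ f, D.Good F R f → ∀ (l : F) (hl : f l ∈ F),
      (D.tbar hFR) f (Submodule.Quotient.mk l) = Submodule.Quotient.mk ⟨f l, hl⟩ := fun f hf l hl =>
    D.tbar_mk hFR hf l hl
  have hbr_mul : ∀ f g, D.Good F R f → D.Good F R g → (D.tbar hFR) (f * g) = (D.tbar hFR) f * (D.tbar hFR) g := by
    intro f g hf hg
    refine hext _ _ fun l => ?_
    rw [Module.End.mul_apply, hbr g hg l (hg.1 _ l.2), hbr f hf ⟨_, hg.1 _ l.2⟩ (hf.1 _ (hg.1 _ l.2)),
      hbr (f * g) (hf.mul D hg) l ((hf.mul D hg).1 _ l.2)]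
    rfl
  have hbr_one : (D.tbar hFR) 1 = 1 := hext _ _ fun l => by
    rw [hbr 1 ⟨fun _ h => h, fun _ h => h⟩ l l.2]
    rfl
  have hbr_smul : ∀ (o : O) f, D.Good F R f → (D.tbar hFR) (o • f) = redK p o • (D.tbar hFR) f := by
    intro o f hf
    refine hext _ _ fun l => ?_
    rw [LinearMap.smul_apply, hbr f hf l (hf.1 _ l.2), hbr (o • f) (hf.smul D o) l ((hf.smul D o).1 _ l.2)]
    show _ = o • (Submodule.Quotient.mk ⟨f l, hf.1 _ l.2⟩ : A)
    rw [← Submodule.Quotient.mk_smul]
    rfl
  have hbr_pow : ∀ f, D.Good F R f → ∀ i : ℕ, (D.tbar hFR) (f ^ i) = (D.tbar hFR) f ^ i := by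
    intro f hf i
    induction i with
    | zero => rw [pow_zero, pow_zero, hbr_one]
    | succ i ih => rw [pow_succ, pow_succ, hbr_mul _ _ (hf.pow D i) hf, ih]
  -- good compressions
  have hgz : ∀ f, Commute f (D.ρL S.x) → Commute f D.E → D.Good F R (D.cmp f) := by
    intro f hfx hfE
    refine hFR.stable _ ?_
    show D.cmp f * D.cmp (D.ρL S.x) = D.cmp (D.ρL S.x) * D.cmp f
    rw [← D.cmp_mul_left hfE, ← D.cmp_mul_right hfE, hfx.eq]
  have hgood_x : D.Good F R D.zM := hFR.stable _ (Commute.refl _)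
  have hgood_Φ : ∀ X, D.Good F R (D.cmp (D.Φ X)) := fun X =>
    hgz _ (D.commute_Φ_x X).symm ((D.mul_E X).trans (D.E_mul X).symm)
  have hgood_comm : ∀ s ∈ commAlg D.ρL, D.Good F R (D.cmp s) := fun s hs =>
    hgz _ ((Subalgebra.mem_centralizer_iff O).mp hs _ ⟨S.x, rfl⟩).symm (D.commute_Φ_comm hs 1)
  have hgood_u : D.Good F R (D.cmp (D.ρL D.u)) := hFR.u_stable
  have hZ1mem : D.Z - 1 ∈ commAlg D.ρL := by
    rw [Subalgebra.mem_centralizer_iff]
    rintro _ ⟨g, rfl⟩
    exact (((D.hZ g).sub_left (Commute.one_left _)).eq).symm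
  have hgood_Z := hgood_comm _ hZ1mem
  have hEΦ : ∀ X, Commute (D.Φ X) D.E := fun X => (D.mul_E X).trans (D.E_mul X).symm
  have hbrx : (D.tbar hFR) D.zM = 1 := hext _ _ fun l => by
    rw [hbr _ hgood_x l (hgood_x.1 _ l.2), Module.End.one_apply]
    exact (Submodule.Quotient.eq _).mpr (hFR.z_trivial _ l.2)
  -- the matrices
  have hΦred : ∀ X Y : Matrix (Fin D.d) (Fin D.d) O, X.map (redK p) = Y.map (redK p) →
      (D.tbar hFR) (D.cmp (D.Φ X)) = (D.tbar hFR) (D.cmp (D.Φ Y)) := by
    intro X Y hXY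
    have hd : ∀ i j, ∃ w, X i j - Y i j = (p : O) * w := fun i j => by
      refine redK_eq_zero_iff.mp ?_
      rw [map_sub]
      exact sub_eq_zero.mpr (congrFun (congrFun hXY i) j)
    choose W hW using hd
    have h1 : X = Y + (p : O) • Matrix.of W := by
      ext i j
      simp [← hW]
    rw [h1, map_add, map_smul, D.cmp_add, D.cmp_smul]
    have h2 := D.tbar_sum hFR (univ : Finset Bool) (fun b => if b then D.cmp (D.Φ Y)
      else (p : O) • D.cmp (D.Φ (Matrix.of W))) fun b _ => by
        cases b <;> simp only [Bool.false_eq_true, if_false, if_true]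
        exacts [(hgood_Φ _).smul D _, hgood_Φ _]
    simp only [Fintype.sum_bool, Bool.false_eq_true, if_false, if_true] at h2
    rw [h2, hbr_smul _ _ (hgood_Φ _), map_natCast, natCast_redK_self, zero_smul, add_zero]
  let lm : Matrix (Fin D.d) (Fin D.d) (Kp p O) → Matrix (Fin D.d) (Fin D.d) O := fun X =>
    X.map lift'
  have hlm : ∀ X, (lm X).map (redK p) = X := fun X => by ext i j; exact redK_lift' _
  have hΦk : ∀ X, (D.tbar hFR) (D.cmp (D.Φ (lm (X.map (redK p))))) = (D.tbar hFR) (D.cmp (D.Φ X)) := fun X =>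
    hΦred _ _ (hlm _)
  have hcmpΦ : ∀ X Y, D.cmp (D.Φ (X * Y)) = D.cmp (D.Φ X) * D.cmp (D.Φ Y) := fun X Y => by
    rw [← D.cmp_mul_left (hEΦ X), D.Φmul]
  let Φk : Matrix (Fin D.d) (Fin D.d) (Kp p O) →ₐ[Kp p O] Module.End (Kp p O) A :=
    AlgHom.ofLinearMap
      { toFun := fun X => (D.tbar hFR) (D.cmp (D.Φ (lm X)))
        map_add' := fun X Y => by
          rw [hΦred (lm (X + Y)) (lm X + lm Y) (by
            rw [Matrix.map_add _ (map_add _), hlm, hlm, hlm]), map_add, D.cmp_add]
          have h2 := D.tbar_sum hFR (univ : Finset Bool) (fun b => if b then D.cmp (D.Φ (lm X))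
            else D.cmp (D.Φ (lm Y))) fun b _ => by
              cases b <;> simp only [Bool.false_eq_true, if_false, if_true] <;> exact hgood_Φ _
          simpa using h2
        map_smul' := fun c X => by
          rw [hΦred (lm (c • X)) (lift' c • lm X) (by
            rw [hlm]
            ext i j
            simp only [Matrix.smul_apply, Matrix.map_apply, smul_eq_mul, map_mul, redK_lift']
            rw [show redK p (lm X i j) = X i j from redK_lift' _]), map_smul, D.cmp_smul,
            hbr_smul _ _ (hgood_Φ _), redK_lift']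
          rfl }
      (by
        show (D.tbar hFR) (D.cmp (D.Φ (lm 1))) = 1
        rw [hΦred (lm 1) 1 (by rw [hlm, Matrix.map_one _ (map_zero _) (map_one _)]), D.cmp_E,
          hbr_one])
      (fun X Y => by
        show (D.tbar hFR) (D.cmp (D.Φ (lm (X * Y)))) = (D.tbar hFR) (D.cmp (D.Φ (lm X))) * (D.tbar hFR) (D.cmp (D.Φ (lm Y)))
        rw [hΦred (lm (X * Y)) (lm X * lm Y) (by rw [Matrix.map_mul, hlm, hlm, hlm]), hcmpΦ,
          hbr_mul _ _ (hgood_Φ _) (hgood_Φ _)])
  have hΦkapp : ∀ X, Φk (X.map (redK p)) = (D.tbar hFR) (D.cmp (D.Φ X)) := fun X => hΦk X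
  -- the twisted action of `u`
  let μ0 : Module.End (Kp p O) A := (D.tbar hFR) (D.cmp (D.ρL D.u * D.Φ D.Ui))
  have hNu : N ≠ 0 := fun h => hN (h ▸ dvd_zero p)
  rcases Nat.eq_zero_or_pos D.d with hd0 | hd0
  · have h1 : (1 : Module.End (Kp p O) A) = 0 := by
      rw [← map_one Φk, show (1 : Matrix (Fin D.d) (Fin D.d) (Kp p O)) = 0 from
        Matrix.ext fun i _ => absurd i.2 (by omega), map_zero]
    haveI : Subsingleton A := ⟨fun x y => by
      rw [← Module.End.one_apply (R := Kp p O) x, ← Module.End.one_apply (R := Kp p O) y, h1]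
      rfl⟩
    rw [Nat.card_of_subsingleton (0 : A)]
    exact Nat.one_le_pow _ _ Nat.card_pos
  have hc0 : D.c ≠ 0 := by
    intro h
    have h1 := D.U_pow
    rw [h, zero_smul, zero_pow hNu] at h1
    have := congrFun (congrFun h1 ⟨0, hd0⟩) ⟨0, hd0⟩
    simp at this
  let μ : Module.End (Kp p O) A := D.c⁻¹ • μ0
  have hgood_u0 : D.Good F R (D.cmp (D.ρL D.u * D.Φ D.Ui)) := by
    rw [D.cmp_mul_left D.commute_E_u]
    exact hgood_u.mul D (hgood_Φ _)
  have hbu : (D.tbar hFR) (D.cmp (D.ρL D.u)) = μ0 * Φk (D.U.map (redK p)) := by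
    rw [hΦkapp, ← hbr_mul _ _ hgood_u0 (hgood_Φ _), ← D.cmp_mul_right (hEΦ _), mul_assoc, D.Φmul,
      D.hU', D.cmp_mul_left D.commute_E_u, D.cmp_E, mul_one]
  have hμ0Φ : ∀ X, Commute μ0 (Φk X) := by
    intro X
    rw [← hlm X, hΦkapp]
    show μ0 * _ = _ * μ0
    rw [← hbr_mul _ _ hgood_u0 (hgood_Φ _), ← hbr_mul _ _ (hgood_Φ _) hgood_u0,
      ← D.cmp_mul_right (hEΦ _), ← D.cmp_mul_left (hEΦ _)]
    congr 2
    have h := D.u_conj (D.Ui * lm X * D.U * D.Ui)
    have e1 : D.U * (D.Ui * lm X * D.U * D.Ui) * D.Ui = lm X * D.Ui := by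
      simp only [← Matrix.mul_assoc, D.hU, Matrix.one_mul]
      rw [Matrix.mul_assoc _ D.U D.Ui, D.hU, Matrix.mul_one]
    have h' := D.u_conj (D.Ui * lm X)
    have e2 : D.U * (D.Ui * lm X) * D.Ui = lm X * D.Ui := by
      rw [← Matrix.mul_assoc, D.hU, Matrix.one_mul]
    calc D.ρL D.u * D.Φ D.Ui * D.Φ (lm X) = D.ρL D.u * D.Φ (D.Ui * lm X) := by
          rw [mul_assoc, D.Φmul]
      _ = D.Φ (lm X * D.Ui) * D.ρL D.u := by rw [h', e2]
      _ = D.Φ (lm X) * (D.Φ D.Ui * D.ρL D.u) := by rw [← mul_assoc, D.Φmul]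
      _ = D.Φ (lm X) * (D.ρL D.u * D.Φ D.Ui) := by
          congr 1
          have h'' := D.u_conj D.Ui
          rw [D.hU, Matrix.one_mul] at h''
          exact h''.symm
  have hμΦ : ∀ X, Commute μ (Φk X) := fun X => (hμ0Φ X).smul_left _
  have hbu' : (D.tbar hFR) (D.cmp (D.ρL D.u)) = μ * Φk (D.c • D.U.map (redK p)) := by
    rw [map_smul, mul_smul_comm, show μ = D.c⁻¹ • μ0 from rfl, smul_mul_assoc, smul_smul,
      mul_inv_cancel₀ hc0, one_smul, hbu]
  have hcu : D.u ^ N = S.x ^ ((mem_powers_iff_mem_zpowers.mpr D.u_pow : D.u ^ N ∈ Submonoid.powers S.x)).choose :=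
    ((mem_powers_iff_mem_zpowers.mpr D.u_pow : D.u ^ N ∈ Submonoid.powers S.x)).choose_spec.symm
  have hbuN : (D.tbar hFR) (D.cmp (D.ρL D.u)) ^ N = 1 := by
    rw [← hbr_pow _ hgood_u, ← D.cmp_pow D.commute_E_u, ← map_pow, hcu, ← D.zM_pow_eq,
      hbr_pow _ hgood_x, hbrx, one_pow]
  have hμN : μ ^ N = 1 := by
    have h1 := hbuN
    rw [hbu', (hμΦ _).mul_pow, ← map_pow, D.U_pow, map_one, mul_one] at h1
    exact h1
  -- the root of unity
  let π : Module.End (Kp p O) A := (D.tbar hFR) (D.cmp (D.Z - 1))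
  have hπΦ : ∀ X, Commute π (Φk X) := by
    intro X
    rw [← hlm X, hΦkapp]
    show π * _ = _ * π
    rw [← hbr_mul _ _ hgood_Z (hgood_Φ _), ← hbr_mul _ _ (hgood_Φ _) hgood_Z,
      ← D.cmp_mul_left (D.commute_Φ_comm hZ1mem 1), ← D.cmp_mul_left (hEΦ _),
      (D.commute_Φ_comm hZ1mem _).eq]
  have hcomm_u : ∀ s ∈ commAlg D.ρL, Commute ((D.tbar hFR) (D.cmp s)) μ := by
    intro s hs
    refine Commute.smul_right ?_ _
    show (D.tbar hFR) (D.cmp s) * μ0 = μ0 * (D.tbar hFR) (D.cmp s)
    rw [← hbr_mul _ _ (hgood_comm s hs) hgood_u0, ← hbr_mul _ _ hgood_u0 (hgood_comm s hs),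
      ← D.cmp_mul_left (D.commute_Φ_comm hs 1), ← D.cmp_mul_right (D.commute_Φ_comm hs 1)]
    congr 2
    rw [← mul_assoc, (Subalgebra.mem_centralizer_iff O).mp hs (D.ρL D.u) ⟨D.u, rfl⟩ |>.symm,
      mul_assoc, (D.commute_Φ_comm hs D.Ui).eq, mul_assoc]
  have hπnil : IsNilpotent π := by
    obtain ⟨Q, hQ, hpw, -⟩ := exists_unit_pow (O := O) (D.Z - 1)
      (by simpa using D.hZsum)
    refine ⟨p - 1, ?_⟩
    rw [← hbr_pow _ hgood_Z, ← D.cmp_pow (D.commute_Φ_comm hZ1mem 1), hpw, D.cmp_smul]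
    refine hext _ _ fun l => ?_
    have hg : D.Good F R ((p : O) • D.cmp Q) := by
      rw [← D.cmp_smul, ← hpw, D.cmp_pow (D.commute_Φ_comm hZ1mem 1)]
      exact hgood_Z.pow D _
    rw [hbr _ hg l (hg.1 _ l.2), LinearMap.zero_apply, Submodule.Quotient.mk_eq_zero]
    show ((p : O) • D.cmp Q) l.1 ∈ R
    rw [LinearMap.smul_apply, ← map_smul]
    have hkill := D.quot_killed hFR (Submodule.Quotient.mk l)
    rw [← Submodule.Quotient.mk_smul, Submodule.Quotient.mk_eq_zero] at hkill
    have hQs : Q ∈ commAlg D.ρL := by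
      rw [Subalgebra.mem_centralizer_iff]
      rintro _ ⟨g, rfl⟩
      have hcc : Commute ((p : O) • Q) (D.ρL g) := by
        rw [← hpw]
        exact (((D.hZ g).sub_left (Commute.one_left _))).pow_left _
      refine LinearMap.ext fun v => ?_
      have h2 := LinearMap.congr_fun hcc.eq v
      simp only [Module.End.mul_apply, LinearMap.smul_apply, map_smul] at h2
      exact (smul_right_injective _ (natCast_ne_zero_base hp.out.ne_zero) h2).symm
    exact (hgood_comm Q hQs).2 _ hkill
  -- realising the commutant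
  set C := centralizer ({S.x} : Set G)
  let Fix : G ⧸ C → Prop := fun q => ∃ i : ℕ, Commute ((D.u ^ i)⁻¹ * q.out) S.x
  let inN : G ⧸ C → Prop := fun q => q.out * S.x * q.out⁻¹ ∈ zpowers S.x
  have hxmem : ∀ g : G, g * S.x * g⁻¹ ∈ zpowers S.x ↔ inN (g : G ⧸ C) := by
    intro g
    have h1 : g⁻¹ * (g : G ⧸ C).out ∈ C := by
      rw [← QuotientGroup.eq, QuotientGroup.out_eq']
    have h2 : (g : G ⧸ C).out * S.x * ((g : G ⧸ C).out)⁻¹ = g * S.x * g⁻¹ := by
      have h3 := mem_centralizer_singleton_iff.mp h1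
      calc _ = g * ((g⁻¹ * (g : G ⧸ C).out) * S.x) * ((g : G ⧸ C).out)⁻¹ := by group
        _ = g * (S.x * (g⁻¹ * (g : G ⧸ C).out)) * ((g : G ⧸ C).out)⁻¹ := by rw [h3]
        _ = g * S.x * g⁻¹ := by group
    show _ ↔ (g : G ⧸ C).out * S.x * ((g : G ⧸ C).out)⁻¹ ∈ zpowers S.x
    rw [h2]
  have hFixN : ∀ q, Fix q → inN q := by
    rintro q ⟨i, hi⟩
    have h1 : ∀ j : ℕ, D.u ^ j * S.x * (D.u ^ j)⁻¹ ∈ zpowers S.x := by
      intro j
      induction j with
      | zero => simp
      | succ j ih =>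
        obtain ⟨w, hw⟩ := mem_zpowers_iff.mp ih
        rw [pow_succ', show D.u * D.u ^ j * S.x * (D.u * D.u ^ j)⁻¹ =
          D.u * (D.u ^ j * S.x * (D.u ^ j)⁻¹) * D.u⁻¹ by group, ← hw, ← conj_zpow]
        exact zpow_mem D.u_norm _
    show q.out * S.x * q.out⁻¹ ∈ zpowers S.x
    have h2 : q.out * S.x * q.out⁻¹ = D.u ^ i * S.x * (D.u ^ i)⁻¹ := by
      calc q.out * S.x * q.out⁻¹ = D.u ^ i * (((D.u ^ i)⁻¹ * q.out) * S.x) * q.out⁻¹ := by group
        _ = D.u ^ i * (S.x * ((D.u ^ i)⁻¹ * q.out)) * q.out⁻¹ := by rw [hi.eq]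
        _ = _ := by group
    rw [h2]
    exact h1 i
  set e := (univ.filter Fix).card
  have he1 : 0 < e := card_pos.mpr ⟨((1 : G) : G ⧸ C), mem_filter.mpr ⟨mem_univ _, ⟨0, by
    simp only [pow_zero, inv_one, one_mul]
    obtain ⟨c', hc'⟩ := QuotientGroup.mk_out_eq_mul C (1 : G)
    rw [hc', one_mul]
    exact mem_centralizer_singleton_iff.mp c'.2⟩⟩⟩
  have he2 : e < p := by
    have hcard : e ≤ ((univ : Finset (ZMod p)).erase 0).card := by
      refine Finset.card_le_card_of_injOn
        (fun c => if h : inN c then ((mem_zpowers_iff.mp h).choose : ZMod p) else 0) ?_ ?_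
      · intro c hc
        have h : inN c := hFixN c (mem_filter.mp hc).2
        simp only [mem_coe, mem_erase, dif_pos h]
        refine ⟨fun h0 => ?_, mem_univ _⟩
        have h1 := (mem_zpowers_iff.mp h).choose_spec
        obtain ⟨k, hk⟩ := (ZMod.intCast_zmod_eq_zero_iff_dvd _ p).mp h0
        rw [hk, zpow_mul, zpow_natCast] at h1
        rw [S.x_pow_p, one_zpow, eq_comm, conj_eq_one_iff] at h1
        have := S.order_x
        rw [h1, orderOf_one] at this
        exact hp.out.ne_one this.symm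
      · intro a ha b hb hab
        have ha' : inN a := hFixN a (mem_filter.mp ha).2
        have hb' : inN b := hFixN b (mem_filter.mp hb).2
        simp only [dif_pos ha', dif_pos hb'] at hab
        have h1 := (mem_zpowers_iff.mp ha').choose_spec
        have h2 := (mem_zpowers_iff.mp hb').choose_spec
        have hxe : S.x ^ (mem_zpowers_iff.mp ha').choose =
            S.x ^ (mem_zpowers_iff.mp hb').choose := by
          rw [← zpow_mod_orderOf, ← zpow_mod_orderOf S.x (mem_zpowers_iff.mp hb').choose]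
          congr 1
          rw [S.order_x]
          exact (ZMod.intCast_eq_intCast_iff' _ _ p).mp hab
        rw [h1, h2] at hxe
        rw [← QuotientGroup.out_eq' a, ← QuotientGroup.out_eq' b, QuotientGroup.eq,
          mem_centralizer_singleton_iff]
        calc a.out⁻¹ * b.out * S.x = a.out⁻¹ * (b.out * S.x * b.out⁻¹) * b.out := by group
          _ = a.out⁻¹ * (a.out * S.x * a.out⁻¹) * b.out := by rw [hxe]
          _ = S.x * (a.out⁻¹ * b.out) := by group
    rw [card_erase_of_mem (mem_univ _), card_univ, ZMod.card] at hcard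
    have := hp.out.two_le
    omega
  have hek : (e : Kp p O) ≠ 0 := natCast_redK_ne_zero (Nat.not_dvd_of_pos_of_lt he1 he2)
  have hreal : ∀ h : Module.End (Kp p O) A, (∀ X, Commute h (Φk X)) → Commute h μ →
      ∃ s ∈ commAlg D.ρL, (D.tbar hFR) (D.cmp s) = h := by
    intro h0 hh0Φ hh0μ
    set h := (e : Kp p O)⁻¹ • h0 with hh
    have hhΦ : ∀ X, Commute h (Φk X) := fun X => (hh0Φ X).smul_left _
    have hhu : Commute h ((D.tbar hFR) (D.cmp (D.ρL D.u))) := by
      rw [hbu']
      exact (hh0μ.smul_left _).mul_right (hhΦ _)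
    let hO : A →ₗ[O] A :=
      { toFun := h
        map_add' := h.map_add
        map_smul' := fun c x => h.map_smul (redK p c) x }
    obtain ⟨g, hgzM, hg⟩ := hFR.lift hO
    have hgood_g : D.Good F R g := hFR.stable g hgzM
    have hbg : (D.tbar hFR) g = h := hext _ _ fun l => by
      obtain ⟨hl, hl'⟩ := hg l
      rw [hbr g hgood_g l hl]
      exact hl'.symm
    let g' : Module.End O (Fin D.r → O) := D.M.subtype ∘ₗ g ∘ₗ D.E.rangeRestrict
    have hg'ap : ∀ w, g' w = (g ⟨D.E w, ⟨w, rfl⟩⟩ : Fin D.r → O) := fun w => rfl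
    have hg'E : Commute g' D.E := by
      refine LinearMap.ext fun w => ?_
      rw [Module.End.mul_apply, Module.End.mul_apply, hg'ap, hg'ap, D.E_fix (g _).2]
      congr 2
      exact Subtype.ext (D.E_fix ⟨w, rfl⟩)
    have hg'EE : g' * D.E = g' := by
      refine LinearMap.ext fun w => ?_
      rw [Module.End.mul_apply, hg'ap, hg'ap]
      congr 2
      exact Subtype.ext (D.E_fix ⟨w, rfl⟩)
    have hg'x : Commute g' (D.ρL S.x) := by
      refine LinearMap.ext fun w => ?_
      rw [Module.End.mul_apply, Module.End.mul_apply, hg'ap, hg'ap]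
      set m : D.M := ⟨D.E w, ⟨w, rfl⟩⟩
      have h1 : (⟨D.E (D.ρL S.x w), ⟨_, rfl⟩⟩ : D.M) = D.zM m := by
        refine Subtype.ext ?_
        show D.E (D.ρL S.x w) = D.E (D.ρL S.x (D.E w))
        rw [← Module.End.mul_apply (D.ρL S.x) D.E, (D.commute_Φ_x 1).eq, Module.End.mul_apply,
          ← Module.End.mul_apply D.E D.E, D.E_E]
      rw [h1]
      have h2 := congrArg Subtype.val (LinearMap.congr_fun hgzM.eq m)
      rw [Module.End.mul_apply, Module.End.mul_apply] at h2
      rw [h2]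
      show D.E (D.ρL S.x (g m : Fin D.r → O)) = D.ρL S.x (g m : Fin D.r → O)
      rw [← Module.End.mul_apply D.E, ← (D.commute_Φ_x 1).eq, Module.End.mul_apply,
        D.E_fix (g m).2]
    have hcmpg' : D.cmp g' = g := by
      refine LinearMap.ext fun m => Subtype.ext ?_
      rw [D.coe_cmp, hg'ap, D.E_fix (g _).2]
      exact congrArg Subtype.val (congrArg g (Subtype.ext (D.E_fix m.2)))
    obtain ⟨iv, hiv⟩ : ∃ iv : O, (Nat.card S.V : O) * iv = 1 :=
      (isUnit_natCast (p := p) S.coprime).exists_right_inv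
    haveI := Fintype.ofFinite S.V
    let gt : Module.End O (Fin D.r → O) :=
      iv • ∑ v : S.V, D.ρL v * g' * D.ρL (v : G)⁻¹
    have hgtC : ∀ c : G, Commute c S.x → D.ρL c * gt = gt * D.ρL c := by
      have hx : D.ρL S.x * gt = gt * D.ρL S.x := by
        simp only [gt, smul_mul_assoc, mul_smul_comm, sum_mul, mul_sum]
        congr 1
        refine sum_congr rfl fun v _ => ?_
        have hc := S.commute v v.2
        rw [← mul_assoc, ← mul_assoc, ← map_mul, hc.eq, map_mul, mul_assoc (D.ρL (v : G)),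
          ← hg'x.eq, ← mul_assoc, mul_assoc _ (D.ρL S.x), ← map_mul, hc.inv_right.eq, map_mul,
          ← mul_assoc]
      have hv : ∀ w ∈ S.V, D.ρL w * gt = gt * D.ρL w := by
        intro w hw
        simp only [gt, smul_mul_assoc, mul_smul_comm, sum_mul, mul_sum]
        congr 1
        refine Fintype.sum_equiv (Equiv.mulLeft (⟨w, hw⟩ : S.V)) _ _ fun v => ?_
        simp only [Equiv.coe_mulLeft, Subgroup.coe_mul, mul_inv_rev, map_mul, ← mul_assoc]
        rw [mul_assoc _ (D.ρL w⁻¹) (D.ρL w), ← map_mul D.ρL w⁻¹ w, inv_mul_cancel, map_one, mul_one]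
      intro c hc
      obtain ⟨i, v, hv', rfl⟩ := S.factor c hc
      rw [map_mul, map_pow]
      exact ((show Commute (D.ρL S.x) gt from hx).pow_left i).mul_left
        (show Commute (D.ρL v) gt from hv v hv') |>.eq
    have hgtE : Commute gt D.E := by
      refine (Commute.sum_left _ _ _ fun v _ => ?_).smul_left _
      exact ((D.commute_E_V v.2).mul_left hg'E).mul_left (D.commute_E_V (inv_mem v.2))
    have hgtEE : gt * D.E = gt := by
      simp only [gt, smul_mul_assoc, sum_mul]
      congr 1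
      refine sum_congr rfl fun v _ => ?_
      rw [mul_assoc, (D.commute_E_V (inv_mem v.2)).eq, ← mul_assoc, mul_assoc (D.ρL (v : G)),
        hg'EE]
    have hgoodv : ∀ v ∈ S.V, D.Good F R (D.cmp (D.ρL v)) := fun v hv =>
      hgz _ ((S.commute v hv).symm.map D.ρL) (D.commute_E_V hv)
    have hgoodgt : D.Good F R (D.cmp gt) := by
      refine hgz gt ?_ hgtE
      exact (show Commute (D.ρL S.x) gt from hgtC S.x (Commute.refl _)).symm
    have hbgt : (D.tbar hFR) (D.cmp gt) = h := by
      have hterm : ∀ v : S.V, D.cmp (D.ρL v * g' * D.ρL (v : G)⁻¹) =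
          D.cmp (D.ρL v) * g * D.cmp (D.ρL (v : G)⁻¹) := fun v => by
        rw [D.cmp_mul_right (D.commute_E_V (inv_mem v.2)), D.cmp_mul_left (D.commute_E_V v.2),
          hcmpg']
      simp only [gt, D.cmp_smul, D.cmp_sum, hterm]
      have hgv : ∀ v : S.V, D.Good F R (D.cmp (D.ρL v) * g * D.cmp (D.ρL (v : G)⁻¹)) := fun v =>
        ((hgoodv v v.2).mul D hgood_g).mul D (hgoodv _ (inv_mem v.2))
      rw [hbr_smul _ _ (Good.sum D _ fun v _ => hgv v), D.tbar_sum hFR _ _ fun v _ => hgv v]
      have hvh : ∀ v : S.V, (D.tbar hFR) (D.cmp (D.ρL v) * g * D.cmp (D.ρL (v : G)⁻¹)) = h := by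
        intro v
        rw [hbr_mul _ _ ((hgoodv v v.2).mul D hgood_g) (hgoodv _ (inv_mem v.2)),
          hbr_mul _ _ (hgoodv v v.2) hgood_g, hbg]
        obtain ⟨X, hX, -⟩ := D.Φleft v v.2
        have h1 : (D.tbar hFR) (D.cmp (D.ρL v)) = Φk (X.map (redK p)) := by
          rw [hΦkapp, ← hX, D.cmp_mul_left (D.commute_E_V v.2), D.cmp_E, mul_one]
        rw [show (D.tbar hFR) (D.cmp (D.ρL v)) * h = h * (D.tbar hFR) (D.cmp (D.ρL v)) by
          rw [h1, (hhΦ _).eq], mul_assoc, ← hbr_mul _ _ (hgoodv v v.2) (hgoodv _ (inv_mem v.2)),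
          ← D.cmp_mul_left (D.commute_E_V v.2), ← map_mul, mul_inv_cancel, map_one, D.cmp_one,
          hbr_one, mul_one]
      rw [sum_congr rfl fun v _ => hvh v, sum_const, card_univ, ← Nat.card_eq_fintype_card,
        ← Nat.cast_smul_eq_nsmul (Kp p O), smul_smul, ← map_natCast (redK p), ← map_mul, mul_comm,
        hiv, map_one, one_smul]
    -- the sum over the cosets
    let W : G → Module.End O (Fin D.r → O) := fun a => D.ρL a * gt * D.ρL a⁻¹
    have hWc : ∀ a c, Commute c S.x → W (a * c) = W a := by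
      intro a c hc
      simp only [W, map_mul, mul_inv_rev, ← mul_assoc]
      rw [mul_assoc (D.ρL a), hgtC c hc, ← mul_assoc, mul_assoc _ (D.ρL c), ← map_mul,
        mul_inv_cancel, map_one, mul_one]
    let Wq : G ⧸ C → Module.End O (Fin D.r → O) := fun q => W q.out
    have hWq : ∀ a : G, Wq (a : G ⧸ C) = W a := by
      intro a
      obtain ⟨c, hc⟩ := QuotientGroup.mk_out_eq_mul C a
      show W (a : G ⧸ C).out = _
      rw [hc]
      exact hWc a c (mem_centralizer_singleton_iff.mp c.2)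
    let s := ∑ q : G ⧸ C, Wq q
    have hs : s ∈ commAlg D.ρL := by
      rw [Subalgebra.mem_centralizer_iff]
      rintro _ ⟨h', rfl⟩
      show D.ρL h' * s = s * D.ρL h'
      simp only [s, mul_sum, sum_mul]
      refine Fintype.sum_equiv (MulAction.toPerm h') _ _ fun q => ?_
      obtain ⟨a, rfl⟩ := QuotientGroup.mk_surjective q
      show _ = Wq (h' • (a : G ⧸ C)) * D.ρL h'
      rw [MulAction.Quotient.smul_mk, smul_eq_mul, hWq, hWq]
      simp only [W, map_mul, mul_inv_rev, ← mul_assoc]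
      rw [mul_assoc _ (D.ρL h'⁻¹), ← map_mul D.ρL h'⁻¹ h', inv_mul_cancel, map_one, mul_one]
    refine ⟨s, hs, ?_⟩
    -- the cosets in the stabiliser
    have hin : ∀ q, Fix q → D.Good F R (D.cmp (Wq q)) ∧ (D.tbar hFR) (D.cmp (Wq q)) = h := by
      rintro q ⟨i, hi⟩
      have hq : Wq q = W (D.u ^ i) := by
        rw [← hWc (D.u ^ i) _ hi, mul_inv_cancel_left]
      obtain ⟨k, hk⟩ : ∃ k : ℕ, (D.u ^ i)⁻¹ = D.u ^ k := by
        have h1 : (D.u ^ i)⁻¹ ∈ zpowers D.u := inv_mem (pow_mem (mem_zpowers _) _)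
        rw [← mem_powers_iff_mem_zpowers] at h1
        obtain ⟨k, hk⟩ := h1
        exact ⟨k, hk.symm⟩
      have hE' : ∀ j : ℕ, Commute (D.ρL (D.u ^ j)) D.E := D.commute_E_pow D.commute_E_u
      have hgj : ∀ j : ℕ, D.Good F R (D.cmp (D.ρL (D.u ^ j))) := fun j => by
        rw [map_pow, D.cmp_pow D.commute_E_u]; exact hgood_u.pow D j
      have hbj : ∀ j : ℕ, (D.tbar hFR) (D.cmp (D.ρL (D.u ^ j))) = (D.tbar hFR) (D.cmp (D.ρL D.u)) ^ j := fun j => by
        rw [map_pow, D.cmp_pow D.commute_E_u, hbr_pow _ hgood_u]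
      rw [hq]
      simp only [W]
      rw [hk, D.cmp_mul_right (hE' k), D.cmp_mul_left (hE' i)]
      refine ⟨((hgj i).mul D hgoodgt).mul D (hgj k), ?_⟩
      rw [hbr_mul _ _ ((hgj i).mul D hgoodgt) (hgj k), hbr_mul _ _ (hgj i) hgoodgt, hbgt, hbj, hbj,
        ← (hhu.pow_right i).eq, mul_assoc, ← pow_add]
      have h1 : (D.tbar hFR) (D.cmp (D.ρL D.u)) ^ (i + k) = 1 := by
        rw [← hbj, pow_add, ← hk, mul_inv_cancel, map_one, D.cmp_one, hbr_one]
      rw [h1, mul_one]
    -- the cosets in the normalizer outside the stabiliser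
    have hzero : ∀ q, inN q → ¬ Fix q → D.cmp (Wq q) = 0 := by
      intro q hq hF
      refine D.cmp_eq_zero ?_
      have hEE : D.E * D.ρL q.out * D.E = 0 := (D.cover q.out hq).resolve_left hF
      show D.E * (D.ρL q.out * gt * D.ρL q.out⁻¹) * D.E = 0
      have : D.ρL q.out * gt = D.ρL q.out * D.E * gt := by
        rw [mul_assoc (D.ρL q.out) D.E, ← hgtE.eq, hgtEE]
      rw [this, ← mul_assoc, ← mul_assoc, ← mul_assoc, hEE, zero_mul, zero_mul, zero_mul]
    -- the free orbits
    have hfree : ∀ (c : G ⧸ C), ¬ inN c → ∀ i j : ℕ, i < p → j < p →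
        (S.x ^ i) • c = (S.x ^ j) • c → i = j := by
      intro c hc
      suffices key : ∀ i j : ℕ, j < p → i ≤ j → (S.x ^ i) • c = (S.x ^ j) • c → i = j by
        intro i j hi hj hij
        rcases le_total i j with h | h
        · exact key i j hj h hij
        · exact (key j i hi h hij.symm).symm
      intro i j hj hle hij
      obtain ⟨d, rfl⟩ := Nat.exists_eq_add_of_le hle
      rw [pow_add, mul_smul, smul_left_cancel_iff] at hij
      by_contra hne
      apply hc
      have hd : d ≠ 0 := by omega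
      obtain ⟨a, rfl⟩ := QuotientGroup.mk_surjective c
      refine (hxmem a).mp ?_
      rw [MulAction.Quotient.smul_mk, smul_eq_mul, QuotientGroup.eq,
        mem_centralizer_singleton_iff] at hij
      have hC : Commute (a⁻¹ * S.x ^ d * a) S.x := by
        show _ * S.x = S.x * _
        rw [mul_assoc a⁻¹]
        have h0 : (a⁻¹ * (S.x ^ d * a)) * S.x = S.x * (a⁻¹ * (S.x ^ d * a)) := hij
        exact h0
      obtain ⟨i', v, hv, hiv⟩ := S.factor _ hC
      have hvp : (a⁻¹ * S.x ^ d * a) ^ p = 1 := by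
        rw [show a⁻¹ * S.x ^ d * a = a⁻¹ * S.x ^ d * a⁻¹⁻¹ by rw [inv_inv], conj_pow, ← pow_mul,
          mul_comm d p, pow_mul, S.x_pow_p, one_pow]
        group
      have hv1 : v = 1 := by
        rw [hiv, ((S.commute v hv).pow_left i').mul_pow, ← pow_mul, mul_comm i' p, pow_mul,
          S.x_pow_p, one_pow, one_mul] at hvp
        have h1 : orderOf v ∣ p := orderOf_dvd_of_pow_eq_one hvp
        rcases (Nat.dvd_prime hp.out).mp h1 with h2 | h2
        · exact orderOf_eq_one_iff.mp h2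
        · exact absurd (h2.symm.dvd.trans (Subgroup.orderOf_dvd_natCard _ hv)) S.coprime
      rw [hv1, mul_one] at hiv
      have hi' : Nat.Coprime i' p := by
        refine ((Nat.Prime.coprime_iff_not_dvd hp.out).mpr fun hdi => ?_).symm
        obtain ⟨m, rfl⟩ := hdi
        rw [pow_mul, S.x_pow_p, one_pow] at hiv
        have h1 : S.x ^ d = 1 := by
          calc S.x ^ d = a * (a⁻¹ * S.x ^ d * a) * a⁻¹ := by group
            _ = 1 := by rw [hiv]; group
        have h2 := orderOf_dvd_of_pow_eq_one h1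
        rw [S.order_x] at h2
        exact absurd (Nat.le_of_dvd (Nat.pos_of_ne_zero hd) h2) (by omega)
      have h3 : a * S.x ^ i' * a⁻¹ = S.x ^ d := by rw [← hiv]; group
      obtain ⟨m, hm⟩ := exists_pow_eq_self_of_coprime
        (show Nat.Coprime i' (orderOf S.x) by rwa [S.order_x])
      have h4 : a * S.x * a⁻¹ = (S.x ^ d) ^ m := by rw [← h3, conj_pow, hm]
      rw [h4]
      exact pow_mem (pow_mem (mem_zpowers _) _) _
    have houtx : ∀ (c : G ⧸ C) (i : ℕ), inN ((S.x ^ i) • c) ↔ inN c := by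
      intro c i
      obtain ⟨a, rfl⟩ := QuotientGroup.mk_surjective c
      rw [MulAction.Quotient.smul_mk, ← hxmem, ← hxmem, smul_eq_mul]
      rw [show S.x ^ i * a * S.x * (S.x ^ i * a)⁻¹ = S.x ^ i * (a * S.x * a⁻¹) * (S.x ^ i)⁻¹ by
        group]
      rw [mul_mem_cancel_right (inv_mem (pow_mem (mem_zpowers _) _)),
        mul_mem_cancel_left (pow_mem (mem_zpowers _) _)]
    let rel : Setoid (G ⧸ C) :=
      { r := fun c d => ∃ i : ℕ, (S.x ^ i) • c = d
        iseqv :=
          { refl := fun c => ⟨0, by simp⟩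
            symm := fun {c d} ⟨i, hi⟩ => ⟨i * (p - 1), by
              rw [← hi, ← mul_smul, ← pow_add]
              have : i * (p - 1) + i = p * i := by
                obtain ⟨m, hm⟩ : ∃ m, p = m + 1 := ⟨p - 1, by have := hp.out.pos; omega⟩
                rw [hm, Nat.add_sub_cancel]
                ring
              rw [this, pow_mul, S.x_pow_p, one_pow, one_smul]⟩
            trans := fun {a b c} ⟨i, hi⟩ ⟨j, hj⟩ => ⟨j + i, by
              rw [pow_add, mul_smul, hi, hj]⟩ } }
    let reps := univ.filter fun c : G ⧸ C => ¬ inN c ∧ (Quotient.mk rel c).out = c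
    let φ : Module.End O D.M := ∑ c ∈ reps, D.cmp (Wq c)
    set zi := D.zM ^ (p - 1)
    have hconj : ∀ (c : G ⧸ C) (i : ℕ), i < p →
        D.cmp (Wq ((S.x ^ i) • c)) = D.zM ^ i * D.cmp (Wq c) * zi ^ i := by
      intro c i hi
      obtain ⟨a, rfl⟩ := QuotientGroup.mk_surjective c
      rw [MulAction.Quotient.smul_mk, smul_eq_mul, hWq, hWq]
      have h1 : zi ^ i = D.cmp (D.ρL (S.x ^ i)⁻¹) := by
        rw [← pow_mul, D.zM_pow_eq]
        congr 2
        rw [eq_inv_iff_mul_eq_one, ← pow_add]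
        have : (p - 1) * i + i = p * i := by
          obtain ⟨m, hm⟩ : ∃ m, p = m + 1 := ⟨p - 1, by have := hp.out.pos; omega⟩
          rw [hm, Nat.add_sub_cancel]
          ring
        rw [this, pow_mul, S.x_pow_p, one_pow]
      have hEx : ∀ y : G, Commute y S.x → Commute (D.ρL y) D.E := fun y hy => D.commute_E_cent hy
      rw [h1, D.zM_pow_eq, ← D.cmp_mul_left (hEx _ ((Commute.refl S.x).pow_left i)),
        ← D.cmp_mul_right (hEx _ ((Commute.refl S.x).pow_left i).inv_left)]
      congr 1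
      simp only [W, map_mul, mul_inv_rev, mul_assoc]
    have hout : ∀ l ∈ F, (∑ c ∈ univ.filter (fun c => ¬ inN c), D.cmp (Wq c)) l ∈ R := by
      intro l hl
      have key : ∑ c ∈ univ.filter (fun c => ¬ inN c), D.cmp (Wq c) l =
          ∑ i ∈ range p, (D.zM ^ i) (φ (zi ^ i • l)) := by
        have hterm : ∀ i ∈ range p, (D.zM ^ i) (φ (zi ^ i • l)) =
            ∑ c ∈ reps, D.cmp (Wq ((S.x ^ i) • c)) l := by
          intro i hi
          show (D.zM ^ i) (φ ((zi ^ i) l)) = _
          simp only [φ, LinearMap.sum_apply, map_sum]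
          refine sum_congr rfl fun c _ => ?_
          rw [hconj c i (mem_range.mp hi)]
          rfl
        rw [sum_congr rfl hterm, sum_comm, ← Finset.sum_product']
        refine (Finset.sum_bij' (fun q _ => (S.x ^ q.2) • q.1)
          (fun d hd => ((Quotient.mk rel d).out,
            (Quotient.exact (s := rel) (Quotient.out_eq (Quotient.mk rel d))).choose % p))
          ?_ ?_ ?_ ?_ ?_).symm
        · rintro ⟨c, i⟩ hq
          simp only [mem_product, mem_filter, mem_univ, true_and, reps] at hq ⊢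
          rw [houtx]
          exact hq.1.1
        · intro d hd
          simp only [mem_product, mem_filter, mem_univ, true_and, mem_range, reps] at hd ⊢
          obtain ⟨i, hi⟩ : ∃ i, (S.x ^ i) • (Quotient.mk rel d).out = d :=
            Quotient.exact (s := rel) (Quotient.out_eq (Quotient.mk rel d))
          refine ⟨⟨fun hN => hd ?_, ?_⟩, Nat.mod_lt _ hp.out.pos⟩
          · rw [← hi, houtx]; exact hN
          · rw [Quotient.out_eq]
        · rintro ⟨c, i⟩ hq
          simp only [mem_product, mem_filter, mem_univ, true_and, mem_range, reps] at hq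
          have hcls : Quotient.mk rel ((S.x ^ i) • c) = Quotient.mk rel c :=
            (Quotient.sound (s := rel) ⟨i, rfl⟩).symm
          have h1 := (Quotient.exact (s := rel)
            (Quotient.out_eq (Quotient.mk rel ((S.x ^ i) • c)))).choose_spec
          generalize (Quotient.exact (s := rel)
            (Quotient.out_eq (Quotient.mk rel ((S.x ^ i) • c)))).choose = j at h1 ⊢
          rw [hcls, hq.1.2] at h1
          refine Prod.ext (by rw [hcls, hq.1.2]) ?_
          refine hfree c hq.1.1 _ _ (Nat.mod_lt _ hp.out.pos) hq.2 ?_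
          rw [S.x_pow_mod]
          exact h1
        · intro d hd
          have h1 := (Quotient.exact (s := rel) (Quotient.out_eq (Quotient.mk rel d))).choose_spec
          rw [S.x_pow_mod]
          exact h1
        · intro q _
          rfl
      rw [LinearMap.sum_apply, key]
      exact hFR.trace_mem φ l hl
    have hsplit : D.cmp s = ∑ q ∈ univ.filter Fix, D.cmp (Wq q) +
        ∑ c ∈ univ.filter (fun c => ¬ inN c), D.cmp (Wq c) := by
      simp only [s, D.cmp_sum]
      rw [← sum_filter_add_sum_filter_not univ inN fun q => D.cmp (Wq q)]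
      congr 1
      refine (sum_subset (fun q hq => mem_filter.mpr ⟨mem_univ q, hFixN q (mem_filter.mp hq).2⟩)
        fun q hq hnq => hzero q (mem_filter.mp hq).2 fun hF => hnq (mem_filter.mpr ⟨mem_univ q, hF⟩)).symm
    refine hext _ _ fun l => ?_
    have hT := Good.sum D (univ.filter Fix) fun q hq => (hin q (mem_filter.mp hq).2).1
    rw [hbr _ (hgood_comm s hs) l ((hgood_comm s hs).1 _ l.2)]
    have e1 : (Submodule.Quotient.mk ⟨D.cmp s l, (hgood_comm s hs).1 _ l.2⟩ : A) =
        Submodule.Quotient.mk ⟨(∑ q ∈ univ.filter Fix, D.cmp (Wq q)) l, hT.1 _ l.2⟩ := by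
      refine (Submodule.Quotient.eq _).mpr ?_
      show D.cmp s l - (∑ q ∈ univ.filter Fix, D.cmp (Wq q)) l ∈ R
      rw [hsplit, LinearMap.add_apply, add_sub_cancel_left]
      exact hout _ l.2
    rw [e1, ← hbr _ hT l (hT.1 _ l.2), D.tbar_sum hFR _ _ fun q hq => (hin q (mem_filter.mp hq).2).1,
      sum_congr rfl fun q hq => (hin q (mem_filter.mp hq).2).2, sum_const,
      ← Nat.cast_smul_eq_nsmul (Kp p O), hh, smul_smul, mul_inv_cancel₀ hek, one_smul]
  have hspan : ∀ h : Module.End (Kp p O) A, (∀ X, Commute h (Φk X)) → Commute h μ →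
      ∃ (c : Fin n → Kp p O) (h' : Module.End (Kp p O) A), (∀ X, Commute h' (Φk X)) ∧
        Commute h' μ ∧ h = ∑ j, c j • (D.tbar hFR) (D.cmp (a j : Module.End O (Fin D.r → O))) + π * h' := by
    intro h hΦ hμ'
    obtain ⟨s, hs, rfl⟩ := hreal h hΦ hμ'
    obtain ⟨cf, s', hs', hdec⟩ := hgen s hs
    refine ⟨fun j => redK p (cf j), (D.tbar hFR) (D.cmp s'), fun X => ?_, hcomm_u s' hs', ?_⟩
    · rw [← hlm X, hΦkapp]
      show _ * _ = _ * _
      rw [← hbr_mul _ _ (hgood_comm s' hs') (hgood_Φ _), ← hbr_mul _ _ (hgood_Φ _) (hgood_comm s' hs'),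
        ← D.cmp_mul_left (D.commute_Φ_comm hs' 1), ← D.cmp_mul_left (hEΦ _),
        (D.commute_Φ_comm hs' _).eq]
    · have hga : ∀ j, D.Good F R (cf j • D.cmp (a j : Module.End O (Fin D.r → O))) := fun j =>
        (hgood_comm _ (a j).2).smul D _
      have hgs' := hgood_Z.mul D (hgood_comm s' hs')
      rw [hdec, D.cmp_add, D.cmp_sum, D.cmp_mul_left (D.commute_Φ_comm hZ1mem 1)]
      simp only [D.cmp_smul]
      have h2 := D.tbar_sum hFR (univ : Finset Bool) (fun b => if b then
        ∑ j, cf j • D.cmp (a j : Module.End O (Fin D.r → O))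
        else D.cmp (D.Z - 1) * D.cmp s') fun b _ => by
          cases b <;> simp only [Bool.false_eq_true, if_false, if_true]
          exacts [hgs', Good.sum D _ fun j _ => hga j]
      simp only [Fintype.sum_bool, Bool.false_eq_true, if_false, if_true] at h2
      rw [h2, D.tbar_sum hFR _ _ fun j _ => hga j, hbr_mul _ _ hgood_Z (hgood_comm s' hs')]
      congr 1
      exact sum_congr rfl fun j _ => hbr_smul _ _ (hgood_comm _ (a j).2)
  have hNk : ((N : ℕ) : Kp p O) ≠ 0 := natCast_redK_ne_zero hN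
  have hπμ : Commute π μ := hcomm_u _ hZ1mem
  have hrank := finrank_le_count hω hNk Φk μ π hμΦ hμN hπΦ hπμ hπnil
    (fun j => (D.tbar hFR) (D.cmp (a j : Module.End O (Fin D.r → O)))) hspan
  rw [Module.natCard_eq_pow_finrank (K := Kp p O) (V := A)]
  exact Nat.pow_le_pow_right Nat.card_pos hrank

end Setup

end Cfsg.Agent.Lib.DefectTwist
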