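/-
An irreducible character of a group of order prime to `p` realised over the unramified base.
-/
import Mathlib
import Cfsg.Agent.Lib.DefectTwist.Lattice

set_option autoImplicit false
set_option linter.unusedSectionVars false
set_option linter.style.haveILetI false

namespace Cfsg.Agent.Lib.DefectTwist

open Finset Cfsg Cfsg.Agent.Lib
open scoped Matrix

variable {O : Type} [CommRing O] [IsDomain O] [IsPrincipalIdealRing O] [CharZero O]

universe u

/-- An irreducible character is afforded over the base ring. -/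
theorem exists_rep (ι : O →+* ℂ) (hι : Function.Injective ι) {V : Type u} [Group V] [Fintype V]
    (hroots : ∀ z : ℂ, z ^ Nat.card V = 1 → z ∈ Set.range ι) (φ : IrrCharacter V) :
    ∃ (d : ℕ) (ρW : V →* Matrix (Fin d) (Fin d) O),
      0 < d ∧ (φ : V → ℂ) 1 = d ∧ ∀ v, ι (Matrix.trace (ρW v)) = (φ : V → ℂ) v := by
  classical
  let K := FractionRing O
  let ι0 : K →+* ℂ := IsFractionRing.lift hι
  have hK : ∀ a, ι0 (algebraMap O K a) = ι a := fun a => IsFractionRing.lift_algebraMap hι a
  have hrootsK : ∀ z : ℂ, z ^ Monoid.exponent V = 1 → ∃ k : K, ι0 k = z := by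
    intro z hz
    obtain ⟨c, hc⟩ := Group.exponent_dvd_nat_card (G := V)
    obtain ⟨a, ha⟩ := hroots z (by rw [hc, pow_mul, hz, one_pow])
    exact ⟨algebraMap O K a, by rw [hK, ha]⟩
  obtain ⟨n, ρ, hρ, hφ⟩ := φ.2
  obtain ⟨σ, ⟨he⟩, hσ⟩ := Chars.exists_realisation ι0 hrootsK ρ
  choose kk hkk using hσ
  have hinjK : Function.Injective (fun A : Matrix (Fin n) (Fin n) K => A.map ι0) :=
    Matrix.map_injective ι0.injective
  have hmap : ∀ g, (Matrix.of (kk g)).map ι0 = LinearMap.toMatrix' (σ g) := fun g => by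
    ext i j; exact hkk g i j
  let τK : V →* Matrix (Fin n) (Fin n) K :=
    { toFun := fun g => Matrix.of (kk g)
      map_one' := hinjK (by
        show (Matrix.of (kk 1)).map ι0 = (1 : Matrix (Fin n) (Fin n) K).map ι0
        rw [hmap, map_one, Module.End.one_eq_id, LinearMap.toMatrix'_id,
          Matrix.map_one _ (map_zero _) (map_one _)])
      map_mul' := fun g h => hinjK (by
        show (Matrix.of (kk (g * h))).map ι0 = (Matrix.of (kk g) * Matrix.of (kk h)).map ι0
        rw [Matrix.map_mul, hmap, hmap, hmap, map_mul, LinearMap.toMatrix'_mul]) }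
  obtain ⟨d, ρW, P, Q, hPQ, hQP, hW⟩ := exists_integral_matrices (O := O) τK
  have htr : ∀ v, ι (Matrix.trace (ρW v)) = (φ : V → ℂ) v := by
    intro v
    rw [← hK, show algebraMap O K (Matrix.trace (ρW v)) = Matrix.trace ((ρW v).map (algebraMap O K))
      by simp [Matrix.trace], hW, Matrix.trace_mul_cycle, hQP, Matrix.one_mul]
    have h1 : (φ : V → ℂ) v = LinearMap.trace ℂ _ (σ v) := by
      rw [← hφ, Representation.char_iso he]
      rfl
    rw [h1, LinearMap.trace_eq_matrix_trace ℂ (Pi.basisFun ℂ (Fin n)),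
      LinearMap.toMatrix_eq_toMatrix', ← hmap]
    show ι0 (Matrix.trace (Matrix.of (kk v))) = _
    simp [Matrix.trace]
  have hd : (φ : V → ℂ) 1 = d := by
    rw [← htr 1, map_one, Matrix.trace_one, Fintype.card_fin, map_natCast]
  refine ⟨d, ρW, Nat.pos_of_ne_zero fun h => Chars.irr_apply_one_ne_zero φ ?_, hd, htr⟩
  rw [hd, h, Nat.cast_zero]

section Orth

variable (ι : O →+* ℂ) (hι : Function.Injective ι) {V : Type u} [Group V] [Fintype V]
  {φ : IrrCharacter V} {d : ℕ} {ρW : V →* Matrix (Fin d) (Fin d) O}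
  (htr : ∀ v, ι (Matrix.trace (ρW v)) = (φ : V → ℂ) v)

include hι htr

/-- An element commuting with the representation is a scalar. -/
theorem smul_eq_trace_of_commute (Y : Matrix (Fin d) (Fin d) O)
    (hY : ∀ v, Commute Y (ρW v)) : (d : O) • Y = Matrix.trace Y • (1 : Matrix (Fin d) (Fin d) O) := by
  classical
  let σ : Representation ℂ V (Fin d → ℂ) :=
    (Matrix.toLinAlgEquiv' (R := ℂ) (n := Fin d)).toAlgHom.toRingHom.toMonoidHom.comp
      ((RingHom.mapMatrix ι).toMonoidHom.comp ρW)
  have hchar : σ.character = (φ : V → ℂ) := by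
    funext v
    rw [Representation.character, LinearMap.trace_eq_matrix_trace ℂ (Pi.basisFun ℂ (Fin d)),
      LinearMap.toMatrix_eq_toMatrix']
    show Matrix.trace (LinearMap.toMatrix' (Matrix.toLin' ((ρW v).map ι))) = _
    rw [LinearMap.toMatrix'_toLin', ← htr]
    simp [Matrix.trace]
  have h1 : Module.finrank ℂ (Representation.IntertwiningMap σ σ) = 1 := by
    have h := Chars.classInner_char_eq_finrank σ σ
    rw [hchar, Chars.classInner_irr_self, eq_comm] at h
    exact_mod_cast h
  let T : Representation.IntertwiningMap σ σ :=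
    ⟨Matrix.toLin' (Y.map ι), fun v => by
      show Matrix.toLin' (Y.map ι) ∘ₗ Matrix.toLin' ((ρW v).map ι) =
        Matrix.toLin' ((ρW v).map ι) ∘ₗ Matrix.toLin' (Y.map ι)
      rw [← Matrix.toLin'_mul, ← Matrix.toLin'_mul, ← Matrix.map_mul, ← Matrix.map_mul, (hY v).eq]⟩
  let one : Representation.IntertwiningMap σ σ := ⟨LinearMap.id, fun v => rfl⟩
  have hone : one ≠ 0 := by
    intro h
    have hd : 0 < d := Nat.pos_of_ne_zero fun h0 => Chars.irr_apply_one_ne_zero φ (by
      rw [← htr 1, map_one, Matrix.trace_one, Fintype.card_fin, h0, Nat.cast_zero, map_zero])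
    have h2 := congrArg (fun f : Representation.IntertwiningMap σ σ =>
      f.toLinearMap (Pi.single ⟨0, hd⟩ 1) ⟨0, hd⟩) h
    simp [one] at h2
  obtain ⟨c, hc⟩ := (finrank_eq_one_iff_of_nonzero' one hone).mp h1 T
  have hm : Y.map ι = c • (1 : Matrix (Fin d) (Fin d) ℂ) := by
    apply Matrix.toLin'.injective
    rw [map_smul, Matrix.toLin'_one]
    exact (congrArg (fun f : Representation.IntertwiningMap σ σ => f.toLinearMap) hc).symm
  have htrY : ι (Matrix.trace Y) = c * d := by
    rw [show ι (Matrix.trace Y) = Matrix.trace (Y.map ι) by simp [Matrix.trace], hm,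
      Matrix.trace_smul, Matrix.trace_one, Fintype.card_fin, smul_eq_mul]
  apply Matrix.map_injective hι
  ext i j
  have hij := congrFun (congrFun hm i) j
  simp only [Matrix.map_apply, Matrix.smul_apply, smul_eq_mul, map_mul, map_natCast] at hij ⊢
  rw [hij, htrY, Matrix.one_apply, Matrix.one_apply]
  split_ifs <;> simp [mul_comm]

/-- Schur's orthogonality relations. -/
theorem sum_trace_smul (X : Matrix (Fin d) (Fin d) O) :
    (d : O) • ∑ v : V, Matrix.trace (X * ρW v⁻¹) • ρW v = (Nat.card V : O) • X := by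
  classical
  have key : ∀ j l : Fin d, (d : O) • ∑ v : V, ρW v * Matrix.single j l (1 : O) * ρW v⁻¹ =
      ((Nat.card V : O) * if j = l then 1 else 0) • (1 : Matrix (Fin d) (Fin d) O) := by
    intro j l
    rw [smul_eq_trace_of_commute ι hι htr _ fun w => ?_]
    · congr 1
      rw [Matrix.trace_sum, sum_congr rfl fun v _ => by
        rw [Matrix.trace_mul_cycle, ← map_mul, inv_mul_cancel, map_one, Matrix.one_mul],
        sum_const, card_univ, ← Nat.card_eq_fintype_card, nsmul_eq_mul]
      congr 1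
      by_cases h : j = l
      · subst h; simp [Matrix.trace_single_eq_same]
      · rw [if_neg h, Matrix.trace_single_eq_of_ne j l (1 : O) h]
    · show _ * ρW w = ρW w * _
      rw [sum_mul, mul_sum]
      refine Fintype.sum_equiv (Equiv.mulLeft w⁻¹) _ _ fun v => ?_
      simp only [Equiv.coe_mulLeft, map_mul, mul_inv_rev, inv_inv, ← Matrix.mul_assoc]
      rw [← map_mul ρW w w⁻¹, mul_inv_cancel, map_one, Matrix.one_mul]
  ext i j
  simp only [Matrix.smul_apply, Matrix.sum_apply, smul_eq_mul]
  have h1 : ∀ v : V, Matrix.trace (X * ρW v⁻¹) * ρW v i j =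
      ∑ l : Fin d, ∑ a : Fin d, X a l * (ρW v * Matrix.single j l (1 : O) * ρW v⁻¹) i a := by
    intro v
    have h2 : ∀ l a : Fin d, (ρW v * Matrix.single j l (1 : O) * ρW v⁻¹) i a =
        ρW v i j * ρW v⁻¹ l a := by
      intro l a
      rw [Matrix.mul_assoc, Matrix.mul_apply, sum_eq_single j]
      · rw [Matrix.single_mul_apply_same, one_mul]
      · intro b _ hb
        rw [Matrix.single_mul_apply_of_ne _ _ _ _ _ hb, mul_zero]
      · simp
    simp only [h2, Matrix.trace, Matrix.diag, Matrix.mul_apply, sum_mul]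
    rw [sum_comm]
    exact sum_congr rfl fun l _ => sum_congr rfl fun a _ => by ring
  rw [sum_congr rfl fun v _ => h1 v, mul_sum]
  rw [sum_congr rfl fun v _ => mul_sum _ _ _, sum_comm]
  have h3 : ∀ l a : Fin d, ∑ v : V, (d : O) * (X a l *
      (ρW v * Matrix.single j l (1 : O) * ρW v⁻¹) i a) =
      X a l * (((Nat.card V : O) * if j = l then 1 else 0) * (1 : Matrix (Fin d) (Fin d) O) i a) := by
    intro l a
    have h4 := congrFun (congrFun (key j l) i) a
    simp only [Matrix.smul_apply, Matrix.sum_apply, smul_eq_mul] at h4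
    rw [← h4, mul_sum, mul_sum]
    exact sum_congr rfl fun v _ => by ring
  rw [sum_congr rfl fun l _ => by
    rw [sum_congr rfl fun v _ => mul_sum _ _ _, sum_comm, sum_congr rfl fun a _ => h3 l a]]
  simp [Matrix.one_apply]
  ring

/-- A class function orthogonal to `φ` acts as zero. -/
theorem sum_smul_eq_zero (f : V → O) (hf : ∀ v w, f (w * v * w⁻¹) = f v)
    (h0 : ∑ v, ι (f v) * (φ : V → ℂ) v = 0) : ∑ v, f v • ρW v = 0 := by
  classical
  have h := smul_eq_trace_of_commute ι hι htr (∑ v, f v • ρW v) fun w => ?_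
  · have ht : Matrix.trace (∑ v, f v • ρW v) = 0 := by
      apply hι
      rw [Matrix.trace_sum, map_sum, map_zero, ← h0]
      exact sum_congr rfl fun v _ => by rw [Matrix.trace_smul, smul_eq_mul, map_mul, htr]
    rw [ht, zero_smul] at h
    have hd : (d : O) ≠ 0 := fun h' => Chars.irr_apply_one_ne_zero φ (by
      rw [← htr 1, map_one, Matrix.trace_one, Fintype.card_fin, h', map_zero])
    ext i j
    have := congrFun (congrFun h i) j
    simpa [hd] using this
  · show _ * ρW w = ρW w * _
    rw [sum_mul, mul_sum]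
    refine Fintype.sum_equiv (MulAut.conj w⁻¹).toEquiv _ _ fun v => ?_
    simp only [MulEquiv.toEquiv_eq_coe, MulEquiv.coe_toEquiv, MulAut.conj_apply, inv_inv,
      smul_mul_assoc, mul_smul_comm, ← map_mul]
    rw [show w * (w⁻¹ * v * w) = v * w by group]
    congr 1
    have := hf v w⁻¹
    rw [inv_inv] at this
    exact this.symm

/-- An intertwiner for an automorphism fixing `φ`, invertible modulo `p`. -/
theorem exists_intertwiner {p : ℕ} [Fact p.Prime] [UnramBase p O] (hV : ¬ p ∣ Nat.card V)
    (α : V ≃* V) (hα : ∀ v, (φ : V → ℂ) (α v) = (φ : V → ℂ) v) :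
    ∃ U Ui : Matrix (Fin d) (Fin d) O, U * Ui = 1 ∧ Ui * U = 1 ∧
      ∀ v, U * ρW v = ρW (α v) * U := by
  classical
  have hd0 : d ≠ 0 := fun h' => Chars.irr_apply_one_ne_zero φ (by
    rw [← htr 1, map_one, Matrix.trace_one, Fintype.card_fin, h', Nat.cast_zero, map_zero])
  haveI : Nonempty (Fin d) := ⟨⟨0, Nat.pos_of_ne_zero hd0⟩⟩
  let UY : Matrix (Fin d) (Fin d) O → Matrix (Fin d) (Fin d) O := fun Y =>
    ∑ v : V, ρW (α v) * Y * ρW v⁻¹
  have hint : ∀ Y w, UY Y * ρW w = ρW (α w) * UY Y := by
    intro Y w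
    simp only [UY, sum_mul, mul_sum]
    refine Fintype.sum_equiv (Equiv.mulLeft w⁻¹) _ _ fun v => ?_
    simp only [Equiv.coe_mulLeft, map_mul, mul_inv_rev, inv_inv, ← Matrix.mul_assoc]
    rw [← map_mul ρW, ← map_mul α, mul_inv_cancel, map_one, map_one, Matrix.one_mul]
  have hsum : ∑ i : Fin d, ∑ j : Fin d, UY (Matrix.single i j 1) i j = (Nat.card V : O) := by
    apply hι
    rw [map_natCast]
    have h1 : ∀ i j : Fin d, ∀ v : V, (ρW (α v) * Matrix.single i j (1 : O) * ρW v⁻¹) i j =
        ρW (α v) i i * ρW v⁻¹ j j := by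
      intro i j v
      rw [Matrix.mul_assoc, Matrix.mul_apply, sum_eq_single i]
      · rw [Matrix.single_mul_apply_same, one_mul]
      · intro b _ hb
        rw [Matrix.single_mul_apply_of_ne _ _ _ _ _ hb, mul_zero]
      · simp
    simp only [UY, Matrix.sum_apply, h1]
    rw [sum_congr rfl fun i _ => sum_comm, sum_comm]
    simp only [← Finset.mul_sum, ← Finset.sum_mul]
    rw [map_sum]
    have h2 : ∀ v : V, ι ((∑ i, ρW (α v) i i) * ∑ j, ρW v⁻¹ j j) =
        (φ : V → ℂ) v * (starRingEnd ℂ) ((φ : V → ℂ) v) := by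
      intro v
      rw [map_mul, show (∑ i, ρW (α v) i i) = Matrix.trace (ρW (α v)) from rfl,
        show (∑ j, ρW v⁻¹ j j) = Matrix.trace (ρW v⁻¹) from rfl, htr, htr, hα, Chars.irr_inv]
    rw [sum_congr rfl fun v _ => h2 v]
    have h3 := Chars.classInner_irr_self φ
    rw [classInner, inv_mul_eq_iff_eq_mul₀ (Nat.cast_ne_zero.mpr Nat.card_pos.ne'), mul_one] at h3
    exact h3
  obtain ⟨i, j, hij⟩ : ∃ i j, redK p (UY (Matrix.single i j 1) i j) ≠ 0 := by
    by_contra hcon
    push Not at hcon
    refine natCast_redK_ne_zero (O := O) hV ?_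
    rw [← map_natCast (redK p), ← hsum, map_sum]
    exact sum_eq_zero fun i _ => by rw [map_sum]; exact sum_eq_zero fun j _ => hcon i j
  set U := UY (Matrix.single i j 1)
  let red : Matrix (Fin d) (Fin d) O →+* Matrix (Fin d) (Fin d) (Kp p O) := (redK p).mapMatrix
  have hdu : IsUnit U.det := by
    refine UnramBase.isUnit (p := p) _ fun hdvd => hij ?_
    have hdet : (red U).det = 0 := by
      rw [← RingHom.map_det, redK_eq_zero_iff]
      exact hdvd
    obtain ⟨w, hw, hUw⟩ := Matrix.exists_mulVec_eq_zero_iff.mpr hdet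
    have hker : ∀ v, (red U).mulVec ((red (ρW v)).mulVec w) = 0 := fun v => by
      rw [Matrix.mulVec_mulVec, ← map_mul, hint, map_mul, ← Matrix.mulVec_mulVec, hUw,
        Matrix.mulVec_zero]
    have hall : ∀ X : Matrix (Fin d) (Fin d) O, (red U).mulVec ((red X).mulVec w) = 0 := by
      intro X
      have h := congrArg (fun Y => (red U).mulVec ((red Y).mulVec w)) (sum_trace_smul ι hι htr X)
      have hlin : ∀ (a : O) (Y : Matrix (Fin d) (Fin d) O),
          (red U).mulVec ((red (a • Y)).mulVec w) =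
            redK p a • (red U).mulVec ((red Y).mulVec w) := by
        intro a Y
        rw [show red (a • Y) = redK p a • red Y by
          ext a' b'; simp [red], Matrix.smul_mulVec, Matrix.mulVec_smul]
      simp only [hlin] at h
      have hz : (red U).mulVec ((red (∑ v : V, Matrix.trace (X * ρW v⁻¹) • ρW v)).mulVec w) = 0 := by
        rw [map_sum red (fun v : V => Matrix.trace (X * ρW v⁻¹) • ρW v), Matrix.sum_mulVec,
          Matrix.mulVec_sum]
        exact sum_eq_zero fun v _ => by rw [hlin, hker, smul_zero]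
      rw [hz, smul_zero, eq_comm, smul_eq_zero] at h
      exact h.resolve_left (by rw [map_natCast]; exact natCast_redK_ne_zero hV)
    obtain ⟨l, hl⟩ : ∃ l, w l ≠ 0 := Function.ne_iff.mp hw
    have h := congrFun (hall (Matrix.single j l 1)) i
    have hval : (red (Matrix.single j l (1 : O))).mulVec w = Pi.single j (w l) := by
      ext a
      rw [show red (Matrix.single j l (1 : O)) = Matrix.single j l (1 : Kp p O) by simp [red],
        Matrix.mulVec, dotProduct, sum_eq_single l]
      · by_cases ha : a = j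
        · subst ha; simp
        · simp [ha, Ne.symm ha]
      · intro b _ hb
        simp [Ne.symm hb]
      · simp
    rw [hval, Matrix.mulVec, dotProduct, sum_eq_single j (fun b _ hb => by simp [hb]) (by simp),
      Pi.single_eq_same, Pi.zero_apply, mul_eq_zero] at h
    exact h.resolve_right hl
  exact ⟨U, U⁻¹, Matrix.mul_nonsing_inv U hdu, Matrix.nonsing_inv_mul U hdu, hint _⟩

end Orth

end Cfsg.Agent.Lib.DefectTwist
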