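/-
The sum of a twisted profile is bounded by the number of Galois automorphisms fixing the character.
-/
import Mathlib
import Cfsg.Agent.Lib.DefectTwist.Core
import Cfsg.Agent.Lib.DefectTwist.Rep
import Cfsg.Agent.Lib.DefectOne.Mults

set_option autoImplicit false
set_option linter.unusedSectionVars false
set_option linter.style.haveILetI false
set_option maxSynthPendingDepth 3

namespace Cfsg.Agent.Lib.DefectTwist

open scoped ComplexConjugate
open Finset Subgroup Cfsg Cfsg.Agent.Lib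
open Cfsg.Agent.Lib.DefectOne (Local Nrm expo expo_spec expo_eq expo_mul conjV conjIrr conjIrr_apply
  conjIrr_centralizer act act_mul act_inj_expo pt mlt mN_cast mN pt_expansion expo_ne_zero
  mem_zpowers_iff_xp card_centralizer_x xp_commute)
open Cfsg.Agent.Lib.SmallGroups.PrimeChar (xp xp_one xp_injective)

section Gens

variable {O : Type} [CommRing O] [IsDomain O] [IsPrincipalIdealRing O] [CharZero O]
variable {p : ℕ} [hp : Fact p.Prime] [UnramBase p O]

/-- Generators of the commuting algebra modulo the root of unity. -/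
theorem exists_gens {Γ : Type*} [Group Γ] {r : ℕ} (ρ : Γ →* Module.End O (Fin r → O))
    (Z : Module.End O (Fin r → O)) (hZ : ∀ g, Commute Z (ρ g))
    (hsum : ∑ i ∈ range p, Z ^ i = 0) :
    ∃ (n : ℕ) (a : Fin n → commAlg ρ), n * (p - 1) = Module.finrank O (commAlg ρ) ∧
      ∀ s ∈ commAlg ρ, ∃ (cf : Fin n → O) (s' : Module.End O (Fin r → O)),
        s' ∈ commAlg ρ ∧ s = ∑ j, cf j • (a j : Module.End O (Fin r → O)) + (Z - 1) * s' := by
  classical
  obtain ⟨_, _⟩ := free_commAlg ρ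
  have hmem : Z - 1 ∈ commAlg ρ := by
    rw [Subalgebra.mem_centralizer_iff]
    rintro _ ⟨g, rfl⟩
    exact (((hZ g).sub_left (Commute.one_left _)).eq).symm
  let z : commAlg ρ := ⟨Z - 1, hmem⟩
  have hzs : ∑ i ∈ range p, (z + 1) ^ i = 0 := by
    apply Subtype.ext
    rw [AddSubmonoidClass.coe_finsetSum]
    simp only [SubmonoidClass.coe_pow, AddMemClass.coe_add, OneMemClass.coe_one, z, sub_add_cancel,
      ZeroMemClass.coe_zero]
    exact hsum
  obtain ⟨Q, hQ, hpw, hcQ⟩ := exists_unit_pow (O := O) z hzs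
  let f : Module.End O (commAlg ρ) := LinearMap.mulLeft O z
  have hf : f ^ (p - 1) = (p : O) • LinearMap.mulLeft O Q := by
    rw [LinearMap.pow_mulLeft, hpw]
    refine LinearMap.ext fun y => ?_
    simp
  have hQl : IsUnit (LinearMap.mulLeft O Q) := hQ.map (Algebra.lmul O (commAlg ρ))
  obtain ⟨-, hidx⟩ := index_range_pow_pred hQl hf
  let B := (commAlg ρ) ⧸ LinearMap.range f
  have hB : ∀ b : B, (p : O) • b = 0 := by
    intro b
    induction b using Submodule.Quotient.induction_on with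
    | H y =>
      rw [← Submodule.Quotient.mk_smul, Submodule.Quotient.mk_eq_zero]
      obtain ⟨v, hv⟩ := hQ
      refine ⟨z ^ (p - 2) * (↑v⁻¹ * y), ?_⟩
      show z * (z ^ (p - 2) * (↑v⁻¹ * y)) = _
      rw [← mul_assoc, ← pow_succ', show p - 2 + 1 = p - 1 by have := hp.out.two_le; omega, hpw, ← hv,
        smul_mul_assoc, Units.mul_inv_cancel_left]
  letI := moduleKp hB
  haveI : Module.Finite O B := inferInstance
  haveI : IsScalarTower O (Kp p O) B := ⟨fun o c x => by
    obtain ⟨b, rfl⟩ := Ideal.Quotient.mk_surjective c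
    show (o * b) • x = o • b • x
    rw [mul_smul]⟩
  haveI : Module.Finite (Kp p O) B := Module.Finite.of_restrictScalars_finite O (Kp p O) B
  let bb := Module.finBasis (Kp p O) B
  set n := Module.finrank (Kp p O) B
  choose a ha using fun j => Submodule.Quotient.mk_surjective _ (bb j)
  refine ⟨n, a, ?_, fun s hs => ?_⟩
  · have hcard : (LinearMap.range f).toAddSubgroup.index = Nat.card (Kp p O) ^ n := by
      rw [AddSubgroup.index_eq_card]
      exact Module.natCard_eq_pow_finrank (K := Kp p O) (V := B)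
    rw [hcard, ← pow_mul] at hidx
    exact Nat.pow_right_injective (Finite.one_lt_card) hidx
  · set b : B := Submodule.Quotient.mk ⟨s, hs⟩
    choose cf hcf using fun j => Ideal.Quotient.mk_surjective (bb.repr b j)
    have hb : b = Submodule.Quotient.mk (∑ j, cf j • a j) := by
      conv_lhs => rw [← bb.sum_repr b]
      rw [← Submodule.mkQ_apply, map_sum]
      refine sum_congr rfl fun j _ => ?_
      rw [map_smul, Submodule.mkQ_apply, ha, ← hcf j]
      rfl
    obtain ⟨y, hy⟩ := (Submodule.Quotient.eq _).mp hb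
    refine ⟨cf, y, y.2, ?_⟩
    have h1 := congrArg Subtype.val hy
    have h2 : ((∑ j, cf j • a j : commAlg ρ) : Module.End O (Fin r → O)) =
        ∑ j, cf j • (a j : Module.End O (Fin r → O)) := by
      rw [AddSubmonoidClass.coe_finsetSum]
      rfl
    rw [← h2]
    show s = _ + ((z * y : commAlg ρ) : Module.End O (Fin r → O))
    rw [show ((z * y : commAlg ρ) : Module.End O (Fin r → O)) = s - _ from h1]
    abel

/-- The image of a primitive root of unity. -/
theorem exists_primitive_red (ι : O →+* ℂ) (hι : Function.Injective ι) {N : ℕ} (hN : ¬ p ∣ N)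
    (hroots : ∀ z : ℂ, z ^ N = 1 → z ∈ Set.range ι) : ∃ ω : Kp p O, IsPrimitiveRoot ω N := by
  have hN0 : N ≠ 0 := fun h => hN (h ▸ dvd_zero p)
  have hζ : IsPrimitiveRoot (Complex.exp (2 * Real.pi * Complex.I / N)) N :=
    Complex.isPrimitiveRoot_exp N hN0
  obtain ⟨a, ha⟩ := hroots _ hζ.pow_eq_one
  have haN : IsPrimitiveRoot a N := IsPrimitiveRoot.of_map_of_injective (ha ▸ hζ) hι
  refine ⟨redK p a, (IsPrimitiveRoot.iff_def _ _).mpr
    ⟨by rw [← map_pow, haN.pow_eq_one, map_one], fun l hl => ?_⟩⟩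
  obtain ⟨q, hq⟩ : ∃ q, N = q + 1 := ⟨N - 1, by omega⟩
  have hprod := IsPrimitiveRoot.prod_one_sub_pow_eq_order (hq ▸ haN)
  by_contra hdvd
  have hmod : (redK p a) ^ (l % N) = 1 := by
    have h1 : (redK p a) ^ N = 1 := by rw [← map_pow, haN.pow_eq_one, map_one]
    rw [← Nat.mod_add_div l N, pow_add, pow_mul, h1, one_pow, mul_one] at hl
    exact hl
  have hm0 : l % N ≠ 0 := fun h => hdvd (Nat.dvd_of_mod_eq_zero h)
  have hlt := Nat.mod_lt l (Nat.pos_of_ne_zero hN0)
  have h0 : (N : Kp p O) = 0 := by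
    rw [← map_natCast (redK p), hq, Nat.cast_succ, ← hprod, map_prod]
    refine prod_eq_zero (i := l % N - 1) (mem_range.mpr (by omega)) ?_
    rw [map_sub, map_one, map_pow, show l % N - 1 + 1 = l % N by omega, hmod, sub_self]
  exact natCast_redK_ne_zero hN h0

end Gens

variable {G : Type*} [Group G] [Fintype G] {p : ℕ} [hp : Fact p.Prime] (S : Local p G)

noncomputable local instance instFintypeV_DefectTwist_Bound : Fintype S.V := Fintype.ofFinite _

/-- The profile twisted by an irreducible character of `V`. -/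
noncomputable def tprof (φ : IrrCharacter S.V) (χ : IrrCharacter G) (j : ZMod p) : ℂ :=
  (Nat.card S.V : ℂ)⁻¹ * ∑ v : S.V, conj ((φ : S.V → ℂ) v) * (χ : G → ℂ) (pt S (j, v))

theorem tprof_eq_sum (φ : IrrCharacter S.V) (χ : IrrCharacter G) (j : ZMod p) :
    tprof S φ χ j = ∑ k : ZMod p, (mN S (χ : G → ℂ) (k, φ) : ℂ) * ZMod.stdAddChar (k * j) := by
  classical
  have hV : (Nat.card S.V : ℂ) ≠ 0 := Nat.cast_ne_zero.mpr Nat.card_pos.ne'
  simp only [tprof, pt_expansion S (Chars.irr_isClassFunction χ), mul_sum]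
  rw [sum_comm, Fintype.sum_prod_type]
  refine sum_congr rfl fun k _ => ?_
  simp only [DefectOne.chr]
  rw [sum_eq_single φ]
  · have h := Chars.classInner_irr_self φ
    rw [classInner] at h
    rw [mN_cast S (Chars.irr_isCharacter χ)]
    conv_rhs => rw [← mul_one (mlt S (χ : G → ℂ) (k, φ)), ← h, mul_assoc]
    simp only [mul_sum, sum_mul]
    exact sum_congr rfl fun v _ => by ring
  · intro ψ _ hψ
    have h := Chars.classInner_irr_of_ne hψ
    rw [classInner] at h
    calc ∑ v : S.V, (Nat.card S.V : ℂ)⁻¹ * (conj ((φ : S.V → ℂ) v) *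
          (mlt S (χ : G → ℂ) (k, ψ) * (ZMod.stdAddChar (k * j) * (ψ : S.V → ℂ) v)))
        = mlt S (χ : G → ℂ) (k, ψ) * ZMod.stdAddChar (k * j) *
            ((Nat.card S.V : ℂ)⁻¹ * ∑ v : S.V, (ψ : S.V → ℂ) v * conj ((φ : S.V → ℂ) v)) := by
          simp only [mul_sum]
          exact sum_congr rfl fun v _ => by ring
      _ = 0 := by rw [h, mul_zero]
  · simp

theorem card_eq_mul (hsq : ¬ p ^ 2 ∣ Nat.card G) :
    Nat.card G / p * p = Nat.card G ∧ ¬ p ∣ Nat.card G / p ∧ Nat.card S.V ∣ Nat.card G / p := by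
  have hpG : p ∣ Nat.card G := S.order_x ▸ orderOf_dvd_natCard S.x
  have h1 : Nat.card G / p * p = Nat.card G := Nat.div_mul_cancel hpG
  refine ⟨h1, fun h => hsq ?_, ?_⟩
  · rw [← h1, sq]; exact Nat.mul_dvd_mul h dvd_rfl
  · have h2 := Subgroup.card_subgroup_dvd_card (centralizer ({S.x} : Set G))
    rw [card_centralizer_x S] at h2
    exact Nat.dvd_div_of_mul_dvd h2

theorem mem_zpowers_of_pow {y : G} (hy : Nrm S y) (hp1 : y ^ p = 1) : y ∈ zpowers S.x := by
  have hpow : ∀ i : ℕ, Nrm S (y ^ i) ∧ expo S (y ^ i) = expo S y ^ i := by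
    intro i
    induction i with
    | zero =>
      rw [pow_zero, pow_zero]
      exact expo_eq S (by rw [xp_one]; group)
    | succ i ih =>
      obtain ⟨h1, h2⟩ := expo_mul S ih.1 hy
      rw [pow_succ, pow_succ, ← ih.2]
      exact ⟨h1, h2⟩
  have hone : expo S y = 1 := by
    have h1 := (hpow p).2
    rw [hp1, ZMod.pow_card] at h1
    rw [← h1]
    exact (expo_eq S (by rw [xp_one]; group)).2
  have hc : Commute y S.x := by
    have h := expo_spec S hy
    rw [hone, xp_one, mul_inv_eq_iff_eq_mul] at h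
    exact h
  obtain ⟨i, v, hv, rfl⟩ := S.factor y hc
  rw [((S.commute v hv).pow_left i).mul_pow, ← pow_mul, mul_comm i p, pow_mul, S.x_pow_p, one_pow,
    one_mul] at hp1
  rcases (Nat.dvd_prime hp.out).mp (orderOf_dvd_of_pow_eq_one hp1) with h2 | h2
  · rw [orderOf_eq_one_iff.mp h2, mul_one]
    exact pow_mem (mem_zpowers _) _
  · exact absurd (h2.symm.dvd.trans (Subgroup.orderOf_dvd_natCard _ hv)) S.coprime

variable {O : Type} [CommRing O] [IsDomain O] [IsPrincipalIdealRing O] [CharZero O]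
  [UnramBase p O]

set_option maxHeartbeats 4000000 in
/-- The setup attached to a lattice and `φ`. -/
theorem exists_setup (ι : O →+* ℂ) (hι : Function.Injective ι) (hsq : ¬ p ^ 2 ∣ Nat.card G)
    (hroots : ∀ z : ℂ, z ^ (Nat.card G / p) = 1 → z ∈ Set.range ι) (φ : IrrCharacter S.V) {r : ℕ}
    (ρL : G →* Module.End O (Fin r → O)) (Z : Module.End O (Fin r → O))
    (hZ : ∀ g, Commute Z (ρL g)) (hZsum : ∑ i ∈ range p, Z ^ i = 0) :
    ∃ (d : ℕ) (w : S.V → O) (D : Setup O S (Nat.card G / p)) (ω : Kp p O),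
      D.d = d ∧ 0 < d ∧ IsPrimitiveRoot ω (Nat.card G / p) ∧
      (∀ v, ι (w v) = (d : ℂ) * (Nat.card S.V : ℂ)⁻¹ * conj ((φ : S.V → ℂ) v)) ∧
      ∃ hr : D.r = r, (∀ g, (hr ▸ D.ρL) g = ρL g) ∧ (hr ▸ D.Z) = Z ∧
        (hr ▸ D.E : Module.End O (Fin r → O)) = ∑ v : S.V, w v • ρL (v : G) := by
  classical
  obtain ⟨hmul, hN, hVN⟩ := card_eq_mul S hsq
  set N := Nat.card G / p
  obtain ⟨ω, hω⟩ := exists_primitive_red (p := p) ι hι hN hroots
  have hrootsV : ∀ z : ℂ, z ^ Nat.card S.V = 1 → z ∈ Set.range ι := fun z hz => hroots z (by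
    obtain ⟨c, hc⟩ := hVN; rw [hc, pow_mul, hz, one_pow])
  obtain ⟨d, ρW, hd, -, htr⟩ := exists_rep ι hι hrootsV φ
  obtain ⟨iv, hiv⟩ : ∃ iv : O, (Nat.card S.V : O) * iv = 1 :=
    (isUnit_natCast (p := p) S.coprime).exists_right_inv
  set cW : O := (d : O) * iv
  have horth : ∀ X : Matrix (Fin d) (Fin d) O,
      ∑ v : S.V, (cW * Matrix.trace (X * ρW v⁻¹)) • ρW v = X := by
    intro X
    have h := congrArg (iv • ·) (sum_trace_smul ι hι htr X)
    simp only [smul_smul, smul_sum] at h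
    rw [mul_comm iv, hiv, one_smul] at h
    conv_rhs => rw [← h]
    refine sum_congr rfl fun v _ => ?_
    congr 1
    simp only [cW]
    ring
  let Φ : Matrix (Fin d) (Fin d) O →ₗ[O] Module.End O (Fin r → O) :=
    { toFun := fun X => ∑ v : S.V, (cW * Matrix.trace (X * ρW v⁻¹)) • ρL (v : G)
      map_add' := fun X Y => by
        simp only [Matrix.add_mul, Matrix.trace_add, mul_add, add_smul, sum_add_distrib]
      map_smul' := fun c X => by
        simp only [Matrix.smul_mul, Matrix.trace_smul, smul_eq_mul, smul_sum, smul_smul,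
          RingHom.id_apply]
        exact sum_congr rfl fun v _ => by congr 1; ring }
  have hΦap : ∀ X, Φ X = ∑ v : S.V, (cW * Matrix.trace (X * ρW v⁻¹)) • ρL (v : G) := fun X => rfl
  have hΦmul : ∀ X Y, Φ X * Φ Y = Φ (X * Y) := by
    intro X Y
    rw [hΦap, hΦap, hΦap, Finset.sum_mul_sum]
    simp only [smul_mul_assoc, mul_smul_comm, smul_smul, ← map_mul, ← Subgroup.coe_mul]
    rw [sum_congr rfl fun v _ => (Fintype.sum_equiv (Equiv.mulLeft v) _
      (fun t => (cW * Matrix.trace (X * ρW v⁻¹) * (cW * Matrix.trace (Y * ρW (v⁻¹ * t)⁻¹))) •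
        ρL (t : G)) fun w => by simp [mul_comm]), sum_comm]
    refine sum_congr rfl fun t _ => ?_
    rw [← sum_smul]
    congr 1
    have h1 : ∀ v : S.V, Matrix.trace (Y * ρW (v⁻¹ * t)⁻¹) =
        Matrix.trace (Y * ρW t⁻¹ * ρW v) := fun v => by
      rw [mul_inv_rev, inv_inv, map_mul, Matrix.mul_assoc]
    simp only [h1]
    have h2 : ∀ v : S.V, cW * Matrix.trace (X * ρW v⁻¹) * (cW * Matrix.trace (Y * ρW t⁻¹ * ρW v)) =
        cW * Matrix.trace (Y * ρW t⁻¹ * ((cW * Matrix.trace (X * ρW v⁻¹)) • ρW v)) := fun v => by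
      rw [Matrix.mul_smul, Matrix.trace_smul, smul_eq_mul]; ring
    rw [sum_congr rfl fun v _ => h2 v, ← mul_sum, ← Matrix.trace_sum, ← Matrix.mul_sum, horth,
      Matrix.trace_mul_cycle]
  have hleft : ∀ v : S.V, ρL (v : G) * Φ 1 = Φ (ρW v) ∧ Φ 1 * ρL (v : G) = Φ (ρW v) := by
    intro v
    constructor
    · rw [hΦap, hΦap, mul_sum]
      refine Fintype.sum_equiv (Equiv.mulLeft v) _ _ fun w => ?_
      rw [mul_smul_comm, ← map_mul, ← Subgroup.coe_mul, Equiv.coe_mulLeft]
      congr 2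
      rw [Matrix.one_mul, mul_inv_rev, map_mul, Matrix.trace_mul_comm (ρW v) _, Matrix.mul_assoc,
        ← map_mul, inv_mul_cancel, map_one, Matrix.mul_one]
    · rw [hΦap, hΦap, sum_mul]
      refine Fintype.sum_equiv (Equiv.mulRight v) _ _ fun w => ?_
      rw [smul_mul_assoc, ← map_mul, ← Subgroup.coe_mul, Equiv.coe_mulRight]
      congr 2
      rw [Matrix.one_mul, mul_inv_rev, map_mul, ← Matrix.mul_assoc, ← map_mul, mul_inv_cancel,
        map_one, Matrix.one_mul]
  have hcomm : ∀ f : Module.End O (Fin r → O), (∀ v ∈ S.V, Commute f (ρL v)) →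
      ∀ X, Commute f (Φ X) := fun f hf X =>
    Commute.sum_right _ _ _ fun v _ => (hf v v.2).smul_right _
  -- a generator of the stabiliser
  let T : Subgroup (ZMod p)ˣ :=
    { carrier := {a | ∃ g, Nrm S g ∧ conjIrr S g φ = φ ∧ expo S g = (a : ZMod p)}
      one_mem' := by
        have hc : (1 : G) ∈ centralizer ({S.x} : Set G) := one_mem _
        obtain ⟨h1, h2, h3⟩ := conjIrr_centralizer S hc φ
        exact ⟨1, h2, h1, by rw [h3, Units.val_one]⟩
      mul_mem' := by
        rintro a b ⟨g, hg, hgφ, hga⟩ ⟨h, hh, hhφ, hhb⟩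
        obtain ⟨hm, he⟩ := expo_mul S hg hh
        refine ⟨g * h, hm, ?_, by rw [he, hga, hhb, Units.val_mul]⟩
        have := congrArg Prod.snd (act_mul S hg hh (0, φ))
        simp only [act] at this
        rw [this, hgφ, hhφ]
      inv_mem' := by
        rintro a ⟨g, hg, hgφ, hga⟩
        have hgi := DefectOne.nrm_inv S hg
        obtain ⟨hm, he⟩ := expo_mul S hg hgi
        have h1 : expo S (g * g⁻¹) = 1 := by
          rw [mul_inv_cancel]
          exact (expo_eq S (by rw [xp_one]; group)).2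
        refine ⟨g⁻¹, hgi, ?_, ?_⟩
        · have := congrArg Prod.snd (act_mul S hg hgi (0, φ))
          simp only [act, hgφ] at this
          rw [← this, mul_inv_cancel]
          exact (conjIrr_centralizer S (one_mem _) φ).1
        · rw [Units.val_inv_eq_inv_val]
          refine eq_inv_of_mul_eq_one_right ?_
          rw [← hga, ← he, h1] }
  obtain ⟨⟨a₀, g₀, hg₀, hg₀φ, hg₀a⟩, hgenT⟩ := IsCyclic.exists_generator (α := T)
  obtain ⟨U₀, U₀i, hU₀, hU₀', hU₀ρ⟩ := exists_intertwiner ι hι htr (p := p) S.coprime (conjV S hg₀)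
    fun v => by rw [← conjIrr_apply S hg₀, hg₀φ]
  let red : Matrix (Fin d) (Fin d) O →+* Matrix (Fin d) (Fin d) (Kp p O) := (redK p).mapMatrix
  haveI : Nonempty (Fin d) := ⟨⟨0, hd⟩⟩
  obtain ⟨v₀, hv₀⟩ : ∃ v₀ : S.V, redK p (Matrix.trace (U₀ * ρW v₀)) ≠ 0 := by
    by_contra hcon
    push Not at hcon
    have hall : ∀ X, redK p (Matrix.trace (U₀ * X)) = 0 := by
      intro X
      rw [← horth X, Matrix.mul_sum, Matrix.trace_sum, map_sum]
      exact sum_eq_zero fun v _ => by
        rw [Matrix.mul_smul, Matrix.trace_smul, smul_eq_mul, map_mul, hcon, mul_zero]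
    have hzero : red U₀ = 0 := by
      ext i j
      have := hall (Matrix.single j i 1)
      rwa [Matrix.trace_mul_single, op_smul_eq_mul, mul_one] at this
    have h1 := congrArg red hU₀
    rw [map_mul, map_one, hzero, Matrix.zero_mul] at h1
    have := congrFun (congrFun h1 ⟨0, hd⟩) ⟨0, hd⟩
    simp at this
  set u : G := g₀ * (v₀ : G) with hudef
  set U : Matrix (Fin d) (Fin d) O := U₀ * ρW v₀ with hUdef
  set Ui : Matrix (Fin d) (Fin d) O := ρW v₀⁻¹ * U₀i with hUidef
  have hUUi : U * Ui = 1 := by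
    rw [hUdef, hUidef, Matrix.mul_assoc, ← Matrix.mul_assoc (ρW v₀), ← map_mul, mul_inv_cancel,
      map_one, Matrix.one_mul, hU₀]
  have hUiU : Ui * U = 1 := by
    rw [hUdef, hUidef, Matrix.mul_assoc, ← Matrix.mul_assoc U₀i, hU₀', Matrix.one_mul, ← map_mul,
      inv_mul_cancel, map_one]
  have hv₀c : (v₀ : G) ∈ centralizer ({S.x} : Set G) :=
    mem_centralizer_singleton_iff.mpr (S.commute _ v₀.2).symm.eq
  obtain ⟨hv₀φ, hv₀n, hv₀e⟩ := conjIrr_centralizer S hv₀c φ
  obtain ⟨hun, hue⟩ := expo_mul S hg₀ hv₀n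
  rw [hv₀e, mul_one] at hue
  have hUρ : ∀ w : S.V, U * ρW w = ρW (conjV S hun w) * U := by
    intro w
    rw [hUdef, Matrix.mul_assoc, ← map_mul,
      show v₀ * w = v₀ * w * v₀⁻¹ * v₀ by group, map_mul, ← Matrix.mul_assoc, hU₀ρ, Matrix.mul_assoc]
    congr 2
    refine Subtype.ext ?_
    show g₀ * ((v₀ : G) * (w : G) * (v₀ : G)⁻¹) * g₀⁻¹ = u * (w : G) * u⁻¹
    rw [hudef]; group
  have hconj : ∀ X, ρL u * Φ X = Φ (U * X * Ui) * ρL u := by
    intro X
    rw [hΦap, hΦap, mul_sum, sum_mul]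
    refine Fintype.sum_equiv (conjV S hun).toEquiv _ _ fun v => ?_
    simp only [MulEquiv.toEquiv_eq_coe, MulEquiv.coe_toEquiv, mul_smul_comm, smul_mul_assoc,
      ← map_mul]
    congr 1
    · congr 1
      rw [← map_inv, Matrix.mul_assoc _ Ui, Matrix.trace_mul_comm (U * X), Matrix.mul_assoc Ui,
        ← Matrix.mul_assoc _ U, ← hUρ, Matrix.mul_assoc U, ← Matrix.mul_assoc Ui, hUiU,
        Matrix.one_mul, Matrix.trace_mul_comm]
    · congr 1
      show u * (v : G) = u * (v : G) * u⁻¹ * u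
      group
  have huN : u ^ N ∈ zpowers S.x := by
    refine mem_zpowers_of_pow S ?_ (by rw [← pow_mul, hmul, pow_card_eq_one'])
    have : ∀ i : ℕ, Nrm S (u ^ i) := by
      intro i
      induction i with
      | zero => rw [pow_zero]; exact (expo_eq S (by rw [xp_one]; group)).1
      | succ i ih => rw [pow_succ]; exact (expo_mul S ih hun).1
    exact this N
  have hpowρ : ∀ (i : ℕ) (w w' : S.V), (w' : G) = u ^ i * (w : G) * (u ^ i)⁻¹ →
      U ^ i * ρW w = ρW w' * U ^ i := by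
    intro i
    induction i with
    | zero =>
      intro w w' h
      rw [pow_zero, one_mul, inv_one, mul_one] at h
      rw [Subtype.ext h, pow_zero, Matrix.one_mul, Matrix.mul_one]
    | succ i ih =>
      intro w w' h
      have h1 : (w' : G) = u ^ i * (conjV S hun w : G) * (u ^ i)⁻¹ := by
        rw [h, show ((conjV S hun w : S.V) : G) = u * w * u⁻¹ from rfl, pow_succ]
        group
      rw [pow_succ, Matrix.mul_assoc, hUρ, ← Matrix.mul_assoc, ih _ _ h1, Matrix.mul_assoc]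
  obtain ⟨c, hc⟩ : ∃ c : Kp p O, (c • U.map (redK p)) ^ N = 1 := by
    have hcommρ : ∀ w : S.V, Commute (U ^ N) (ρW w) := fun w => hpowρ N w w (by
      obtain ⟨i, hi⟩ := mem_zpowers_iff.mp huN
      rw [← hi, ((S.commute _ w.2).zpow_left i).eq, mul_inv_cancel_right])
    have hcommX : ∀ X, Commute (U ^ N) X := fun X => by
      rw [← horth X]
      exact Commute.sum_right _ _ _ fun v _ => (hcommρ v).smul_right _
    obtain ⟨l, hl⟩ := Matrix.mem_range_scalar_of_commute_single (M := red (U ^ N)) fun i j _ => by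
      have h := (hcommX (Matrix.single i j 1)).map red
      rw [show red (Matrix.single i j (1 : O)) = Matrix.single i j (1 : Kp p O) by simp [red]] at h
      exact h.symm
    rw [Matrix.scalar_apply, ← Matrix.smul_one_eq_diagonal] at hl
    refine exists_scale hω (fun h => hN (h ▸ dvd_zero p)) (U.map (redK p)) (l := l) ?_ ?_ ?_
    · intro h0
      rw [h0, zero_smul] at hl
      have hu : IsUnit (red (U ^ N)) :=
        ((IsUnit.of_mul_eq_one Ui hUUi).pow N).map red
      rw [← hl] at hu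
      exact not_isUnit_zero hu
    · show (red U) ^ N = _
      rw [← map_pow, ← hl]
    · rw [show Matrix.trace (U.map (redK p)) = redK p (Matrix.trace U) by simp [Matrix.trace]]
      exact hv₀
  have hcover : ∀ g : G, g * S.x * g⁻¹ ∈ zpowers S.x →
      (∃ i : ℕ, Commute ((u ^ i)⁻¹ * g) S.x) ∨ Φ 1 * ρL g * Φ 1 = 0 := by
    intro g hg
    change Nrm S g at hg
    by_cases hgφ : conjIrr S g φ = φ
    · left
      have hmemT : (Units.mk0 (expo S g) (expo_ne_zero S hg)) ∈ T := ⟨g, hg, hgφ, rfl⟩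
      obtain ⟨i, hi⟩ := (mem_powers_iff_mem_zpowers (G := T)).mpr (hgenT ⟨_, hmemT⟩)
      refine ⟨i, ?_⟩
      have hui : ∀ j : ℕ, Nrm S (u ^ j) ∧ expo S (u ^ j) = (a₀ : ZMod p) ^ j := by
        intro j
        induction j with
        | zero =>
          rw [pow_zero, pow_zero]
          exact expo_eq S (by rw [xp_one]; group)
        | succ j ih =>
          obtain ⟨h1, h2⟩ := expo_mul S ih.1 hun
          rw [pow_succ, pow_succ, ← ih.2]
          exact ⟨h1, by rw [h2, hue, hg₀a]⟩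
      have he : expo S (u ^ i) = expo S g := by
        rw [(hui i).2]
        have := congrArg (fun a : T => ((a : (ZMod p)ˣ) : ZMod p)) hi
        simpa using this
      have h3 : u ^ i * S.x * (u ^ i)⁻¹ = g * S.x * g⁻¹ := by
        rw [expo_spec S (hui i).1, expo_spec S hg, he]
      show (u ^ i)⁻¹ * g * S.x = S.x * ((u ^ i)⁻¹ * g)
      calc (u ^ i)⁻¹ * g * S.x = (u ^ i)⁻¹ * (g * S.x * g⁻¹) * g := by group
        _ = (u ^ i)⁻¹ * (u ^ i * S.x * (u ^ i)⁻¹) * g := by rw [h3]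
        _ = _ := by group
    · right
      set α := conjV S hg
      have h1 : ρL g * Φ 1 =
          (∑ v : S.V, (cW * Matrix.trace (1 * ρW v⁻¹)) • ρL (α v : G)) * ρL g := by
        rw [hΦap, mul_sum, sum_mul]
        refine sum_congr rfl fun v _ => ?_
        rw [mul_smul_comm, smul_mul_assoc, ← map_mul, ← map_mul]
        congr 2
        show g * (v : G) = g * (v : G) * g⁻¹ * g
        group
      have h2 : Φ 1 * ∑ v : S.V, (cW * Matrix.trace (1 * ρW v⁻¹)) • ρL (α v : G) =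
          Φ (∑ t : S.V, (cW * Matrix.trace (1 * ρW (α.symm t)⁻¹)) • ρW t) := by
        rw [mul_sum, map_sum]
        refine Fintype.sum_equiv α.toEquiv _ _ fun v => ?_
        simp only [MulEquiv.toEquiv_eq_coe, MulEquiv.coe_toEquiv, MulEquiv.symm_apply_apply,
          mul_smul_comm, map_smul, (hleft (α v)).2]
      have h3 : ∑ t : S.V, (cW * Matrix.trace (1 * ρW (α.symm t)⁻¹)) • ρW t = 0 := by
        refine sum_smul_eq_zero ι hι htr _ (fun v w => ?_) ?_
        · congr 1
          apply hι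
          rw [Matrix.one_mul, Matrix.one_mul, htr, htr, map_mul, map_mul, map_inv, mul_inv_rev,
            mul_inv_rev, inv_inv, ← mul_assoc]
          exact Chars.irr_isClassFunction φ _ _
        · have h4 := Chars.classInner_irr_of_ne (χ := conjIrr S g φ) (ψ := φ) hgφ
          rw [classInner] at h4
          simp only [Matrix.one_mul, map_mul, htr, Chars.irr_inv]
          calc ∑ t : S.V, ι cW * conj ((φ : S.V → ℂ) (α.symm t)) * (φ : S.V → ℂ) t
              = ι cW * ∑ v : S.V, (conjIrr S g φ : S.V → ℂ) v * conj ((φ : S.V → ℂ) v) := by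
                rw [mul_sum]
                refine Fintype.sum_equiv α.symm.toEquiv _ _ fun t => ?_
                simp only [MulEquiv.toEquiv_eq_coe, MulEquiv.coe_toEquiv, conjIrr_apply S hg, α,
                  MulEquiv.apply_symm_apply]
                ring
            _ = 0 := by
              rw [(mul_eq_zero.mp h4).resolve_left
                (inv_ne_zero (Nat.cast_ne_zero.mpr Nat.card_pos.ne')), mul_zero]
      rw [mul_assoc, h1, ← mul_assoc, h2, h3, map_zero, zero_mul]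
  let D : Setup O S N :=
    { r := r, ρL := ρL, Z := Z, hZ := hZ, hZsum := hZsum, d := d, Φ := Φ, Φmul := hΦmul
      Φleft := fun v hv => ⟨ρW ⟨v, hv⟩, hleft ⟨v, hv⟩⟩, Φcomm := hcomm, u := u, u_norm := hun
      u_pow := huN, U := U, Ui := Ui, hU := hUUi, hU' := hUiU, u_conj := hconj, c := c, U_pow := hc
      cover := hcover }
  refine ⟨d, fun v => cW * Matrix.trace (ρW v⁻¹), D, ω, rfl, hd, hω, fun v => ?_, rfl,
    fun g => rfl, rfl, ?_⟩
  · rw [map_mul, htr, Chars.irr_inv]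
    have hiv' : ι iv = (Nat.card S.V : ℂ)⁻¹ := by
      refine eq_inv_of_mul_eq_one_right ?_
      rw [← map_natCast ι, ← map_mul, hiv, map_one]
    simp only [cW, map_mul, map_natCast, hiv']
  · show Φ 1 = _
    rw [hΦap]
    simp only [Matrix.one_mul]

omit [CommRing O] [IsDomain O] [IsPrincipalIdealRing O] [CharZero O] in
theorem eq_of_fix_roots {H : Type*} [Group H] [Finite H] {N : ℕ} (hexp : ∀ g : H, orderOf g ∣ N)
    {σ τ : ℂ →+* ℂ} (h : ∀ z : ℂ, z ^ N = 1 → σ z = τ z) (χ : IrrCharacter H) (g : H) :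
    σ ((χ : H → ℂ) g) = τ ((χ : H → ℂ) g) := by
  obtain ⟨n, ρ, -, hρ⟩ := χ.2
  obtain ⟨κ, _, m, -, hm, hsum, -⟩ := Chars.exists_roots_sum ρ g
  rw [← hρ, hsum, map_sum, map_sum]
  refine sum_congr rfl fun i _ => h _ ?_
  obtain ⟨c, hc⟩ := hexp g
  rw [hc, pow_mul, hm, one_pow]

omit [CommRing O] [IsDomain O] [IsPrincipalIdealRing O] [CharZero O] in
theorem shift_comp {N : ℕ} (hN : ¬ p ∣ N) {H : Type*} [Group H] [Finite H]
    (hexp : ∀ g : H, orderOf g ∣ N * p) {σ τ ρ : ℂ ≃+* ℂ} {a c : ZMod p} (hσ : IsShift p N σ a)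
    (hτ : IsShift p N τ c) (hρ : IsShift p N ρ (a * c)) (χ : IrrCharacter H) (g : H) :
    σ (τ ((χ : H → ℂ) g)) = ρ ((χ : H → ℂ) g) := by
  refine eq_of_fix_roots hexp (σ := (σ : ℂ →+* ℂ).comp (τ : ℂ →+* ℂ)) (τ := (ρ : ℂ →+* ℂ))
    (fun z hz => ?_) χ g
  obtain ⟨w, i, hw, rfl⟩ := root_decomp hN hz
  show σ (τ (w * ZMod.stdAddChar i)) = ρ (w * ZMod.stdAddChar i)
  rw [map_mul, map_mul, map_mul, hτ.2 w hw, hτ.1, hσ.2 w hw, hσ.1, hρ.2 w hw, hρ.1, mul_assoc]

omit [CommRing O] [IsDomain O] [IsPrincipalIdealRing O] [CharZero O] in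
theorem shift_fix_V (hsq : ¬ p ^ 2 ∣ Nat.card G) {σ : ℂ ≃+* ℂ} {μ : ZMod p}
    (hσ : IsShift p (Nat.card G / p) σ μ) (φ : IrrCharacter S.V) (v : S.V) :
    σ ((φ : S.V → ℂ) v) = (φ : S.V → ℂ) v :=
  eq_of_fix_roots (σ := (σ : ℂ →+* ℂ)) (τ := RingHom.id ℂ)
    (fun v => (orderOf_dvd_natCard v).trans (card_eq_mul S hsq).2.2) (fun z hz => hσ.2 z hz) φ v

omit [CommRing O] [IsDomain O] [IsPrincipalIdealRing O] [CharZero O] in
theorem tprof_galIrr (hsq : ¬ p ^ 2 ∣ Nat.card G) {σ : ℂ ≃+* ℂ} {μ : ZMod p}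
    (hσ : IsShift p (Nat.card G / p) σ μ) (φ : IrrCharacter S.V) (χ : IrrCharacter G)
    (j : ZMod p) :
    tprof S φ (GaloisChar.galIrr (σ : ℂ →+* ℂ) χ) j = σ (tprof S φ χ j) := by
  simp only [tprof, map_mul, map_inv₀, map_natCast, map_sum, GaloisChar.galIrr_apply]
  congr 1
  refine sum_congr rfl fun v _ => ?_
  rw [← Chars.irr_inv, shift_fix_V S hsq hσ φ v⁻¹]
  rfl

omit [CommRing O] [IsDomain O] [IsPrincipalIdealRing O] [CharZero O] in
theorem classInner_sum_gal (χ : IrrCharacter G) (S' : Finset (ZMod p))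
    (sig : ZMod p → ℂ ≃+* ℂ) :
    classInner (fun g => ∑ μ ∈ S', sig μ ((χ : G → ℂ) g))
      (fun g => ∑ μ ∈ S', sig μ ((χ : G → ℂ) g)) =
      (((S' ×ˢ S').filter fun ab => GaloisChar.galIrr (sig ab.1 : ℂ →+* ℂ) χ =
        GaloisChar.galIrr (sig ab.2 : ℂ →+* ℂ) χ).card : ℕ) := by
  classical
  have hfun : (fun g => ∑ μ ∈ S', sig μ ((χ : G → ℂ) g)) =
      fun g => ∑ μ ∈ S', (GaloisChar.galIrr (sig μ : ℂ →+* ℂ) χ : G → ℂ) g := rfl
  rw [hfun, show (fun g => ∑ μ ∈ S', (GaloisChar.galIrr (sig μ : ℂ →+* ℂ) χ : G → ℂ) g) =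
      ∑ μ ∈ S', (GaloisChar.galIrr (sig μ : ℂ →+* ℂ) χ : G → ℂ) from
      funext fun g => (Finset.sum_apply _ _ _).symm, Chars.classInner_sum_left]
  simp only [Chars.classInner_sum_right, card_filter, Nat.cast_sum, sum_product]
  refine sum_congr rfl fun a _ => sum_congr rfl fun b _ => ?_
  by_cases h : GaloisChar.galIrr (sig a : ℂ →+* ℂ) χ = GaloisChar.galIrr (sig b : ℂ →+* ℂ) χ
  · rw [if_pos h, ← h, Chars.classInner_irr_self, Nat.cast_one]
  · rw [if_neg h, Chars.classInner_irr_of_ne h, Nat.cast_zero]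

omit [CommRing O] [IsDomain O] [IsPrincipalIdealRing O] [CharZero O] in
include S in
theorem card_pairs_le (hsq : ¬ p ^ 2 ∣ Nat.card G) (χ : IrrCharacter G) (S' : Finset (ZMod p))
    (hS0 : ∀ μ ∈ S', μ ≠ 0) (sig : ZMod p → ℂ ≃+* ℂ)
    (hsig : ∀ μ, μ ≠ 0 → IsShift p (Nat.card G / p) (sig μ) μ) (T : Finset (ZMod p))
    (hT : ∀ μ, μ ≠ 0 → ∀ σ : ℂ ≃+* ℂ, IsShift p (Nat.card G / p) σ μ →
      GaloisChar.galIrr (σ : ℂ →+* ℂ) χ = χ → μ ∈ T) :
    ((S' ×ˢ S').filter fun ab => GaloisChar.galIrr (sig ab.1 : ℂ →+* ℂ) χ =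
        GaloisChar.galIrr (sig ab.2 : ℂ →+* ℂ) χ).card ≤ S'.card * T.card := by
  classical
  obtain ⟨hmul, hN, -⟩ := card_eq_mul S hsq
  set N := Nat.card G / p
  rw [← card_product]
  refine card_le_card_of_injOn (fun ab => (ab.1, ab.1⁻¹ * ab.2)) (fun ab hab => ?_) ?_
  · obtain ⟨hm, heq⟩ := mem_filter.mp hab
    obtain ⟨ha, hb⟩ := mem_product.mp hm
    have ha0 := hS0 _ ha
    have hb0 := hS0 _ hb
    refine mem_coe.mpr (mem_product.mpr ⟨ha, ?_⟩)
    have hc0 : ab.1⁻¹ * ab.2 ≠ 0 := mul_ne_zero (inv_ne_zero ha0) hb0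
    refine hT _ hc0 _ (hsig _ hc0) (Subtype.ext (funext fun g => ?_))
    rw [GaloisChar.galIrr_apply]
    apply (sig ab.1).injective
    have hexp : ∀ g : G, orderOf g ∣ N * p := fun g => hmul.symm ▸ orderOf_dvd_natCard g
    have h1 := shift_comp (H := G) hN hexp (hsig _ ha0) (hsig _ hc0)
      (ρ := sig ab.2) (by rw [mul_inv_cancel_left₀ ha0]; exact hsig _ hb0) χ g
    refine h1.trans ?_
    exact (congrFun (congrArg Subtype.val heq) g).symm
  · intro ab hab ab' hab' h
    have ha0 := hS0 _ (mem_product.mp (mem_filter.mp hab).1).1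
    simp only [Prod.mk.injEq] at h
    refine Prod.ext h.1 ?_
    rw [← h.1] at h
    exact mul_left_cancel₀ (inv_ne_zero ha0) h.2

omit [CommRing O] [IsDomain O] [IsPrincipalIdealRing O] [CharZero O] in
set_option maxHeartbeats 4000000 in
/-- The sum of a twisted profile over the nontrivial points is bounded by the number of
automorphisms fixing the character. -/
theorem abs_sum_tprof_le (hsq : ¬ p ^ 2 ∣ Nat.card G) (φ : IrrCharacter S.V) (χ : IrrCharacter G)
    (E : ℤ) (hE : ∑ j ∈ univ.erase (0 : ZMod p), tprof S φ χ j = (E : ℂ)) (T : Finset (ZMod p))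
    (hT : ∀ μ, μ ≠ 0 → ∀ σ : ℂ ≃+* ℂ, IsShift p (Nat.card G / p) σ μ →
      GaloisChar.galIrr (σ : ℂ →+* ℂ) χ = χ → μ ∈ T) :
    |E| ≤ (T.card : ℤ) := by
  classical
  obtain ⟨hmul, hN, -⟩ := card_eq_mul S hsq
  set N := Nat.card G / p with hNdef
  obtain ⟨O, _, _, _, _, ι, hι, hroots⟩ := exists_base (p := p) hN
  haveI : CharZero O := ⟨fun a b h => Nat.cast_injective (R := ℂ) (by
    rw [← map_natCast ι, h, map_natCast])⟩
  let sig : ZMod p → ℂ ≃+* ℂ := fun μ =>
    if h : μ ≠ 0 then (exists_isShift hN h).choose else RingEquiv.refl ℂ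
  have hsig : ∀ μ, μ ≠ 0 → IsShift p N (sig μ) μ := fun μ h => by
    simp only [sig, dif_pos h]
    exact (exists_isShift hN h).choose_spec
  obtain ⟨r, ρL, Z, S', hZ, hZsum, hS', hS0, htrace⟩ := exists_lattice ι hι hN hroots
    (fun g : G => hmul.symm ▸ orderOf_dvd_natCard g) χ sig hsig
  obtain ⟨n, a, hn, hgen⟩ := exists_gens ρL Z hZ hZsum
  -- the rank of the commuting algebra
  have hrank : n * (p - 1) ≤ S'.card * T.card := by
    rw [hn]
    refine (finrank_commAlg_le ι hι ρL _ ?_).trans (card_pairs_le S hsq χ S' hS0 sig hsig T hT)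
    rw [← classInner_sum_gal χ S' sig]
    congr 1 <;> exact funext fun g => (char_cplx ι ρL g).trans (htrace g)
  obtain ⟨d, w, D, ω, hd, hd0, hω, hw, hr, hρ, hZ', hEdef⟩ :=
    exists_setup S ι hι hsq hroots φ ρL Z hZ hZsum
  subst hr
  obtain rfl : D.ρL = ρL := MonoidHom.ext hρ
  obtain rfl : D.Z = Z := hZ'
  have hn' : D.d * n * (p - 1) ≤ D.d * (S'.card * T.card) := by
    rw [mul_assoc]; exact Nat.mul_le_mul_left _ hrank
  -- the traces on the twisted part
  let F : ZMod p → O := fun j =>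
    LinearMap.trace O D.M (D.cmp (D.ρL (xp p S.x j)))
  have hF : ∀ j, ι (F j) = (D.d : ℂ) * ∑ μ ∈ S', sig μ (tprof S φ χ j) := by
    intro j
    simp only [F, D.trace_cmp]
    rw [show D.E = ∑ v : S.V, w v • D.ρL (v : G) from hEdef, mul_sum, map_sum, map_sum]
    have hterm : ∀ v : S.V, ι (LinearMap.trace O (Fin D.r → O) (D.ρL (xp p S.x j) * w v • D.ρL (v : G)))
        = (D.d : ℂ) * (Nat.card S.V : ℂ)⁻¹ * conj ((φ : S.V → ℂ) v) *
          ∑ μ ∈ S', sig μ ((χ : G → ℂ) (pt S (j, v))) := by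
      intro v
      rw [mul_smul_comm, ← map_mul, map_smul, smul_eq_mul, map_mul, htrace, hw, hd]
      rfl
    simp only [hterm]
    rw [sum_congr rfl fun v _ => by rw [mul_sum], sum_comm, mul_sum]
    refine sum_congr rfl fun μ hμ => ?_
    rw [tprof, map_mul, map_inv₀, map_natCast, map_sum, ← mul_assoc, mul_sum]
    refine sum_congr rfl fun v _ => ?_
    rw [map_mul, ← Chars.irr_inv, shift_fix_V S hsq (hsig μ (hS0 μ hμ)) φ v⁻¹, ← mul_assoc]
  have hEsum : ∑ j ∈ univ.erase (0 : ZMod p), ι (F j) = (D.d : ℂ) * S'.card * E := by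
    simp only [hF, ← mul_sum]
    rw [sum_comm, mul_assoc]
    congr 1
    simp only [← map_sum, hE, map_intCast, sum_const, nsmul_eq_mul]
  obtain ⟨aT, bT, haT, hbT, hab⟩ := herbrand (O := O) D.zM_pow
  have hint : ((((D.d : ℤ) * S'.card * E : ℤ)) : O) =
      LinearMap.trace O D.M (normEnd p D.zM) - Module.finrank O D.M := by
    apply hι
    rw [map_sub, map_natCast, map_intCast, normEnd, map_sum, map_sum]
    have h0 : ι (F 0) = (Module.finrank O D.M : ℂ) := by
      simp only [F, SmallGroups.PrimeChar.xp_zero, map_one, D.cmp_one, LinearMap.trace_one,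
        map_natCast]
    have hterm : ∀ i ∈ range p, ι (LinearMap.trace O D.M (D.zM ^ i)) = ι (F (i : ZMod p)) := by
      intro i hi
      simp only [F, D.zM_pow_eq, xp, ZMod.val_natCast, Nat.mod_eq_of_lt (mem_range.mp hi)]
    rw [sum_congr rfl hterm, ← h0,
      show ∑ i ∈ range p, ι (F (i : ZMod p)) = ∑ j : ZMod p, ι (F j) from
        sum_nbij' (fun i => (i : ZMod p)) (fun j => j.val) (fun i _ => mem_univ _)
          (fun j _ => mem_range.mpr j.val_lt)
          (fun i hi => by rw [ZMod.val_natCast, Nat.mod_eq_of_lt (mem_range.mp hi)])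
          (fun j _ => ZMod.natCast_zmod_val j) fun i _ => rfl,
      ← add_sum_erase _ _ (mem_univ (0 : ZMod p)), add_sub_cancel_left, hEsum]
    push_cast
    rfl
  have heq := hab _ hint
  -- the two bounds
  have hA : aT ≤ D.d * n := by
    have h := D.card_le D.isPair_fix hω hN a hgen
    exact (Nat.pow_le_pow_iff_right Finite.one_lt_card).mp (haT ▸ h)
  have hB : bT ≤ D.d * n := by
    have h := D.card_le D.isPair_kerNorm hω hN a hgen
    exact (Nat.pow_le_pow_iff_right Finite.one_lt_card).mp (hbT ▸ h)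
  have hp1 : (0 : ℤ) ≤ (p : ℤ) - 1 := by have := hp.out.two_le; omega
  have h1 : |(D.d : ℤ) * S'.card * E| ≤ ((p : ℤ) - 1) * ((D.d * n : ℕ) : ℤ) := by
    rw [← heq, abs_mul, abs_of_nonneg hp1]
    refine mul_le_mul_of_nonneg_left ?_ hp1
    rw [abs_le]
    omega
  have h2 : ((p : ℤ) - 1) * ((D.d * n : ℕ) : ℤ) ≤ (D.d : ℤ) * S'.card * T.card := by
    have h3 : ((p - 1 : ℕ) : ℤ) = (p : ℤ) - 1 := by
      rw [Nat.cast_sub hp.out.one_le, Nat.cast_one]
    rw [← h3, ← Nat.cast_mul, mul_comm (p - 1)]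
    refine le_trans (Int.ofNat_le.mpr hn') ?_
    push_cast
    rw [mul_assoc]
  have hpos : 0 < (D.d : ℤ) * S'.card := by
    refine mul_pos ?_ (Int.natCast_pos.mpr hS'.card_pos)
    rw [hd]; exact Int.natCast_pos.mpr hd0
  have h4 := h1.trans h2
  rw [abs_mul, abs_of_pos hpos] at h4
  exact le_of_mul_le_mul_left h4 hpos

end Cfsg.Agent.Lib.DefectTwist
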