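/-
Sylow subgroups of prime order: for every irreducible character `φ` of `V` the characters with a
nonzero row are `e` signed ones and `(p - 1) / e` exceptional ones.
-/
import Mathlib
import Cfsg.Agent.Lib.DefectTwist.Bound
import Cfsg.Agent.Lib.DefectOne.Mults
import Cfsg.Agent.Lib.DefectOne.Rows
import Cfsg.Agent.Lib.DefectOne.Congr

set_option autoImplicit false
set_option linter.unusedSectionVars false
set_option linter.style.haveILetI false

namespace Cfsg.Agent.Lib.DefectTwist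

open scoped ComplexConjugate
open Finset Subgroup Cfsg Cfsg.Agent.Lib
open Cfsg.Agent.Lib.DefectOne (Local Idx Nrm expo expo_spec expo_eq expo_mul conjV conjIrr
  conjIrr_apply conjIrr_centralizer act act_mul chr pt mlt mN mN_cast mlt_act nset mem_nset cN
  cN_ne_zero card_act_fiber gram_formula nrm_of_ne_zero nrm_inv expo_ne_zero pt_injective
  mem_V_of_regular pt_mem_centralizer column_sum star_of_shift)
open Cfsg.Agent.Lib.SmallGroups.PrimeChar (xp xp_zero xp_one conj_stdAddChar)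

variable {G : Type*} [Group G] [Fintype G] {p : ℕ} [hp : Fact p.Prime] (S : Local p G)

noncomputable local instance instFintypeV_DefectTwist_Structure : Fintype S.V := Fintype.ofFinite _

/-- The exponents of the elements fixing `φ`. -/
noncomputable def stabExp (φ : IrrCharacter S.V) : Finset (ZMod p) := by
  classical exact univ.filter fun u => ∃ g, Nrm S g ∧ expo S g = u ∧ conjIrr S g φ = φ

theorem mem_stabExp {φ : IrrCharacter S.V} {u : ZMod p} :
    u ∈ stabExp S φ ↔ ∃ g, Nrm S g ∧ expo S g = u ∧ conjIrr S g φ = φ := by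
  simp [stabExp]

theorem ne_zero_of_mem_stabExp {φ : IrrCharacter S.V} {u : ZMod p} (h : u ∈ stabExp S φ) :
    u ≠ 0 := by
  obtain ⟨g, hg, rfl, -⟩ := (mem_stabExp S).mp h
  exact expo_ne_zero S hg

theorem one_mem_stabExp (φ : IrrCharacter S.V) : (1 : ZMod p) ∈ stabExp S φ := by
  obtain ⟨h1, h2, h3⟩ := conjIrr_centralizer S (one_mem (centralizer ({S.x} : Set G))) φ
  exact (mem_stabExp S).mpr ⟨1, h2, h3, h1⟩

theorem mul_mem_stabExp {φ : IrrCharacter S.V} {u v : ZMod p} (hu : u ∈ stabExp S φ)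
    (hv : v ∈ stabExp S φ) : u * v ∈ stabExp S φ := by
  obtain ⟨g, hg, rfl, hgφ⟩ := (mem_stabExp S).mp hu
  obtain ⟨h, hh, rfl, hhφ⟩ := (mem_stabExp S).mp hv
  obtain ⟨hm, he⟩ := expo_mul S hg hh
  refine (mem_stabExp S).mpr ⟨g * h, hm, he, ?_⟩
  have := congrArg Prod.snd (act_mul S hg hh (0, φ))
  simp only [act] at this
  rw [this, hgφ, hhφ]

theorem inv_mem_stabExp {φ : IrrCharacter S.V} {u : ZMod p} (hu : u ∈ stabExp S φ) :
    u⁻¹ ∈ stabExp S φ := by
  obtain ⟨g, hg, rfl, hgφ⟩ := (mem_stabExp S).mp hu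
  have hgi := nrm_inv S hg
  obtain ⟨hm, he⟩ := expo_mul S hg hgi
  have h1 : expo S (g * g⁻¹) = 1 := by
    rw [mul_inv_cancel]
    exact (expo_eq S (by rw [xp_one]; group)).2
  refine (mem_stabExp S).mpr ⟨g⁻¹, hgi, eq_inv_of_mul_eq_one_right (he.symm.trans h1), ?_⟩
  have := congrArg Prod.snd (act_mul S hg hgi (0, φ))
  simp only [act, hgφ] at this
  rw [← this, mul_inv_cancel]
  exact (conjIrr_centralizer S (one_mem _) φ).1

/-- The stabiliser as a group of units. -/
noncomputable def stabUnits (φ : IrrCharacter S.V) : Subgroup (ZMod p)ˣ where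
  carrier := {u | (u : ZMod p) ∈ stabExp S φ}
  one_mem' := one_mem_stabExp S φ
  mul_mem' hu hv := by simpa using mul_mem_stabExp S hu hv
  inv_mem' {u} hu := by
    show ((u⁻¹ : (ZMod p)ˣ) : ZMod p) ∈ stabExp S φ
    rw [Units.val_inv_eq_inv_val]
    exact inv_mem_stabExp S hu

theorem card_stabUnits (φ : IrrCharacter S.V) :
    Nat.card (stabUnits S φ) = (stabExp S φ).card := by
  rw [← Nat.card_eq_finsetCard]
  exact Nat.card_congr
    { toFun := fun u => ⟨((u : (ZMod p)ˣ) : ZMod p), u.2⟩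
      invFun := fun u => ⟨Units.mk0 u.1 (ne_zero_of_mem_stabExp S u.2), u.2⟩
      left_inv := fun u => Subtype.ext (Units.ext rfl)
      right_inv := fun u => rfl }

theorem card_stabExp_dvd (φ : IrrCharacter S.V) : (stabExp S φ).card ∣ p - 1 := by
  rw [← card_stabUnits S φ, ← ZMod.card_units p, ← Nat.card_eq_fintype_card]
  exact Subgroup.card_subgroup_dvd_card _

/-- The row of `χ` at `φ`. -/
noncomputable def kk (φ : IrrCharacter S.V) (χ : IrrCharacter G) (k : ZMod p) : ℤ :=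
  (mN S (χ : G → ℂ) (0, φ) : ℤ) - mN S (χ : G → ℂ) (k, φ)

/-- The multiplicity of `φ` in `χ` restricted to `V`. -/
noncomputable def rsum (φ : IrrCharacter S.V) (χ : IrrCharacter G) : ℕ :=
  ∑ k, mN S (χ : G → ℂ) (k, φ)

@[simp] theorem kk_zero (φ : IrrCharacter S.V) (χ : IrrCharacter G) : kk S φ χ 0 = 0 := sub_self _

theorem mN_act {g : G} (hg : Nrm S g) (χ : IrrCharacter G) (i : Idx S) :
    mN S (χ : G → ℂ) (act S g i) = mN S (χ : G → ℂ) i := by
  have h := mlt_act S (Chars.irr_isClassFunction χ) hg i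
  rw [← mN_cast S (Chars.irr_isCharacter χ), ← mN_cast S (Chars.irr_isCharacter χ)] at h
  exact_mod_cast h

theorem kk_conjIrr {g : G} (hg : Nrm S g) (φ : IrrCharacter S.V) (χ : IrrCharacter G)
    (k : ZMod p) : kk S (conjIrr S g φ) χ (k * expo S g) = kk S φ χ k := by
  have h1 := mN_act S hg χ (k, φ)
  have h2 := mN_act S hg χ (0, φ)
  simp only [act, zero_mul] at h1 h2
  simp only [kk, h1, h2]

theorem kk_mul_stab {φ : IrrCharacter S.V} {u : ZMod p} (hu : u ∈ stabExp S φ)
    (χ : IrrCharacter G) (k : ZMod p) : kk S φ χ (k * u) = kk S φ χ k := by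
  obtain ⟨g, hg, rfl, hgφ⟩ := (mem_stabExp S).mp hu
  conv_lhs => rw [← hgφ]
  exact kk_conjIrr S hg φ χ k

theorem sum_erase_stdAddChar (k : ZMod p) :
    ∑ j ∈ univ.erase (0 : ZMod p), (ZMod.stdAddChar (k * j) : ℂ) =
      (if k = 0 then (p : ℂ) else 0) - 1 := by
  rw [sum_erase_eq_sub (mem_univ _), mul_zero, AddChar.map_zero_eq_one,
    sum_congr rfl fun j _ => by rw [mul_comm],
    AddChar.sum_mulShift k (ZMod.isPrimitive_stdAddChar p), ZMod.card]
  split_ifs <;> simp

theorem sum_tprof (φ : IrrCharacter S.V) (χ : IrrCharacter G) :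
    ∑ j ∈ univ.erase (0 : ZMod p), tprof S φ χ j =
      ((∑ k ∈ univ.erase (0 : ZMod p), kk S φ χ k : ℤ) : ℂ) := by
  classical
  simp only [tprof_eq_sum]
  rw [sum_comm]
  simp only [← mul_sum, sum_erase_stdAddChar, mul_sub, mul_one, mul_ite, mul_zero,
    sum_sub_distrib, sum_ite_eq', mem_univ, if_true]
  rw [sum_erase _ (kk_zero S φ χ)]
  simp only [kk, sum_sub_distrib, sum_const, card_univ, ZMod.card, nsmul_eq_mul, Int.cast_sum,
    Int.cast_natCast, Int.cast_sub, Int.cast_mul]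
  ring

theorem tprof_eq_kk (φ : IrrCharacter S.V) (χ : IrrCharacter G) {j : ZMod p} (hj : j ≠ 0) :
    tprof S φ χ j = -∑ k, (kk S φ χ k : ℂ) * ZMod.stdAddChar (k * j) := by
  classical
  rw [tprof_eq_sum]
  simp only [kk, Int.cast_sub, Int.cast_natCast, sub_mul, sum_sub_distrib, ← mul_sum,
    AddChar.sum_mulShift j (ZMod.isPrimitive_stdAddChar p), if_neg hj]
  simp

theorem rsum_modEq (φ : IrrCharacter S.V) (χ : IrrCharacter G) :
    (rsum S φ χ : ℤ) ≡ -∑ k ∈ univ.erase (0 : ZMod p), kk S φ χ k [ZMOD p] := by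
  rw [sum_erase _ (kk_zero S φ χ)]
  simp only [kk, sum_sub_distrib, sum_const, card_univ, ZMod.card, nsmul_eq_mul, rsum,
    Nat.cast_sum, neg_sub]
  exact (Int.modEq_iff_dvd).mpr ⟨-(mN S (χ : G → ℂ) (0, φ) : ℤ), by ring⟩

theorem pt_singular {a : ZMod p × S.V} (ha : a.1 ≠ 0) : p ∣ orderOf (pt S a) := by
  by_contra h
  have hm := mem_V_of_regular S (pt_mem_centralizer S a) h
  have h1 : pt S a = pt S (0, ⟨_, hm⟩) := by simp [pt, xp_zero]
  exact ha (congrArg Prod.fst (pt_injective S h1))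

/-- The two terms defining a row. -/
theorem kk_eq_sum (φ : IrrCharacter S.V) (χ : IrrCharacter G) (k : ZMod p) :
    kk S φ χ k = ∑ i : Idx S, ((if i = (0, φ) then 1 else 0) - if i = (k, φ) then 1 else 0) *
      (mN S (χ : G → ℂ) i : ℤ) := by
  simp [kk, sub_mul, sum_sub_distrib]

/-- Orthogonality to the columns of the regular elements. -/
theorem sum_apply_mul_kk (φ : IrrCharacter S.V) (k : ZMod p) (g : G) (hg : ¬ p ∣ orderOf g) :
    ∑ χ : IrrCharacter G, (χ : G → ℂ) g * (kk S φ χ k : ℂ) = 0 := by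
  classical
  have h : ∀ χ : IrrCharacter G, (kk S φ χ k : ℂ) = (cN S : ℂ)⁻¹ *
      ∑ a, conj ((χ : G → ℂ) (pt S a)) * (chr S (0, φ) a - chr S (k, φ) a) := by
    intro χ
    rw [← map_intCast (starRingEnd ℂ), kk, Int.cast_sub, Int.cast_natCast, Int.cast_natCast,
      mN_cast S (Chars.irr_isCharacter χ), mN_cast S (Chars.irr_isCharacter χ)]
    simp only [mlt, map_sub, map_mul, map_inv₀, Complex.conj_natCast, map_sum, Complex.conj_conj,
      mul_sub, sum_sub_distrib]
  simp only [h, mul_sum]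
  rw [sum_comm]
  refine sum_eq_zero fun a _ => ?_
  by_cases ha : a.1 = 0
  · refine sum_eq_zero fun χ _ => ?_
    simp [chr, ha]
  · rw [sum_congr rfl (g := fun χ : IrrCharacter G => (cN S : ℂ)⁻¹ *
      (chr S (0, φ) a - chr S (k, φ) a) * ((χ : G → ℂ) g * conj ((χ : G → ℂ) (pt S a))))
      (fun χ _ => by ring), ← mul_sum, column_sum, filter_false_of_mem, card_empty, Nat.cast_zero,
      mul_zero]
    intro y _ hy
    have h1 := pt_singular S ha
    rw [← hy, show y * g * y⁻¹ = MulAut.conj y g from rfl, MulEquiv.orderOf_eq] at h1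
    exact hg h1

open scoped Classical in
/-- The Gram matrix of the rows. -/
theorem kk_gram (φ : IrrCharacter S.V) {q q' : ZMod p} (hq : q ≠ 0) (hq' : q' ≠ 0) :
    ∑ χ : IrrCharacter G, kk S φ χ q * kk S φ χ q' =
      (((stabExp S φ).filter fun u => q' * u = q).card : ℤ) + (stabExp S φ).card := by
  let c : Idx S → ℤ := fun i => (if i = (0, φ) then 1 else 0) - if i = (q, φ) then 1 else 0
  let d : Idx S → ℤ := fun i => (if i = (0, φ) then 1 else 0) - if i = (q', φ) then 1 else 0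
  have h := gram_formula S c d fun a ha g b hb => by
    refine nrm_of_ne_zero S (j := a.1) (i := b.1) (v := a.2) (w := b.2) (fun h0 => ha ?_) hb
    simp only [c, Int.cast_sub, Int.cast_ite, Int.cast_one, Int.cast_zero, sub_mul, ite_mul,
      one_mul, zero_mul, sum_sub_distrib, sum_ite_eq', mem_univ, if_true, chr, h0, mul_zero,
      sub_self]
  simp only [c, d, ← kk_eq_sum] at h
  have hin : ∀ g ∈ nset S, ∑ i, c (act S g i) * d i =
      if conjIrr S g φ = φ then (1 + if q' * expo S g = q then 1 else 0 : ℤ) else 0 := by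
    intro g hg
    have hne := expo_ne_zero S ((mem_nset S).mp hg)
    simp only [d, mul_sub, sum_sub_distrib, mul_ite, mul_one, mul_zero, sum_ite_eq', mem_univ,
      if_true, c, act, zero_mul, Prod.mk.injEq, Ne.symm hq, mul_ne_zero hq' hne, false_and,
      if_false, true_and]
    by_cases hc : conjIrr S g φ = φ
    · simp [hc]
    · simp [hc]
  rw [sum_congr rfl hin, ← sum_filter] at h
  have hfib : ∀ g ∈ (nset S).filter fun g => conjIrr S g φ = φ, expo S g ∈ stabExp S φ :=
    fun g hg => (mem_stabExp S).mpr ⟨g, (mem_nset S).mp (mem_filter.mp hg).1, rfl,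
      (mem_filter.mp hg).2⟩
  rw [← sum_fiberwise_of_maps_to hfib (fun g => (1 + if q' * expo S g = q then 1 else 0 : ℤ)),
    sum_congr rfl (g := fun u => (cN S : ℤ) * (1 + if q' * u = q then 1 else 0)) fun u hu => by
      obtain ⟨g, hg, he, hc⟩ := (mem_stabExp S).mp hu
      rw [sum_congr rfl (g := fun _ => (1 + if q' * u = q then 1 else 0 : ℤ))
        (fun g hg => by rw [(mem_filter.mp hg).2]), sum_const, nsmul_eq_mul, filter_filter,
        show (((nset S).filter fun a => conjIrr S a φ = φ ∧ expo S a = u).card) =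
          cN S from by
            rw [← card_act_fiber S φ u φ ⟨g, hg, he, hc⟩]
            congr 1; exact filter_congr fun _ _ => and_comm],
    ← mul_sum, mul_comm _ (cN S : ℤ)] at h
  rw [mul_left_cancel₀ (Int.natCast_ne_zero.mpr fun h0 => cN_ne_zero S (by rw [h0, Nat.cast_zero])) h,
    sum_add_distrib, sum_const, nsmul_eq_mul, mul_one, sum_boole]
  ring

theorem mN_shift (hsq : ¬ p ^ 2 ∣ Nat.card G) {σ : ℂ ≃+* ℂ} {μ : ZMod p}
    (hσ : IsShift p (Nat.card G / p) σ μ) (χ : IrrCharacter G) (k : ZMod p)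
    (φ : IrrCharacter S.V) :
    mN S (GaloisChar.galIrr (σ : ℂ →+* ℂ) χ : G → ℂ) (μ * k, φ) = mN S (χ : G → ℂ) (k, φ) := by
  have h : mlt S (GaloisChar.galIrr (σ : ℂ →+* ℂ) χ : G → ℂ) (μ * k, φ) =
      σ (mlt S (χ : G → ℂ) (k, φ)) := by
    simp only [mlt, map_mul, map_inv₀, map_natCast, map_sum, GaloisChar.galIrr_apply]
    congr 1
    refine sum_congr rfl fun a _ => ?_
    simp only [chr, map_mul, conj_stdAddChar, ← Chars.irr_inv, hσ.1, shift_fix_V S hsq hσ φ,
      RingEquiv.coe_toRingHom, mul_neg, mul_assoc]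
  rw [← mN_cast S (Chars.irr_isCharacter _), ← mN_cast S (Chars.irr_isCharacter χ),
    map_natCast] at h
  exact_mod_cast h

theorem kk_shift (hsq : ¬ p ^ 2 ∣ Nat.card G) {σ : ℂ ≃+* ℂ} {μ : ZMod p}
    (hσ : IsShift p (Nat.card G / p) σ μ) (χ : IrrCharacter G) (k : ZMod p)
    (φ : IrrCharacter S.V) :
    kk S φ (GaloisChar.galIrr (σ : ℂ →+* ℂ) χ) (μ * k) = kk S φ χ k := by
  have h0 := mN_shift S hsq hσ χ 0 φ
  rw [mul_zero] at h0
  simp only [kk, h0, mN_shift S hsq hσ χ k φ]

theorem card_coset (φ : IrrCharacter S.V) {a : ZMod p} (ha : a ≠ 0) :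
    ((univ.erase (0 : ZMod p)).filter fun k => k * a⁻¹ ∈ stabExp S φ).card =
      (stabExp S φ).card := by
  refine card_nbij' (fun k => k * a⁻¹) (fun u => u * a) (fun k hk => ?_) (fun u hu => ?_)
    (fun k _ => ?_) fun u _ => ?_
  · exact (mem_filter.mp hk).2
  · simp only [coe_filter, Set.mem_ofPred_eq, mem_erase, mem_univ, and_true]
    exact ⟨mul_ne_zero (ne_zero_of_mem_stabExp S hu) ha, by
      rw [mul_inv_cancel_right₀ ha]; exact hu⟩
  · exact inv_mul_cancel_right₀ ha k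
  · exact mul_inv_cancel_right₀ ha u

open scoped Classical in
set_option maxHeartbeats 1000000 in
/-- The rows at `φ`: `e` signed ones and `(p - 1) / e` exceptional ones. -/
theorem exists_rows (hsq : ¬ p ^ 2 ∣ Nat.card G) (φ : IrrCharacter S.V) :
    ∃ (A B : Finset (IrrCharacter G)) (δ : IrrCharacter G → ℤ) (ε : ℤ)
      (a : IrrCharacter G → ZMod p),
      Disjoint A B ∧ A.card = (stabExp S φ).card ∧ B.card = (p - 1) / (stabExp S φ).card ∧
      (ε = 1 ∨ ε = -1) ∧
      (∀ χ ∈ A, (δ χ = 1 ∨ δ χ = -1) ∧ ∀ k : ZMod p, k ≠ 0 → kk S φ χ k = δ χ) ∧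
      (∀ θ ∈ B, a θ ≠ 0 ∧ ∀ k : ZMod p, k ≠ 0 →
        kk S φ θ k = if k * (a θ)⁻¹ ∈ stabExp S φ then ε else 0) ∧
      (∀ χ, χ ∉ A → χ ∉ B → ∀ k, kk S φ χ k = 0) ∧
      (∀ θ ∈ B, ∀ g : G, ¬ p ∣ orderOf g →
        (∑ χ ∈ A, (δ χ : ℂ) * (χ : G → ℂ) g) + (ε : ℂ) * (θ : G → ℂ) g = 0) ∧
      (∀ θ ∈ B, ∀ θ' ∈ B, θ = θ' ∨ ∃ (μ : ZMod p) (σ : ℂ ≃+* ℂ),
        IsShift p (Nat.card G / p) σ μ ∧ GaloisChar.galIrr (σ : ℂ →+* ℂ) θ = θ') ∧
      (2 ≤ B.card → ∀ θ ∈ B, ∀ (μ : ZMod p) (σ : ℂ ≃+* ℂ), μ ≠ 0 →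
        IsShift p (Nat.card G / p) σ μ → GaloisChar.galIrr (σ : ℂ →+* ℂ) θ ∈ B) := by
  obtain ⟨-, hN, -⟩ := card_eq_mul S hsq
  set H := stabExp S φ with hH
  set e := H.card with he
  set Hu := stabUnits S φ
  set t := (p - 1) / e
  have he1 : 1 ≤ e := card_pos.mpr ⟨1, one_mem_stabExp S φ⟩
  have het : e * t = p - 1 := Nat.mul_div_cancel' (card_stabExp_dvd S φ)
  let Q := (ZMod p)ˣ ⧸ Hu
  obtain ⟨iQ⟩ : Nonempty (Fintype Q) := ⟨Fintype.ofFinite _⟩
  letI : CommGroup Q := QuotientGroup.Quotient.commGroup Hu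
  have hQ : Fintype.card Q = t := by
    have h1 := Subgroup.card_eq_card_quotient_mul_card_subgroup Hu
    rw [card_stabUnits, ← hH, ← he, Nat.card_eq_fintype_card, ZMod.card_units p, ← het, mul_comm,
      Nat.card_eq_fintype_card] at h1
    exact (Nat.eq_of_mul_eq_mul_right he1 h1).symm
  let k : IrrCharacter G → Q → ℤ := fun χ q => kk S φ χ ((q.out : (ZMod p)ˣ) : ZMod p)
  have hmemimg : ∀ (q : Q) (u : (ZMod p)ˣ),
      (u : ZMod p) * ((q.out : (ZMod p)ˣ) : ZMod p)⁻¹ ∈ H ↔ (u : Q) = q := by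
    intro q u
    conv_rhs => rw [← QuotientGroup.out_eq' q, eq_comm, QuotientGroup.eq]
    show _ ↔ (((q.out)⁻¹ * u : (ZMod p)ˣ) : ZMod p) ∈ H
    rw [Units.val_mul, Units.val_inv_eq_inv_val, mul_comm]
  have hk : ∀ χ (u : (ZMod p)ˣ), k χ (u : Q) = kk S φ χ (u : ZMod p) := by
    intro χ u
    have h1 := (hmemimg (u : Q) u).mpr rfl
    show kk S φ χ _ = _
    rw [← kk_mul_stab S h1 χ, mul_comm, inv_mul_cancel_right₀ (Units.ne_zero _)]
  have hgram : ∀ q q' : Q, ∑ χ, k χ q * k χ q' = (if q = q' then 1 else 0) + (e : ℤ) := by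
    intro q q'
    simp only [k]
    rw [kk_gram S φ (Units.ne_zero _) (Units.ne_zero _)]
    congr 1
    split_ifs with hqq
    · subst hqq
      rw [show (H.filter fun u => ((q.out : (ZMod p)ˣ) : ZMod p) * u = (q.out : (ZMod p)ˣ)) = {1}
        from ?_, card_singleton, Nat.cast_one]
      ext u
      simp only [mem_filter, mem_singleton, mul_eq_left₀ (Units.ne_zero _)]
      exact ⟨fun h => h.2, fun h => ⟨h ▸ one_mem_stabExp S φ, h⟩⟩
    · rw [filter_false_of_mem, card_empty, Nat.cast_zero]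
      intro u hu he'
      apply hqq
      have h1 := (hmemimg q' q.out).mp (by
        rw [← he', mul_comm _ u, mul_inv_cancel_right₀ (Units.ne_zero _)]
        exact hu)
      rwa [QuotientGroup.out_eq'] at h1
  have hconstk : ∀ χ : IrrCharacter G, (∀ q q', k χ q = k χ q') →
      ∀ l : ZMod p, l ≠ 0 → kk S φ χ l = k χ 1 := by
    intro χ hχ l hl
    rw [← Units.val_mk0 hl, ← hk]
    exact hχ _ _
  have hconstbound : ∀ χ : IrrCharacter G, (∀ q q', k χ q = k χ q') → |k χ 1| ≤ 1 := by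
    intro χ hχ
    have hs := sum_tprof S φ χ
    rw [sum_congr rfl fun l hl => hconstk χ hχ l (ne_of_mem_erase hl), sum_const,
      card_erase_of_mem (mem_univ _), card_univ, ZMod.card, nsmul_eq_mul] at hs
    have h := abs_sum_tprof_le S hsq φ χ _ hs (univ.erase 0)
      fun μ hμ _ _ _ => mem_erase.mpr ⟨hμ, mem_univ _⟩
    rw [card_erase_of_mem (mem_univ _), card_univ, ZMod.card, abs_mul, Nat.abs_cast] at h
    have hpos : (0 : ℤ) < ((p - 1 : ℕ) : ℤ) := by have := hp.out.two_le; omega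
    exact le_of_mul_le_mul_left (h.trans_eq (mul_one _).symm) hpos
  have hrel : ∀ (q : Q) (g : G), ¬ p ∣ orderOf g →
      ∑ χ : IrrCharacter G, (χ : G → ℂ) g * (k χ q : ℂ) = 0 := fun q g hg =>
    sum_apply_mul_kk S φ _ g hg
  have ht0 : 1 ≤ t := Nat.one_le_iff_ne_zero.mpr fun h => by
    rw [h, mul_zero] at het; have := hp.out.two_le; omega
  rcases Nat.lt_or_ge t 2 with ht | ht
  · -- every row is constant
    have ht1 : t = 1 := by omega
    haveI : Subsingleton Q := Fintype.card_le_one_iff_subsingleton.mp (by omega)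
    have hcst : ∀ χ (q q' : Q), k χ q = k χ q' := fun χ q q' => by rw [Subsingleton.elim q q']
    set R := univ.filter fun χ : IrrCharacter G => k χ 1 ≠ 0
    have hsg : ∀ χ ∈ R, k χ 1 = 1 ∨ k χ 1 = -1 := by
      intro χ hχ
      have h1 := abs_le.mp (hconstbound χ (hcst χ))
      have h2 := (mem_filter.mp hχ).2
      omega
    have hRcard : R.card = e + 1 := by
      have h1 := hgram 1 1
      rw [if_pos rfl, ← sum_filter_add_sum_filter_not univ (fun χ => k χ 1 ≠ 0),
        sum_eq_zero (s := univ.filter fun χ => ¬ k χ 1 ≠ 0) fun χ hχ => by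
          rw [not_not.mp (mem_filter.mp hχ).2, mul_zero], add_zero,
        sum_congr rfl (g := fun _ => (1 : ℤ)) fun χ hχ => by
          rcases hsg χ hχ with h | h <;> simp [h], sum_const, nsmul_one] at h1
      change (R.card : ℤ) = _ at h1
      omega
    obtain ⟨θ, hθ⟩ : R.Nonempty := card_pos.mp (by omega)
    refine ⟨R.erase θ, {θ}, fun χ => k χ 1, k θ 1, fun _ => 1, ?_, ?_, ?_, hsg θ hθ, ?_, ?_, ?_,
      ?_, ?_, ?_⟩
    · rw [disjoint_singleton_right]; exact notMem_erase θ R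
    · rw [card_erase_of_mem hθ, hRcard]; omega
    · rw [card_singleton, ht1]
    · exact fun χ hχ => ⟨hsg χ (mem_of_mem_erase hχ), hconstk χ (hcst χ)⟩
    · intro θ' hθ'
      rw [mem_singleton] at hθ'
      subst hθ'
      refine ⟨one_ne_zero, fun l hl => ?_⟩
      have hmem : l * 1⁻¹ ∈ H := by
        have h1 := (hmemimg (1 : Q) (Units.mk0 l hl)).mpr (Subsingleton.elim _ _)
        have h2 := (hmemimg (1 : Q) 1).mpr rfl
        have h3 := mul_mem_stabExp S h1 (inv_mem_stabExp S h2)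
        rw [Units.val_mk0, Units.val_one, one_mul, inv_inv,
          inv_mul_cancel_right₀ (Units.ne_zero _)] at h3
        rwa [inv_one, mul_one]
      rw [if_pos hmem, hconstk θ' (hcst θ') l hl]
    · intro χ hA hB l
      by_cases hl : l = 0
      · rw [hl, kk_zero]
      rw [mem_singleton] at hB
      rw [hconstk χ (hcst χ) l hl]
      by_contra h
      exact hA (mem_erase.mpr ⟨hB, mem_filter.mpr ⟨mem_univ _, h⟩⟩)
    · intro θ' hθ' g hg
      rw [mem_singleton] at hθ'
      subst hθ'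
      have h1 := hrel 1 g hg
      rw [← sum_filter_add_sum_filter_not univ (fun χ => k χ 1 ≠ 0),
        sum_eq_zero (s := univ.filter fun χ => ¬ k χ 1 ≠ 0) fun χ hχ => by
          rw [not_not.mp (mem_filter.mp hχ).2, Int.cast_zero, mul_zero], add_zero,
        ← add_sum_erase R _ hθ] at h1
      rw [sum_congr rfl fun χ _ => mul_comm ((k χ 1 : ℤ) : ℂ) _]
      linear_combination h1
    · intro θ' hθ' θ'' hθ''
      rw [mem_singleton] at hθ' hθ''
      exact Or.inl (hθ'.trans hθ''.symm)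
    · intro h2
      rw [card_singleton] at h2
      omega
  · -- the star
    have hσ : ∀ μ : (ZMod p)ˣ, ∃ σ : ℂ ≃+* ℂ, IsShift p (Nat.card G / p) σ (μ : ZMod p) :=
      fun μ => exists_isShift hN (Units.ne_zero μ)
    have hksh : ∀ (μ : (ZMod p)ˣ) (σ : ℂ ≃+* ℂ), IsShift p (Nat.card G / p) σ (μ : ZMod p) →
        ∀ χ (i : Q), k (GaloisChar.galIrr (σ : ℂ →+* ℂ) χ) ((μ : Q) * i) = k χ i := by
      intro μ σ hs χ i
      obtain ⟨u, rfl⟩ := QuotientGroup.mk_surjective i
      rw [← QuotientGroup.mk_mul, hk, hk, Units.val_mul, kk_shift S hsq hs]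
    have hshift : ∀ (q : Q) χ, ∃ χ', ∀ i, k χ' i = k χ (i * q) := by
      intro q χ
      obtain ⟨μ, rfl⟩ := QuotientGroup.mk_surjective q
      obtain ⟨σ, hs⟩ := hσ μ⁻¹
      refine ⟨GaloisChar.galIrr (σ : ℂ →+* ℂ) χ, fun i => ?_⟩
      have h1 := hksh μ⁻¹ σ hs χ (i * (μ : Q))
      rw [QuotientGroup.mk_inv, mul_comm i, inv_mul_cancel_left] at h1
      rw [h1, mul_comm]
    have hpair : ∀ i j : Q, i ≠ j → ∑ χ, (k χ i - k χ j) ^ 2 = 2 := by
      intro i j hij
      have h1 : ∀ χ, (k χ i - k χ j) ^ 2 =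
          k χ i * k χ i - 2 * (k χ i * k χ j) + k χ j * k χ j := fun χ => by ring
      rw [sum_congr rfl fun χ _ => h1 χ, sum_add_distrib, sum_sub_distrib, ← mul_sum, hgram, hgram,
        hgram, if_pos rfl, if_pos rfl, if_neg hij]
      ring
    obtain ⟨b₀, c₀, ε₀, hb₀, hε₀, hstar, hout⟩ :=
      star_of_shift k (le_of_le_of_eq ht hQ.symm) hshift hpair
    let av : Q → ZMod p := fun q => ((q.out : (ZMod p)ˣ) : ZMod p)
    have hshape : ∀ (c ε : ℤ) (b : Q → IrrCharacter G),
        (∀ a i, k (b a) i = c + if i = a then ε else 0) →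
        ∀ i (l : ZMod p), l ≠ 0 → kk S φ (b i) l = c + if l * (av i)⁻¹ ∈ H then ε else 0 := by
      intro c ε b hb i l hl
      rw [← Units.val_mk0 hl, ← hk, hb]
      congr 1
      exact if_congr (hmemimg i (Units.mk0 l hl)).symm rfl rfl
    have hstar1 : ∀ (μ : ZMod p), μ ≠ 0 → ∀ σ : ℂ ≃+* ℂ, IsShift p (Nat.card G / p) σ μ →
        GaloisChar.galIrr (σ : ℂ →+* ℂ) (b₀ 1) = b₀ 1 → μ ∈ H := by
      intro μ hμ σ hs hfix
      have h1 := hksh (Units.mk0 μ hμ) σ hs (b₀ 1) 1
      rw [hfix, mul_one, hstar, hstar, if_pos rfl] at h1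
      have h2 : ((Units.mk0 μ hμ : (ZMod p)ˣ) : Q) = 1 := by
        by_contra hne
        rw [if_neg hne] at h1
        omega
      have h3 : Units.mk0 μ hμ ∈ Hu := (QuotientGroup.eq_one_iff _).mp h2
      exact h3
    have hK : |(t : ℤ) * c₀ + ε₀| ≤ 1 := by
      have hs := sum_tprof S φ (b₀ 1)
      rw [sum_congr rfl fun l hl => hshape c₀ ε₀ b₀ hstar 1 l (ne_of_mem_erase hl), sum_add_distrib,
        sum_const, card_erase_of_mem (mem_univ _), card_univ, ZMod.card, ← sum_filter, sum_const,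
        card_coset S φ (Units.ne_zero _), nsmul_eq_mul, nsmul_eq_mul, ← hH, ← he, ← het,
        Nat.cast_mul, mul_assoc, ← mul_add] at hs
      have h := abs_sum_tprof_le S hsq φ (b₀ 1) _ hs H hstar1
      rw [abs_mul, Nat.abs_cast, ← he] at h
      exact le_of_mul_le_mul_left (h.trans_eq (mul_one _).symm) (by exact_mod_cast he1)
    -- normalize
    obtain ⟨b, ε₁, hb, hε₁, hkb, hkout⟩ : ∃ (b : Q → IrrCharacter G) (ε₁ : ℤ),
        Function.Injective b ∧ (ε₁ = 1 ∨ ε₁ = -1) ∧
        (∀ a i, k (b a) i = if i = a then ε₁ else 0) ∧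
        ∀ χ, (∀ a, b a ≠ χ) → ∀ i j, k χ i = k χ j := by
      rcases eq_or_ne c₀ 0 with h0 | h0
      · exact ⟨b₀, ε₀, hb₀, hε₀, fun a i => by rw [hstar, h0, zero_add], hout⟩
      · have ht' : t = 2 ∧ c₀ = -ε₀ := by
          have := abs_le.mp hK
          rcases hε₀ with rfl | rfl
          · have hc : c₀ ≤ -1 := by
              rcases lt_or_gt_of_ne h0 with h | h
              · omega
              · nlinarith
            have ht : (t : ℤ) ≤ 2 := by nlinarith
            have htt : (t : ℤ) = 2 := by omega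
            rw [htt] at this
            exact ⟨by omega, by omega⟩
          · have hc : 1 ≤ c₀ := by
              rcases lt_or_gt_of_ne h0 with h | h
              · nlinarith
              · omega
            have ht : (t : ℤ) ≤ 2 := by nlinarith
            have htt : (t : ℤ) = 2 := by omega
            rw [htt] at this
            exact ⟨by omega, by omega⟩
        obtain ⟨g, hg⟩ : ∃ g : Q, g ≠ 1 := Fintype.exists_ne_of_one_lt_card (by omega) 1
        have htwo : ∀ i a : Q, i ≠ a → i = a * g := by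
          intro i a hia
          by_contra hne
          have h3 : ({i, a, a * g} : Finset Q).card = 3 := by
            rw [card_eq_three]
            exact ⟨i, a, a * g, hia, hne, fun h => hg (mul_eq_left.mp h.symm), rfl⟩
          have := card_le_univ ({i, a, a * g} : Finset Q)
          omega
        refine ⟨fun a => b₀ (a * g), -ε₀, fun a a' h => mul_right_cancel (hb₀ h), by omega,
          fun a i => ?_, fun χ hχ => hout χ fun a => by simpa using hχ (a * g⁻¹)⟩
        show k (b₀ (a * g)) i = _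
        rw [hstar, ht'.2]
        by_cases hia : i = a
        · subst hia
          rw [if_pos rfl, if_neg (fun h => hg (mul_eq_left.mp h.symm)), add_zero]
        · rw [if_neg hia, if_pos (htwo i a hia)]
          ring
    set B := univ.image b
    have hBmem : ∀ χ, χ ∉ B → ∀ q q', k χ q = k χ q' := fun χ hχ =>
      hkout χ fun a ha => hχ (mem_image.mpr ⟨a, mem_univ _, ha⟩)
    set A := univ.filter fun χ : IrrCharacter G => χ ∉ B ∧ k χ 1 ≠ 0
    have hδ : ∀ χ ∈ A, k χ 1 = 1 ∨ k χ 1 = -1 := by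
      intro χ hχ
      obtain ⟨hχB, hne⟩ := (mem_filter.mp hχ).2
      have := abs_le.mp (hconstbound χ (hBmem χ hχB))
      omega
    have hsplit : ∀ (F : IrrCharacter G → ℂ) (q : Q), ∑ χ, F χ * (k χ q : ℂ) =
        F (b q) * (ε₁ : ℂ) + ∑ χ ∈ A, F χ * (k χ 1 : ℂ) := by
      intro F q
      rw [← sum_filter_add_sum_filter_not univ (fun χ => χ ∈ B)]
      congr 1
      · rw [filter_mem_eq_inter, univ_inter, sum_image fun a _ a' _ h => hb h,
          sum_eq_single q (fun a _ ha => by rw [hkb, if_neg (Ne.symm ha), Int.cast_zero, mul_zero])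
            (by simp), hkb, if_pos rfl]
      · rw [sum_congr rfl fun χ hχ => by rw [hBmem χ (mem_filter.mp hχ).2 q 1]]
        refine (sum_subset (fun χ hχ => mem_filter.mpr ⟨mem_univ _, (mem_filter.mp hχ).2.1⟩)
          fun χ hχ hA => ?_).symm
        have : k χ 1 = 0 := by
          by_contra h
          exact hA (mem_filter.mpr ⟨mem_univ _, (mem_filter.mp hχ).2, h⟩)
        rw [this, Int.cast_zero, mul_zero]
    have hAcard : A.card = e := by
      have h1 := hgram 1 1
      rw [if_pos rfl] at h1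
      have h2 := hsplit (fun χ => (k χ 1 : ℂ)) 1
      have h3 : ∑ χ ∈ A, (k χ 1 : ℂ) * (k χ 1 : ℂ) = A.card := by
        rw [sum_congr rfl (g := fun _ => (1 : ℂ)) fun χ hχ => by
          rcases hδ χ hχ with h | h <;> simp [h], sum_const, nsmul_one]
      rw [h3, hkb, if_pos rfl] at h2
      have h4 : ((A.card : ℤ) : ℂ) + 1 = ((1 + e : ℤ) : ℂ) := by
        rw [← h1, Int.cast_sum]
        push_cast
        rw [h2]
        rcases hε₁ with h | h <;> simp [h] <;> ring
      have : (A.card : ℤ) + 1 = 1 + e := by exact_mod_cast h4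
      omega
    let bi : IrrCharacter G → Q := fun θ => if h : θ ∈ B then (mem_image.mp h).choose else 1
    have hbi : ∀ θ ∈ B, b (bi θ) = θ := by
      intro θ hθ
      simp only [bi, dif_pos hθ]
      exact (mem_image.mp hθ).choose_spec.2
    have hmove : ∀ (μ : (ZMod p)ˣ) (σ : ℂ ≃+* ℂ), IsShift p (Nat.card G / p) σ (μ : ZMod p) →
        ∀ q : Q, GaloisChar.galIrr (σ : ℂ →+* ℂ) (b q) = b ((μ : Q) * q) := by
      intro μ σ hs q
      by_cases hc : GaloisChar.galIrr (σ : ℂ →+* ℂ) (b q) ∈ B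
      · obtain ⟨q', -, hq'⟩ := mem_image.mp hc
        have h1 := hksh μ σ hs (b q) q
        rw [← hq', hkb, hkb, if_pos rfl] at h1
        rw [← hq']
        congr 1
        by_contra hne
        rw [if_neg (Ne.symm hne)] at h1
        omega
      · exfalso
        obtain ⟨j, hj⟩ : ∃ j : Q, j ≠ q := Fintype.exists_ne_of_one_lt_card (by omega) q
        have h1 := hBmem _ hc ((μ : Q) * q) ((μ : Q) * j)
        rw [hksh μ σ hs, hksh μ σ hs, hkb, hkb, if_pos rfl, if_neg hj] at h1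
        omega
    refine ⟨A, B, fun χ => k χ 1, ε₁, fun θ => av (bi θ), ?_, hAcard,
      (card_image_of_injective _ hb).trans (card_univ.trans hQ), hε₁, ?_, ?_, ?_, ?_, ?_, ?_⟩
    · rw [disjoint_left]
      exact fun χ hA hB => (mem_filter.mp hA).2.1 hB
    · exact fun χ hχ => ⟨hδ χ hχ, hconstk χ (hBmem χ (mem_filter.mp hχ).2.1)⟩
    · intro θ hθ
      refine ⟨Units.ne_zero _, fun l hl => ?_⟩
      have h1 := hshape 0 ε₁ b (fun a i => by rw [hkb, zero_add]) (bi θ) l hl
      rwa [hbi θ hθ, zero_add] at h1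
    · intro χ hA hB l
      by_cases hl : l = 0
      · rw [hl, kk_zero]
      rw [hconstk χ (hBmem χ hB) l hl]
      by_contra h
      exact hA (mem_filter.mpr ⟨mem_univ _, hB, h⟩)
    · intro θ hθ g hg
      have h1 := hrel (bi θ) g hg
      rw [hsplit (fun χ => (χ : G → ℂ) g) (bi θ), hbi θ hθ] at h1
      rw [sum_congr rfl fun χ _ => mul_comm ((k χ 1 : ℤ) : ℂ) _]
      linear_combination h1
    · intro θ hθ θ' hθ'
      right
      obtain ⟨μ, hμ⟩ := QuotientGroup.mk_surjective (bi θ' * (bi θ)⁻¹)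
      obtain ⟨σ, hs⟩ := hσ μ
      refine ⟨μ, σ, hs, ?_⟩
      rw [← hbi θ hθ, hmove μ σ hs, hμ, inv_mul_cancel_right, hbi θ' hθ']
    · intro _ θ hθ μ σ hμ hs
      rw [← hbi θ hθ, hmove (Units.mk0 μ hμ) σ hs]
      exact mem_image_of_mem b (mem_univ _)

end Cfsg.Agent.Lib.DefectTwist
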