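/-
Blocks of positive defect when a Sylow subgroup has order `p`: the block attached to an orbit of
characters of `V`.
-/
import Mathlib
import Cfsg.Agent.Lib.DefectTwist.Structure
import Cfsg.Agent.Lib.DefectOne.OrbitSep
import Cfsg.Agent.Lib.Blocks.DefectCard
import Cfsg.Agent.Lib.Blocks.HeightZero

set_option autoImplicit false
set_option linter.unusedSectionVars false
set_option linter.style.haveILetI false

namespace Cfsg.Agent.Lib.DefectTwist

open scoped ComplexConjugate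
open Finset Subgroup Cfsg Cfsg.Agent.Lib
open Cfsg.Agent.Lib.Glauberman (red red_coe red_add red_mul red_sum red_natCast red_one red_zero
  sum_eq_sum_fixed natCast_red_eq_zero)
open Cfsg.Agent.Lib.Blocks (isIntegral_mem_localRing Residue localRing residue_eq_iff)
open Cfsg.Agent.Lib.DefectOne (Local Idx Nrm expo conjV conjIrr conjIrr_apply chr pt mN mN_cast
  pt_injective mem_V_of_regular pt_expansion rowSum apply_V_eq irr_conv phiOrbit mem_phiOrbit
  self_mem_phiOrbit phiOrbit_eq rowSum_of_mem conjIrr_mul conjIrr_one nrm_inv fusSet mem_fusSet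
  fusion_V card_conj_red red_pt centralChar_mul pt_mem_centralizer not_sq_dvd_card
  dvd_rowSum_of_not_mem not_dvd_orderOf_V expo_ne_zero)
open Cfsg.Agent.Lib.SmallGroups.PrimeChar (xp xp_zero)

variable {G : Type*} [Group G] [Fintype G] {p : ℕ} [hp : Fact p.Prime] (S : Local p G)

noncomputable local instance instFintypeV_DefectTwist_Block : Fintype S.V := Fintype.ofFinite _

section Values

theorem apply_pt (χ : IrrCharacter G) (j : ZMod p) (v : S.V) :
    (χ : G → ℂ) (pt S (j, v)) = ∑ φ : IrrCharacter S.V, tprof S φ χ j * (φ : S.V → ℂ) v := by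
  rw [pt_expansion S (Chars.irr_isClassFunction χ), Fintype.sum_prod_type, sum_comm]
  refine sum_congr rfl fun φ _ => ?_
  rw [tprof_eq_sum, sum_mul]
  refine sum_congr rfl fun k _ => ?_
  rw [mN_cast S (Chars.irr_isCharacter χ), chr, mul_assoc]

theorem tprof_of_const {φ : IrrCharacter S.V} {χ : IrrCharacter G} {c : ℤ}
    (h : ∀ k : ZMod p, k ≠ 0 → kk S φ χ k = c) {j : ZMod p} (hj : j ≠ 0) :
    tprof S φ χ j = (c : ℂ) := by
  classical
  rw [tprof_eq_kk S φ χ hj, ← sum_erase (a := (0 : ZMod p)) univ (by simp),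
    sum_congr rfl fun k hk => by rw [h k (ne_of_mem_erase hk)], ← mul_sum,
    sum_erase_eq_sub (mem_univ _), AddChar.sum_mulShift j (ZMod.isPrimitive_stdAddChar p),
    if_neg hj, Nat.cast_zero, zero_mul, AddChar.map_zero_eq_one]
  ring

/-- Every `p`-singular element is conjugate into the centralizer of `x`. -/
theorem exists_conj_pt (hsq : ¬ p ^ 2 ∣ Nat.card G) {g : G} (hg : p ∣ orderOf g) :
    ∃ j : ZMod p, j ≠ 0 ∧ ∃ v : S.V, IsConj g (pt S (j, v)) := by
  classical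
  obtain ⟨m, hm⟩ := hg
  have hord : orderOf (g ^ m) = p := by
    rw [orderOf_pow' g (fun h => (orderOf_pos g).ne' (by rw [hm, h, mul_zero])), hm,
      Nat.gcd_eq_right (dvd_mul_left m p),
      Nat.mul_div_cancel _ (Nat.pos_of_ne_zero fun h => (orderOf_pos g).ne' (by rw [hm, h, mul_zero]))]
  have hfact : (Nat.card G).factorization p = 1 := by
    have hne : Nat.card G ≠ 0 := Nat.card_pos.ne'
    have h1 := hp.out.factorization_pos_of_dvd hne (S.order_x ▸ orderOf_dvd_natCard S.x)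
    have h2 : ¬ 2 ≤ (Nat.card G).factorization p := fun h =>
      hsq ((hp.out.pow_dvd_iff_le_factorization hne).mpr h)
    omega
  let P1 : Sylow p G := Sylow.ofCard (zpowers (g ^ m))
    (by rw [Nat.card_zpowers, hord, hfact, pow_one])
  let P2 : Sylow p G := Sylow.ofCard (zpowers S.x)
    (by rw [Nat.card_zpowers, S.order_x, hfact, pow_one])
  obtain ⟨c, hc⟩ := MulAction.exists_smul_eq G P1 P2
  have h2 : c * g ^ m * c⁻¹ ∈ zpowers S.x := by
    have h3 : c * g ^ m * c⁻¹ ∈ (c • P1 : Sylow p G).toSubgroup := by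
      rw [Sylow.coe_subgroup_smul]
      exact Subgroup.smul_mem_pointwise_smul (g ^ m) (MulAut.conj c) _ (mem_zpowers _)
    rw [hc] at h3
    exact h3
  set g' := c * g * c⁻¹ with hg'
  have hgm : g' ^ m = c * g ^ m * c⁻¹ := conj_pow
  have hz : zpowers (c * g ^ m * c⁻¹) = zpowers S.x := by
    refine Subgroup.eq_of_le_of_card_ge (zpowers_le.mpr h2) (le_of_eq ?_)
    rw [Nat.card_zpowers, Nat.card_zpowers, S.order_x,
      show c * g ^ m * c⁻¹ = MulAut.conj c (g ^ m) from rfl, MulEquiv.orderOf_eq, hord]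
  obtain ⟨i, hi⟩ := mem_zpowers_iff.mp (hz.symm ▸ mem_zpowers S.x : S.x ∈ zpowers (c * g ^ m * c⁻¹))
  have hcomm : Commute g' S.x := by
    rw [← hi, ← hgm]
    exact ((Commute.refl g').pow_right m).zpow_right i
  obtain ⟨k, v, hv, hgk⟩ := S.factor g' hcomm
  have hpt : pt S ((k : ZMod p), ⟨v, hv⟩) = g' := by
    rw [hgk]
    show xp p S.x (k : ZMod p) * v = _
    rw [xp, ZMod.val_natCast, S.x_pow_mod]
  refine ⟨(k : ZMod p), fun h0 => ?_, ⟨v, hv⟩, hpt ▸ isConj_iff.mpr ⟨c, rfl⟩⟩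
  rw [h0, pt, xp_zero, one_mul] at hpt
  have h1 : p ∣ orderOf g' := by
    rw [hg', show c * g * c⁻¹ = MulAut.conj c g from rfl, MulEquiv.orderOf_eq]
    exact ⟨m, hm⟩
  exact S.coprime (h1.trans (hpt ▸ Subgroup.orderOf_dvd_natCard _ hv))

include S in
/-- A shift fixes the values on the regular elements. -/
theorem shift_fix_regular (hsq : ¬ p ^ 2 ∣ Nat.card G) {σ : ℂ ≃+* ℂ} {μ : ZMod p}
    (hσ : IsShift p (Nat.card G / p) σ μ) (χ : IrrCharacter G) {g : G} (hg : ¬ p ∣ orderOf g) :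
    σ ((χ : G → ℂ) g) = (χ : G → ℂ) g := by
  obtain ⟨n, ρ, -, hρ⟩ := χ.2
  obtain ⟨κ, _, m, -, hm, hsum, -⟩ := Chars.exists_roots_sum ρ g
  rw [← hρ, hsum, map_sum]
  refine sum_congr rfl fun i _ => hσ.2 _ ?_
  obtain ⟨hmul, -, -⟩ := card_eq_mul S hsq
  obtain ⟨c, hc⟩ : orderOf g ∣ Nat.card G / p := by
    have h1 : orderOf g ∣ Nat.card G / p * p := hmul.symm ▸ orderOf_dvd_natCard g
    exact ((hp.out.coprime_iff_not_dvd.mpr hg).symm).dvd_of_dvd_mul_right h1
  rw [hc, pow_mul, hm, one_pow]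

/-- A character with constant rows is fixed by the shifts. -/
theorem galIrr_eq_self (hsq : ¬ p ^ 2 ∣ Nat.card G) (χ : IrrCharacter G)
    (hconst : ∀ φ : IrrCharacter S.V, ∃ c : ℤ, ∀ k : ZMod p, k ≠ 0 → kk S φ χ k = c)
    {σ : ℂ ≃+* ℂ} {μ : ZMod p} (hσ : IsShift p (Nat.card G / p) σ μ) :
    GaloisChar.galIrr (σ : ℂ →+* ℂ) χ = χ := by
  refine Subtype.ext (funext fun g => ?_)
  show σ ((χ : G → ℂ) g) = (χ : G → ℂ) g
  by_cases hg : p ∣ orderOf g
  · obtain ⟨j, hj, v, hc⟩ := exists_conj_pt S hsq hg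
    rw [← Chars.isClassFunction_apply_eq (Chars.irr_isClassFunction χ) hc, apply_pt, map_sum]
    refine sum_congr rfl fun φ _ => ?_
    obtain ⟨c, hc⟩ := hconst φ
    rw [tprof_of_const S hc hj, map_mul, map_intCast, shift_fix_V S hsq hσ]
  · exact shift_fix_regular S hsq hσ χ hg

/-- A character without rows has degree divisible by `p`. -/
theorem dvd_charDegree_of_rows_zero (χ : IrrCharacter G)
    (h : ∀ (φ : IrrCharacter S.V) (k : ZMod p), kk S φ χ k = 0) :
    p ∣ charDegree (χ : G → ℂ) := by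
  classical
  choose d hd using fun φ : IrrCharacter S.V =>
    Chars.isCharacter_exists_degree (Chars.irr_isCharacter φ)
  refine ⟨∑ φ : IrrCharacter S.V, mN S (χ : G → ℂ) (0, φ) * d φ, ?_⟩
  have h1 := apply_V_eq S χ (1 : S.V)
  rw [OneMemClass.coe_one, (Chars.charDegree_spec χ).2] at h1
  have h2 : ∀ φ, rowSum S (χ : G → ℂ) φ = p * mN S (χ : G → ℂ) (0, φ) := by
    intro φ
    rw [rowSum, sum_congr rfl (g := fun _ => mN S (χ : G → ℂ) (0, φ)) fun k _ => ?_, sum_const,
      card_univ, ZMod.card, smul_eq_mul]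
    have := h φ k
    rw [kk, sub_eq_zero] at this
    exact_mod_cast this.symm
  simp only [h2, hd] at h1
  rw [mul_sum]
  simp only [← mul_assoc]
  exact_mod_cast h1

end Values

section Reduction

variable {M : Ideal AlgInt} [M.IsPrime]

open scoped Classical in
/-- The reduced central character of `1 × φ` induced to the group. -/
noncomputable def indRed (M : Ideal AlgInt) [M.IsPrime] (φ : IrrCharacter S.V) (g : G) :
    Residue M :=
  ∑ a ∈ univ.filter (fun a : ZMod p × S.V => IsConj g (pt S a)),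
    red M ((φ : S.V → ℂ) a.2) * (red M ((φ : S.V → ℂ) 1))⁻¹

theorem red_apply_one_ne_zero (hM : IsPModular p M) (φ : IrrCharacter S.V) :
    red M ((φ : S.V → ℂ) 1) ≠ 0 := by
  obtain ⟨n, hn0, hn, hd⟩ := Chars.irr_degree_dvd_card φ
  rw [hn, red_natCast, Ne, natCast_red_eq_zero hM]
  exact fun h => S.coprime (h.trans hd)

open scoped Classical in
/-- The central character of a character with a row sum prime to `p`. -/
theorem red_centralChar (hM : IsPModular p M) (χ : IrrCharacter G) {φ : IrrCharacter S.V}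
    (hR : ¬ p ∣ rowSum S (χ : G → ℂ) φ) (g : G) :
    red M (centralChar (χ : G → ℂ) g) = indRed S M φ g := by
  haveI : CharP (Residue M) p := ⟨natCast_red_eq_zero hM⟩
  set K := {y : G // IsConj g y}
  let σ : Equiv.Perm K :=
    { toFun := fun κ => ⟨S.x * κ * S.x⁻¹, κ.2.trans (isConj_iff.mpr ⟨S.x, rfl⟩)⟩
      invFun := fun κ => ⟨S.x⁻¹ * κ * S.x, κ.2.trans (isConj_iff.mpr ⟨S.x⁻¹, by simp⟩)⟩
      left_inv := fun κ => Subtype.ext (by group)
      right_inv := fun κ => Subtype.ext (by group) }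
  have hσn : ∀ n : ℕ, ∀ κ : K, ((σ ^ n) κ : G) = S.x ^ n * κ * (S.x ^ n)⁻¹ := by
    intro n
    induction n with
    | zero => simp
    | succ n ih =>
      intro κ
      rw [pow_succ', Equiv.Perm.mul_apply]
      show S.x * ((σ ^ n) κ : G) * S.x⁻¹ = _
      rw [ih, pow_succ']
      group
  have hσp : σ ^ p = 1 := Equiv.ext fun κ => Subtype.ext (by rw [hσn, S.x_pow_p]; simp)
  set A := univ.filter fun a : ZMod p × S.V => IsConj g (pt S a)
  have hFsum : ∀ f : G → Residue M,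
      ∑ κ ∈ univ.filter (fun κ : K => σ κ = κ), f κ = ∑ a ∈ A, f (pt S a) := fun f => by
    symm
    refine sum_bij (fun a ha => (⟨pt S a, (mem_filter.mp ha).2⟩ : K)) (fun a _ => ?_)
      (fun a _ b _ h => pt_injective S (congrArg Subtype.val h)) (fun κ hκ => ?_) (fun _ _ => rfl)
    · refine mem_filter.mpr ⟨mem_univ _, Subtype.ext ?_⟩
      show S.x * pt S a * S.x⁻¹ = pt S a
      rw [(pt_mem_centralizer S a).symm.eq, mul_inv_cancel_right]
    · have h1 : S.x * (κ : G) * S.x⁻¹ = κ := congrArg Subtype.val (mem_filter.mp hκ).2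
      obtain ⟨i, v, hv, hiv⟩ := S.factor (κ : G) (mul_inv_eq_iff_eq_mul.mp h1).symm
      have hpt : pt S ((i : ZMod p), ⟨v, hv⟩) = (κ : G) := by
        rw [hiv]
        show xp p S.x (i : ZMod p) * v = _
        rw [xp, ZMod.val_natCast, S.x_pow_mod]
      exact ⟨_, mem_filter.mpr ⟨mem_univ _, hpt ▸ κ.2⟩, Subtype.ext hpt⟩
  have hL : ∀ y, (χ : G → ℂ) y ∈ localRing M := fun y =>
    isIntegral_mem_localRing (Chars.irr_isIntegral χ y)
  have hφL : ∀ v, (φ : S.V → ℂ) v ∈ localRing M := fun v =>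
    isIntegral_mem_localRing (Chars.irr_isIntegral φ v)
  set ω := red M (centralChar (χ : G → ℂ) g) with hω
  set P := red M ((φ : S.V → ℂ) 1) with hP
  set R : Residue M := (Nat.card S.V : Residue M) * (rowSum S (χ : G → ℂ) φ : Residue M)
  set X : S.V → Residue M := fun w =>
    ∑ k : S.V, red M ((φ : S.V → ℂ) k⁻¹) * red M ((χ : G → ℂ) ((w * k : S.V) : G))
  have hX : ∀ w : S.V, P * X w = R * red M ((φ : S.V → ℂ) w) := by
    intro w
    have h : (φ : S.V → ℂ) 1 * ∑ k : S.V, (φ : S.V → ℂ) k⁻¹ * (χ : G → ℂ) ((w * k : S.V) : G) =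
        ((Nat.card S.V * rowSum S (χ : G → ℂ) φ : ℕ) : ℂ) * (φ : S.V → ℂ) w := by
      simp only [apply_V_eq S χ, mul_sum]
      rw [sum_comm, sum_eq_single φ]
      · have h1 := irr_conv φ φ w
        rw [if_pos rfl, mul_sum] at h1
        calc _ = (rowSum S (χ : G → ℂ) φ : ℂ) *
              ∑ k : S.V, (φ : S.V → ℂ) 1 * ((φ : S.V → ℂ) k⁻¹ * (φ : S.V → ℂ) (k * w)) := by
              rw [mul_sum]
              refine sum_congr rfl fun k _ => ?_
              rw [← Chars.irr_isClassFunction φ (k * w) w, ← mul_assoc w k w,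
                mul_inv_cancel_right]
              ring
          _ = _ := by rw [h1]; push_cast; ring
      · intro ξ _ hne
        have h1 := irr_conv φ ξ w
        rw [if_neg (Ne.symm hne), mul_sum] at h1
        calc _ = (rowSum S (χ : G → ℂ) ξ : ℂ) *
              ∑ k : S.V, (φ : S.V → ℂ) 1 * ((φ : S.V → ℂ) k⁻¹ * (ξ : S.V → ℂ) (k * w)) := by
              rw [mul_sum]
              refine sum_congr rfl fun k _ => ?_
              rw [← Chars.irr_isClassFunction ξ (k * w) w, ← mul_assoc w k w,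
                mul_inv_cancel_right]
              ring
          _ = _ := by rw [h1, mul_zero]
      · simp
    have h2 := congrArg (red M) h
    rw [red_mul (hφL 1) (sum_mem fun k _ => mul_mem (hφL _) (hL _)),
      red_sum univ (fun k _ => mul_mem (hφL _) (hL _)), red_mul (natCast_mem _ _) (hφL w),
      red_natCast, Nat.cast_mul] at h2
    rw [sum_congr rfl fun k _ => red_mul (hφL _) (hL _)] at h2
    exact h2
  have hR0 : R ≠ 0 := mul_ne_zero
    (fun h => S.coprime ((natCast_red_eq_zero hM _).mp h))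
    (fun h => hR ((natCast_red_eq_zero hM _).mp h))
  have hP0 : P ≠ 0 := red_apply_one_ne_zero S hM φ
  have hk : ∀ k : S.V, ω * red M ((χ : G → ℂ) (k : G)) =
      ∑ a ∈ A, red M ((χ : G → ℂ) ((a.2 * k : S.V) : G)) := by
    intro k
    rw [hω, ← red_mul (isIntegral_mem_localRing (Blocks.centralChar_isIntegral χ _)) (hL _),
      centralChar_mul, red_sum univ (fun κ _ => hL _),
      sum_eq_sum_fixed p σ hσp (fun κ : K => red M ((χ : G → ℂ) ((κ : G) * (k : G)))) fun κ => ?_,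
      hFsum fun y => red M ((χ : G → ℂ) (y * (k : G)))]
    · refine sum_congr rfl fun a _ => ?_
      rw [show pt S a * (k : G) = pt S (a.1, a.2 * k) by
        simp [pt, mul_assoc], red_pt S hM]
    · refine congrArg (red M) ?_
      show (χ : G → ℂ) (S.x * κ * S.x⁻¹ * (k : G)) = _
      rw [mul_assoc _ S.x⁻¹, ((S.commute k k.2).inv_left).eq, ← mul_assoc,
        show S.x * (κ : G) * (k : G) = S.x * ((κ : G) * k) by group]
      exact Chars.irr_isClassFunction χ _ _
  have h1 : ω * X 1 = ∑ a ∈ A, X a.2 := by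
    simp only [X, mul_sum, one_mul]
    rw [sum_comm]
    refine sum_congr rfl fun k _ => ?_
    rw [mul_left_comm, hk, mul_sum]
  have h2 : ω * (R * P) = R * ∑ a ∈ A, red M ((φ : S.V → ℂ) a.2) := by
    rw [← hX 1, mul_left_comm, h1, mul_sum, mul_sum]
    exact sum_congr rfl fun a _ => hX a.2
  have h3 : ω * P = ∑ a ∈ A, red M ((φ : S.V → ℂ) a.2) :=
    mul_left_cancel₀ hR0 (by rw [← h2]; ring)
  rw [indRed, ← sum_mul, ← h3, mul_inv_cancel_right₀ hP0]

open scoped Classical in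
theorem indRed_V (φ : IrrCharacter S.V) (v : S.V) :
    indRed S M φ (v : G) =
      ∑ u ∈ fusSet S v, red M ((φ : S.V → ℂ) u) * (red M ((φ : S.V → ℂ) 1))⁻¹ := by
  have hz : ∀ a : ZMod p × S.V, IsConj (v : G) (pt S a) → a.1 = 0 := by
    intro a h
    by_contra ha
    obtain ⟨c, hc⟩ := isConj_iff.mp h
    have := pt_singular S ha
    rw [← hc, show c * (v : G) * c⁻¹ = MulAut.conj c (v : G) from rfl, MulEquiv.orderOf_eq] at this
    exact not_dvd_orderOf_V S v this
  have hpt : ∀ u : S.V, pt S ((0 : ZMod p), u) = (u : G) := fun u => by simp [pt, xp_zero]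
  rw [indRed]
  refine sum_nbij' (fun a => a.2) (fun u => ((0 : ZMod p), u)) (fun a ha => ?_) (fun u hu => ?_)
    (fun a ha => ?_) (fun u _ => rfl) (fun a _ => rfl)
  · have h := (mem_filter.mp ha).2
    rw [show a = ((0 : ZMod p), a.2) from Prod.ext (hz a h) rfl, hpt] at h
    exact (mem_fusSet S).mpr h
  · exact mem_filter.mpr ⟨mem_univ _, by rw [hpt]; exact (mem_fusSet S).mp hu⟩
  · exact Prod.ext (hz a (mem_filter.mp ha).2).symm rfl

open scoped Classical in
/-- The reduced induced characters separate the orbits. -/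
theorem mem_phiOrbit_of_indRed_eq (hidx : ¬ p ∣ (centralizer ({S.x} : Set G)).index)
    (hM : IsPModular p M) {φ φ' : IrrCharacter S.V}
    (h : ∀ v : S.V, indRed S M φ (v : G) = indRed S M φ' (v : G)) : φ' ∈ phiOrbit S φ := by
  haveI : CharP (Residue M) p := ⟨natCast_red_eq_zero hM⟩
  set a : S.V → ℂ := fun v => ∑ ξ ∈ phiOrbit S φ, (ξ : S.V → ℂ) 1 * (ξ : S.V → ℂ) v⁻¹
  have haL : ∀ v, a v ∈ localRing M := fun v => isIntegral_mem_localRing
    (IsIntegral.sum _ fun ξ _ => (Chars.irr_isIntegral ξ 1).mul (Chars.irr_isIntegral ξ _))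
  have hinv : ∀ v u : S.V, IsConj (v : G) u → a u = a v := by
    intro v u h
    obtain ⟨g, hg, rfl⟩ := fusion_V S hidx h
    refine sum_bij (fun ξ _ => conjIrr S g ξ) ?_ ?_ ?_ ?_
    · intro ξ hξ
      rw [← phiOrbit_eq S hξ]
      exact (mem_phiOrbit S).mpr ⟨g, hg, rfl⟩
    · intro ξ _ η _ he
      refine Subtype.ext (funext fun w => ?_)
      have := congrArg (fun ζ : IrrCharacter S.V => (ζ : S.V → ℂ) ((conjV S hg).symm w)) he
      simpa [conjIrr_apply S hg] using this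
    · intro η hη
      refine ⟨conjIrr S g⁻¹ η, ?_, ?_⟩
      · rw [← phiOrbit_eq S hη]
        exact (mem_phiOrbit S).mpr ⟨g⁻¹, nrm_inv S hg, rfl⟩
      · rw [← conjIrr_mul S (nrm_inv S hg) hg, inv_mul_cancel, conjIrr_one]
    · intro ξ _
      rw [conjIrr_apply S hg, conjIrr_apply S hg, map_one, map_inv]
  have hfus : ∀ v u : S.V, u ∈ fusSet S v → fusSet S u = fusSet S v := by
    intro v u hu
    ext w
    simp only [mem_fusSet] at hu ⊢
    exact ⟨fun h => hu.trans h, fun h => hu.symm.trans h⟩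
  have hF : ∀ ψ : IrrCharacter S.V, ∑ v : S.V, red M (a v) * ((fusSet S v).card : Residue M)⁻¹ *
      indRed S M ψ (v : G) =
        if ψ ∈ phiOrbit S φ then (Nat.card S.V : Residue M) else 0 := by
    intro ψ
    have hψL : ∀ v, (ψ : S.V → ℂ) v ∈ localRing M := fun v =>
      isIntegral_mem_localRing (Chars.irr_isIntegral ψ v)
    set P := red M ((ψ : S.V → ℂ) 1)
    have h1 : ∀ v : S.V, red M (a v) * ((fusSet S v).card : Residue M)⁻¹ * indRed S M ψ (v : G) =
        ∑ u ∈ fusSet S v, ((fusSet S u).card : Residue M)⁻¹ *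
          (red M (a u) * red M ((ψ : S.V → ℂ) u) * P⁻¹) := by
      intro v
      rw [indRed_V, mul_sum]
      refine sum_congr rfl fun u hu => ?_
      rw [hfus v u hu, hinv v u ((mem_fusSet S).mp hu)]
      ring
    rw [sum_congr rfl fun v _ => h1 v,
      sum_comm' (t' := univ) (s' := fun u => fusSet S u) (fun v u => by
        simp only [mem_univ, true_and, and_true, mem_fusSet]
        exact ⟨IsConj.symm, IsConj.symm⟩)]
    have h2 : ∀ u : S.V, ∑ v ∈ fusSet S u, ((fusSet S u).card : Residue M)⁻¹ *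
        (red M (a u) * red M ((ψ : S.V → ℂ) u) * P⁻¹) =
        red M (a u) * red M ((ψ : S.V → ℂ) u) * P⁻¹ := by
      intro u
      rw [sum_const, nsmul_eq_mul, ← mul_assoc,
        mul_inv_cancel₀ (card_conj_red S hidx hM u).1, one_mul]
    rw [sum_congr rfl fun u _ => h2 u, ← sum_mul]
    have h3 : ∑ u : S.V, a u * (ψ : S.V → ℂ) u =
        ((Nat.card S.V : ℕ) : ℂ) * if ψ ∈ phiOrbit S φ then (ψ : S.V → ℂ) 1 else 0 := by
      simp only [a, sum_mul]
      rw [sum_comm, sum_congr rfl (g := fun ξ => if ξ = ψ then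
        (Nat.card S.V : ℂ) * (ψ : S.V → ℂ) 1 else 0) fun ξ _ => ?_, sum_ite_eq', mul_ite, mul_zero]
      have h4 := irr_conv ξ ψ 1
      simp only [mul_one, mul_sum, ← mul_assoc] at h4
      rw [h4]
      split_ifs with hh
      · rw [hh]
      · rfl
    have h4 := congrArg (red M) h3
    rw [red_sum univ (fun u _ => mul_mem (haL u) (hψL u)),
      red_mul (natCast_mem _ _) (by split_ifs; exacts [hψL 1, zero_mem _]), red_natCast,
      sum_congr rfl fun u _ => red_mul (haL u) (hψL u)] at h4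
    rw [h4]
    split_ifs
    · rw [mul_assoc, mul_inv_cancel₀ (red_apply_one_ne_zero S hM ψ), mul_one]
    · rw [red_zero, mul_zero, zero_mul]
  by_contra hn
  have h1 := hF φ
  rw [if_pos (self_mem_phiOrbit S φ), sum_congr rfl fun v _ => by rw [h v], hF φ', if_neg hn] at h1
  exact S.coprime ((natCast_red_eq_zero hM _).mp h1.symm)

end Reduction

section Main

variable {M : Ideal AlgInt} [M.IsPrime]

theorem red_eq_iff {a b : ℂ} (ha : a ∈ localRing M) (hb : b ∈ localRing M) :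
    red M a = red M b ↔ MemLocalIdeal M (a - b) := by
  rw [show red M a = Blocks.residue M ⟨a, ha⟩ from red_coe (⟨a, ha⟩ : localRing M),
    show red M b = Blocks.residue M ⟨b, hb⟩ from red_coe (⟨b, hb⟩ : localRing M)]
  exact residue_eq_iff

open scoped Classical in
theorem card_phiOrbit_mul (φ : IrrCharacter S.V) :
    (phiOrbit S φ).card * (stabExp S φ).card =
      (SmallGroups.PrimeChar.fusion p S.x).card := by
  refine Nat.eq_of_mul_eq_mul_right (m := DefectOne.cN S)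
    (Nat.pos_of_ne_zero fun h => DefectOne.cN_ne_zero S (by rw [h, Nat.cast_zero])) ?_
  rw [← DefectOne.card_nset, card_eq_sum_card_fiberwise (f := fun g => conjIrr S g φ)
    (t := phiOrbit S φ)
    (fun g hg => (mem_phiOrbit S).mpr ⟨g, (DefectOne.mem_nset S).mp hg, rfl⟩),
    sum_congr rfl (g := fun _ => (stabExp S φ).card * DefectOne.cN S) fun ξ hξ => ?_, sum_const,
    smul_eq_mul, mul_assoc]
  obtain ⟨g, hg, rfl⟩ := (mem_phiOrbit S).mp hξ
  rw [card_eq_sum_card_fiberwise (f := expo S) (t := (stabExp S φ).image (· * expo S g)),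
    sum_congr rfl (g := fun _ => DefectOne.cN S) fun u hu => ?_, sum_const,
    card_image_of_injective _ (mul_left_injective₀ (expo_ne_zero S hg)), smul_eq_mul]
  · obtain ⟨w, hw, rfl⟩ := mem_image.mp hu
    obtain ⟨h, hh, rfl, hhφ⟩ := (mem_stabExp S).mp hw
    rw [filter_filter]
    rw [← DefectOne.card_act_fiber S φ (expo S h * expo S g) (conjIrr S g φ)
      ⟨h * g, (DefectOne.expo_mul S hh hg).1, (DefectOne.expo_mul S hh hg).2, by
        rw [conjIrr_mul S hh hg, hhφ]⟩]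
    exact congrArg Finset.card (filter_congr fun _ _ => and_comm)
  · intro h hh
    obtain ⟨hh1, hh2⟩ := mem_filter.mp hh
    have hn := (DefectOne.mem_nset S).mp hh1
    have hgi := nrm_inv S hg
    obtain ⟨hm, he⟩ := DefectOne.expo_mul S hn hgi
    refine mem_image.mpr ⟨expo S (h * g⁻¹), (mem_stabExp S).mpr ⟨_, hm, rfl, ?_⟩, ?_⟩
    · rw [conjIrr_mul S hn hgi, hh2, ← conjIrr_mul S hg hgi, mul_inv_cancel, conjIrr_one]
    · rw [← (DefectOne.expo_mul S hm hg).2, inv_mul_cancel_right]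

theorem degree_modEq (hidx : ¬ p ∣ (centralizer ({S.x} : Set G)).index) (χ : IrrCharacter G)
    {φ : IrrCharacter S.V} (hR : ¬ p ∣ rowSum S (χ : G → ℂ) φ) :
    (charDegree (χ : G → ℂ) : ℤ) ≡ ((phiOrbit S φ).card * charDegree (φ : S.V → ℂ) : ℕ) *
      (rowSum S (χ : G → ℂ) φ : ℤ) [ZMOD p] := by
  classical
  have h1 := apply_V_eq S χ (1 : S.V)
  simp only [OneMemClass.coe_one, (Chars.charDegree_spec _).2] at h1
  have h2 : (charDegree (χ : G → ℂ) : ℤ) = ∑ ξ : IrrCharacter S.V,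
      (rowSum S (χ : G → ℂ) ξ : ℤ) * (charDegree (ξ : S.V → ℂ) : ℤ) := by
    exact_mod_cast h1
  have hdeg : ∀ ξ ∈ phiOrbit S φ,
      charDegree (ξ : S.V → ℂ) = charDegree (φ : S.V → ℂ) := by
    intro ξ hξ
    obtain ⟨g, hg, rfl⟩ := (mem_phiOrbit S).mp hξ
    simp [charDegree, conjIrr_apply S hg]
  refine (ZMod.intCast_eq_intCast_iff _ _ _).mp ?_
  rw [h2]
  push_cast
  rw [← sum_subset (subset_univ (phiOrbit S φ)) fun ξ _ hξ => by
    rw [(ZMod.natCast_eq_zero_iff _ _).mpr (dvd_rowSum_of_not_mem S hidx χ hR hξ), zero_mul],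
    sum_congr rfl (g := fun _ => (rowSum S (χ : G → ℂ) φ : ZMod p) *
      (charDegree (φ : S.V → ℂ) : ZMod p)) fun ξ hξ => by
        rw [rowSum_of_mem S (Chars.irr_isClassFunction χ) hξ, hdeg ξ hξ],
    sum_const, nsmul_eq_mul]
  ring

theorem not_dvd_of_row {φ : IrrCharacter S.V} {c : ℤ} (hc : c = 1 ∨ c = -1) {n : ℕ}
    (χ : IrrCharacter G) (hn : ¬ p ∣ n)
    (h : (rsum S φ χ : ℤ) ≡ c * n [ZMOD p]) : ¬ p ∣ rowSum S (χ : G → ℂ) φ := by
  intro hd
  have h1 : (p : ℤ) ∣ c * n :=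
    Int.modEq_zero_iff_dvd.mp (h.symm.trans (Int.modEq_zero_iff_dvd.mpr (by exact_mod_cast hd)))
  rcases hc with rfl | rfl <;> simp at h1 <;> exact hn (by exact_mod_cast h1)

theorem rsum_const {φ : IrrCharacter S.V} {χ : IrrCharacter G} {c : ℤ}
    (h : ∀ k : ZMod p, k ≠ 0 → kk S φ χ k = c) : (rsum S φ χ : ℤ) ≡ c [ZMOD p] := by
  refine (rsum_modEq S φ χ).trans ?_
  rw [sum_congr rfl fun k hk => h k (ne_of_mem_erase hk), sum_const,
    card_erase_of_mem (mem_univ _), card_univ, ZMod.card, nsmul_eq_mul,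
    Nat.cast_sub hp.out.one_le, Nat.cast_one]
  exact Int.modEq_iff_dvd.mpr ⟨c, by ring⟩

theorem rsum_coset {φ : IrrCharacter S.V} {χ : IrrCharacter G} {a : ZMod p} (ha : a ≠ 0) {ε : ℤ}
    (h : ∀ k : ZMod p, k ≠ 0 → kk S φ χ k = if k * a⁻¹ ∈ stabExp S φ then ε else 0) :
    (rsum S φ χ : ℤ) ≡ -ε * ((stabExp S φ).card : ℕ) [ZMOD p] := by
  refine (rsum_modEq S φ χ).trans ?_
  rw [sum_congr rfl fun k hk => h k (ne_of_mem_erase hk), ← sum_filter, sum_const,
    card_coset S φ ha, nsmul_eq_mul]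
  exact Int.modEq_iff_dvd.mpr ⟨0, by ring⟩

theorem not_dvd_card_stabExp (φ : IrrCharacter S.V) : ¬ p ∣ (stabExp S φ).card := fun h => by
  have h1 := Nat.le_of_dvd (by have := hp.out.two_le; omega) (h.trans (card_stabExp_dvd S φ))
  have := hp.out.two_le
  omega

/-- A row sum divisible by `p` means a zero row. -/
theorem rows_zero_of_dvd (hsq : ¬ p ^ 2 ∣ Nat.card G) {φ : IrrCharacter S.V} {χ : IrrCharacter G}
    (h : p ∣ rowSum S (χ : G → ℂ) φ) (k : ZMod p) : kk S φ χ k = 0 := by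
  obtain ⟨A, Y, δ, ε, a, -, -, -, hε, hA, hY, hrest, -⟩ := exists_rows S hsq φ
  refine hrest χ (fun hχ => ?_) (fun hχ => ?_) k
  · refine not_dvd_of_row S (hA χ hχ).1 χ (n := 1) hp.out.not_dvd_one ?_ h
    rw [Nat.cast_one, mul_one]
    exact rsum_const S (hA χ hχ).2
  · exact not_dvd_of_row S (c := -ε) (by omega) χ (not_dvd_card_stabExp S φ)
      (rsum_coset S (hY χ hχ).1 (hY χ hχ).2) h

/-- A block of positive defect has only characters with a nonzero row. -/
theorem exists_rowSum_of_mem (hidx : ¬ p ∣ (centralizer ({S.x} : Set G)).index)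
    (hM : IsPModular p M) {B : Set (IrrCharacter G)} (hB : IsPBlock M B)
    (hd : 0 < blockDefect p B) {χ : IrrCharacter G} (hχ : χ ∈ B) :
    ∃ φ : IrrCharacter S.V, ¬ p ∣ rowSum S (χ : G → ℂ) φ := by
  have hsq := not_sq_dvd_card S hidx
  by_contra h
  push Not at h
  have hdeg := dvd_charDegree_of_rows_zero S χ fun φ k => rows_zero_of_dvd S hsq (h φ) k
  obtain ⟨-, hne, hdvd⟩ := Blocks.exists_degree_eq χ
  have hnd : ¬ p ∣ Nat.card G / charDegree (χ : G → ℂ) := fun h' => hsq (by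
    obtain ⟨c, hc⟩ := hdvd
    rw [hc, Nat.mul_div_cancel_left _ (Nat.pos_of_ne_zero hne)] at h'
    rw [hc, sq]
    exact Nat.mul_dvd_mul hdeg h')
  have hsing := Blocks.blockOf_eq_singleton_of_defect_zero hM χ hnd
  rw [← Blocks.eq_blockOf_of_mem hB hχ] at hsing
  subst hsing
  simp only [blockDefect, Set.image_singleton, csInf_singleton] at hd
  have h1 := hp.out.factorization_pos_of_dvd hne hdeg
  have h2 : ¬ 2 ≤ (Nat.card G).factorization p := fun h' =>
    hsq ((hp.out.pow_dvd_iff_le_factorization Nat.card_pos.ne').mpr h')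
  omega

/-- A block of positive defect is attached to an orbit. -/
theorem exists_phi (hidx : ¬ p ∣ (centralizer ({S.x} : Set G)).index)
    (hM : IsPModular p M) {B : Set (IrrCharacter G)} (hB : IsPBlock M B)
    (hd : 0 < blockDefect p B) :
    ∃ φ : IrrCharacter S.V, ∀ χ ∈ B, ∀ g,
      red M (centralChar (χ : G → ℂ) g) = indRed S M φ g := by
  obtain ⟨χ₀, hχ₀⟩ := Blocks.isPBlock_nonempty hB
  obtain ⟨φ, hφ⟩ := exists_rowSum_of_mem S hidx hM hB hd hχ₀
  refine ⟨φ, fun χ hχ g => ?_⟩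
  rw [← red_centralChar S hM χ₀ hφ g]
  refine ((red_eq_iff (isIntegral_mem_localRing (Blocks.centralChar_isIntegral χ₀ g))
    (isIntegral_mem_localRing (Blocks.centralChar_isIntegral χ g))).mpr ?_).symm
  rw [Blocks.eq_blockOf_of_mem hB hχ₀] at hχ
  exact hχ g

/-- Membership in a block of positive defect. -/
theorem mem_block_iff (hidx : ¬ p ∣ (centralizer ({S.x} : Set G)).index)
    (hM : IsPModular p M) {B : Set (IrrCharacter G)} (hB : IsPBlock M B)
    (hd : 0 < blockDefect p B) {φ : IrrCharacter S.V}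
    (hφ : ∀ χ ∈ B, ∀ g, red M (centralChar (χ : G → ℂ) g) = indRed S M φ g)
    (χ : IrrCharacter G) : χ ∈ B ↔ ¬ p ∣ rowSum S (χ : G → ℂ) φ := by
  constructor
  · intro hχ
    obtain ⟨φ', hφ'⟩ := exists_rowSum_of_mem S hidx hM hB hd hχ
    have hmem : φ' ∈ phiOrbit S φ := mem_phiOrbit_of_indRed_eq S hidx hM fun v => by
      rw [← hφ χ hχ, red_centralChar S hM χ hφ']
    rwa [rowSum_of_mem S (Chars.irr_isClassFunction χ) hmem] at hφ'
  · intro hR
    obtain ⟨χ₀, hχ₀⟩ := Blocks.isPBlock_nonempty hB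
    rw [Blocks.eq_blockOf_of_mem hB hχ₀]
    show SameBlock M _ _
    intro g
    refine (red_eq_iff (isIntegral_mem_localRing (Blocks.centralChar_isIntegral χ₀ g))
      (isIntegral_mem_localRing (Blocks.centralChar_isIntegral χ g))).mp ?_
    rw [hφ χ₀ hχ₀, red_centralChar S hM χ hR]

open scoped Classical in
/-- The structure of a block of positive defect. -/
theorem exists_block (hidx : ¬ p ∣ (centralizer ({S.x} : Set G)).index)
    (hM : IsPModular p M) {B : Set (IrrCharacter G)} (hB : IsPBlock M B)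
    (hd : 0 < blockDefect p B) {φ : IrrCharacter S.V}
    (hφ : ∀ χ ∈ B, ∀ g, red M (centralChar (χ : G → ℂ) g) = indRed S M φ g) :
    ∃ (A Y : Finset (IrrCharacter G)) (δ : IrrCharacter G → ℤ) (ε : ℤ),
      B = (A : Set (IrrCharacter G)) ∪ Y ∧ Disjoint A Y ∧ A.card = (stabExp S φ).card ∧
      Y.card = (p - 1) / (stabExp S φ).card ∧ (ε = 1 ∨ ε = -1) ∧
      (∀ χ ∈ A, (δ χ = 1 ∨ δ χ = -1) ∧ (charDegree (χ : G → ℂ) : ℤ) ≡
        ((phiOrbit S φ).card * charDegree (φ : S.V → ℂ) : ℕ) * δ χ [ZMOD p]) ∧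
      (∀ θ ∈ Y, (charDegree (θ : G → ℂ) : ℤ) ≡ -ε *
        ((SmallGroups.PrimeChar.fusion p S.x).card * charDegree (φ : S.V → ℂ) : ℕ) [ZMOD p]) ∧
      (∀ θ ∈ Y, ∀ g : G, ¬ p ∣ orderOf g →
        (∑ χ ∈ A, (δ χ : ℂ) * (χ : G → ℂ) g) + (ε : ℂ) * (θ : G → ℂ) g = 0) ∧
      (∀ χ ∈ A, ∀ (μ : ZMod p) (σ : ℂ ≃+* ℂ), IsShift p (Nat.card G / p) σ μ →
        GaloisChar.galIrr (σ : ℂ →+* ℂ) χ = χ) ∧
      (∀ θ ∈ Y, ∀ θ' ∈ Y, θ = θ' ∨ ∃ (μ : ZMod p) (σ : ℂ ≃+* ℂ),
        IsShift p (Nat.card G / p) σ μ ∧ GaloisChar.galIrr (σ : ℂ →+* ℂ) θ = θ') ∧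
      ∀ θ ∈ Y, ∀ (μ : ZMod p) (σ : ℂ ≃+* ℂ), μ ≠ 0 → IsShift p (Nat.card G / p) σ μ →
        GaloisChar.galIrr (σ : ℂ →+* ℂ) θ ∈ Y := by
  have hsq := not_sq_dvd_card S hidx
  obtain ⟨A, Y, δ, ε, a, hdisj, hcA, hcY, hε, hA, hY, hrest, hrel, htrans, hclosed⟩ :=
    exists_rows S hsq φ
  have hRA : ∀ χ ∈ A, (rsum S φ χ : ℤ) ≡ δ χ [ZMOD p] := fun χ hχ => rsum_const S (hA χ hχ).2
  have hRY : ∀ θ ∈ Y, (rsum S φ θ : ℤ) ≡ -ε * ((stabExp S φ).card : ℕ) [ZMOD p] :=
    fun θ hθ => rsum_coset S (hY θ hθ).1 (hY θ hθ).2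
  have hndA : ∀ χ ∈ A, ¬ p ∣ rowSum S (χ : G → ℂ) φ := fun χ hχ =>
    not_dvd_of_row S (hA χ hχ).1 χ (n := 1) hp.out.not_dvd_one
      (by rw [Nat.cast_one, mul_one]; exact hRA χ hχ)
  have hndY : ∀ θ ∈ Y, ¬ p ∣ rowSum S (θ : G → ℂ) φ := fun θ hθ =>
    not_dvd_of_row S (c := -ε) (by omega) θ (not_dvd_card_stabExp S φ) (hRY θ hθ)
  have hconst : ∀ (χ : IrrCharacter G) (c : ℤ), ¬ p ∣ rowSum S (χ : G → ℂ) φ →
      (∀ k : ZMod p, k ≠ 0 → kk S φ χ k = c) →
      ∀ φ' : IrrCharacter S.V, ∃ c : ℤ, ∀ k : ZMod p, k ≠ 0 → kk S φ' χ k = c := by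
    intro χ c hR hc φ'
    by_cases h : φ' ∈ phiOrbit S φ
    · obtain ⟨g, hg, rfl⟩ := (mem_phiOrbit S).mp h
      refine ⟨c, fun k hk => ?_⟩
      rw [← inv_mul_cancel_right₀ (expo_ne_zero S hg) k, mul_comm k]
      rw [mul_comm (expo S g)⁻¹ k, kk_conjIrr S hg,
        hc _ (mul_ne_zero hk (inv_ne_zero (expo_ne_zero S hg)))]
    · exact ⟨0, fun k _ => rows_zero_of_dvd S hsq (dvd_rowSum_of_not_mem S hidx χ hR h) k⟩
  refine ⟨A, Y, δ, ε, ?_, hdisj, hcA, hcY, hε, fun χ hχ => ⟨(hA χ hχ).1, ?_⟩, fun θ hθ => ?_, hrel,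
    fun χ hχ μ σ hs => galIrr_eq_self S hsq χ (hconst χ _ (hndA χ hχ) (hA χ hχ).2) hs, htrans,
    fun θ hθ μ σ hμ hs => ?_⟩
  · ext χ
    rw [mem_block_iff S hidx hM hB hd hφ]
    constructor
    · intro hR
      by_contra hn
      simp only [Set.mem_union, Finset.mem_coe, not_or] at hn
      have h0 : (rsum S φ χ : ℤ) ≡ 0 [ZMOD p] :=
        rsum_const S fun k _ => hrest χ hn.1 hn.2 k
      exact hR (by exact_mod_cast Int.modEq_zero_iff_dvd.mp h0)
    · rintro (h | h)
      exacts [hndA χ h, hndY χ h]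
  · exact (degree_modEq S hidx χ (hndA χ hχ)).trans ((hRA χ hχ).mul_left _)
  · refine (degree_modEq S hidx θ (hndY θ hθ)).trans (((hRY θ hθ).mul_left _).trans ?_)
    rw [← card_phiOrbit_mul S φ]
    exact Int.modEq_iff_dvd.mpr ⟨0, by push_cast; ring⟩
  · by_cases ht : 2 ≤ Y.card
    · exact hclosed ht θ hθ μ σ hμ hs
    · have hall : ∀ k : ZMod p, k ≠ 0 → k ∈ stabExp S φ := by
        have h1 : Y.card * (stabExp S φ).card = p - 1 := by
          rw [hcY]; exact Nat.div_mul_cancel (card_stabExp_dvd S φ)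
        have h2 : 0 < Y.card := card_pos.mpr ⟨θ, hθ⟩
        rw [show Y.card = 1 by omega, one_mul] at h1
        have h3 : stabExp S φ = univ.erase 0 := eq_of_subset_of_card_le
          (fun u hu => mem_erase.mpr ⟨ne_zero_of_mem_stabExp S hu, mem_univ _⟩)
          (by rw [card_erase_of_mem (mem_univ _), card_univ, ZMod.card, h1])
        intro k hk
        rw [h3]
        exact mem_erase.mpr ⟨hk, mem_univ _⟩
      rw [galIrr_eq_self S hsq θ (hconst θ ε (hndY θ hθ) fun k hk => by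
        rw [(hY θ hθ).2 k hk, if_pos (hall _ (mul_ne_zero hk (inv_ne_zero (hY θ hθ).1)))]) hs]
      exact hθ

end Main

end Cfsg.Agent.Lib.DefectTwist
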