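/-
The two theorems on blocks of defect one.
-/
import Mathlib
import Cfsg.Agent.Lib.DefectTwist.Block
import Cfsg.Agent.Lib.DefectOne.Sylow

set_option autoImplicit false
set_option linter.unusedSectionVars false
set_option linter.style.haveILetI false

namespace Cfsg.Agent.Lib.DefectTwist

open scoped ComplexConjugate
open Finset Subgroup Cfsg Cfsg.Agent.Lib
open Cfsg.Agent.Lib.Glauberman (red)
open Cfsg.Agent.Lib.Blocks (isIntegral_mem_localRing localRing)
open Cfsg.Agent.Lib.DefectOne (Local Nrm expo conjV conjIrr conjIrr_apply pt move pt_move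
  pt_injective pt_mem_centralizer phiOrbit nset mem_nset cN card_act_fiber exists_local
  not_dvd_centralizer_index centralizer_sylow sylow_eq_zpowers relIndex_centralizer not_sq_dvd_card)
open Cfsg.Agent.Lib.SmallGroups.PrimeChar (xp xp_zero fusion)

section Galois

variable {G : Type*} [Group G] [Fintype G] {p : ℕ} [hp : Fact p.Prime]

omit [Group G] [Fintype G] in
/-- An automorphism fixing the roots of unity of order prime to `p` shifts the others. -/
theorem exists_isShift_of_fix {N : ℕ} (hN : N ≠ 0) {σ : ℂ ≃+* ℂ}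
    (hσ : σ (Complex.exp (2 * Real.pi * Complex.I / (N : ℕ))) =
      Complex.exp (2 * Real.pi * Complex.I / (N : ℕ))) :
    ∃ μ : ZMod p, μ ≠ 0 ∧ IsShift p N σ μ := by
  haveI : NeZero N := ⟨hN⟩
  have hζ : IsPrimitiveRoot (ZMod.stdAddChar (1 : ZMod p)) p := by
    refine IsPrimitiveRoot.iff_def _ _ |>.mpr ⟨?_, fun l hl => ?_⟩
    · rw [← AddChar.map_nsmul_eq_pow, nsmul_one, ZMod.natCast_self, AddChar.map_zero_eq_one]
    · rw [← AddChar.map_nsmul_eq_pow, nsmul_one, ← AddChar.map_zero_eq_one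
        (ψ := (ZMod.stdAddChar : AddChar (ZMod p) ℂ)), ZMod.injective_stdAddChar.eq_iff,
        ZMod.natCast_eq_zero_iff] at hl
      exact hl
  have hσζ := hζ.map_of_injective (f := σ) σ.injective
  obtain ⟨i, -, hi⟩ := hζ.eq_pow_of_pow_eq_one hσζ.pow_eq_one
  refine ⟨(i : ZMod p), fun h0 => ?_, fun a => ?_, fun z hz => ?_⟩
  · rw [← AddChar.map_nsmul_eq_pow, nsmul_one, h0, AddChar.map_zero_eq_one] at hi
    exact hσζ.ne_one hp.out.one_lt hi.symm
  · rw [← ZMod.natCast_zmod_val a, ← nsmul_one, AddChar.map_nsmul_eq_pow, map_pow, ← hi, ← pow_mul,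
      ← AddChar.map_nsmul_eq_pow, nsmul_one, nsmul_one, Nat.cast_mul]
  · obtain ⟨j, -, rfl⟩ := (Complex.isPrimitiveRoot_exp N hN).eq_pow_of_pow_eq_one hz
    rw [map_pow, hσ]

omit [Group G] [Fintype G] in
theorem fix_of_isShift {N : ℕ} (hN : N ≠ 0) {σ : ℂ ≃+* ℂ} {μ : ZMod p} (hσ : IsShift p N σ μ) :
    σ (Complex.exp (2 * Real.pi * Complex.I / (N : ℕ))) =
      Complex.exp (2 * Real.pi * Complex.I / (N : ℕ)) :=
  hσ.2 _ (Complex.isPrimitiveRoot_exp N hN).pow_eq_one

theorem exists_mem_ne_one (P : Sylow p G) (hP : Nat.card P = p) :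
    ∃ x ∈ (P : Subgroup G), x ≠ 1 := by
  refine (Subgroup.ne_bot_iff_exists_ne_one.mp fun h => hp.out.ne_one ?_).elim
    fun a ha => ⟨a.1, a.2, fun h => ha (Subtype.ext h)⟩
  rw [← hP, ← Subgroup.card_bot (G := G), ← h]

open scoped Classical in
/-- The families of a block of positive defect when `p` divides the order once. -/
theorem families (M : Ideal AlgInt) (hM : IsPModular p M) (hdiv : p ∣ Nat.card G)
    (hsq : ¬ p ^ 2 ∣ Nat.card G) (B : Set (IrrCharacter G)) (hB : IsPBlock M B)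
    (hd : 0 < blockDefect p B) :
    ∃ Y : Set (IrrCharacter G), Y ⊆ B ∧ Y.Nonempty ∧
      (∀ θ ∈ Y, ∀ ψ : IrrCharacter G, (∃ σ : ℂ ≃+* ℂ,
        σ (Complex.exp (2 * Real.pi * Complex.I /
          ((Nat.card G / p ^ (Nat.card G).factorization p) : ℕ))) =
          Complex.exp (2 * Real.pi * Complex.I /
            ((Nat.card G / p ^ (Nat.card G).factorization p) : ℕ)) ∧
        (ψ : G → ℂ) = fun g => σ ((θ : G → ℂ) g)) ↔ ψ ∈ Y) ∧
      (∀ χ ∈ B, χ ∉ Y → ∀ ψ : IrrCharacter G, (∃ σ : ℂ ≃+* ℂ,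
        σ (Complex.exp (2 * Real.pi * Complex.I /
          ((Nat.card G / p ^ (Nat.card G).factorization p) : ℕ))) =
          Complex.exp (2 * Real.pi * Complex.I /
            ((Nat.card G / p ^ (Nat.card G).factorization p) : ℕ)) ∧
        (ψ : G → ℂ) = fun g => σ ((χ : G → ℂ) g)) → ψ = χ) ∧
      Nat.card Y ∣ p - 1 ∧ Nat.card B = Nat.card Y + (p - 1) / Nat.card Y ∧
      ∃ δ : IrrCharacter G → ℤ, (∀ χ ∈ B, δ χ = 1 ∨ δ χ = -1) ∧
        ∀ x : G, ¬ p ∣ orderOf x → ∀ θ ∈ Y,
          (∑ᶠ χ ∈ B \ Y, (δ χ : ℂ) * (χ : G → ℂ) x) + (δ θ : ℂ) * (θ : G → ℂ) x = 0 := by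
  haveI := Blocks.isPModular_isPrime hM
  have hfact : (Nat.card G).factorization p = 1 := by
    have h1 := hp.out.factorization_pos_of_dvd Nat.card_pos.ne' hdiv
    have h2 : ¬ 2 ≤ (Nat.card G).factorization p := fun h =>
      hsq ((hp.out.pow_dvd_iff_le_factorization Nat.card_pos.ne').mpr h)
    omega
  obtain ⟨P⟩ : Nonempty (Sylow p G) := inferInstance
  have hP : Nat.card P = p := by rw [P.card_eq_multiplicity, hfact, pow_one]
  obtain ⟨x, hx, hx1⟩ := exists_mem_ne_one P hP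
  obtain ⟨S, rfl, -, -⟩ := exists_local P hP hx hx1
  have hidx := not_dvd_centralizer_index P hP hx hx1
  obtain ⟨φ, hφ⟩ := exists_phi S hidx hM hB hd
  obtain ⟨A, Y, δ, ε, hBeq, hdisj, hcA, hcY, hε, hA, -, hrel, hfix, htrans, hclosed⟩ :=
    exists_block S hidx hM hB hd hφ
  set e := (stabExp S φ).card
  have he : e ∣ p - 1 := card_stabExp_dvd S φ
  have hp1 : 0 < p - 1 := by have := hp.out.two_le; omega
  have hN0 : Nat.card G / p ≠ 0 :=
    (Nat.div_pos (Nat.le_of_dvd Nat.card_pos hdiv) hp.out.pos).ne'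
  rw [hfact, pow_one]
  refine ⟨(Y : Set (IrrCharacter G)), hBeq ▸ Set.subset_union_right, ?_, fun θ hθ ψ => ?_,
    fun χ hχ hχY ψ => ?_, ?_, ?_, fun χ => if χ ∈ Y then ε else δ χ, fun χ hχ => ?_,
    fun y hy θ hθ => ?_⟩
  · refine Finset.coe_nonempty.mpr (card_pos.mp ?_)
    rw [hcY]
    exact Nat.div_pos (Nat.le_of_dvd hp1 he) (card_pos.mpr ⟨1, one_mem_stabExp S φ⟩)
  · constructor
    · rintro ⟨σ, hσ, hψ⟩
      obtain ⟨μ, hμ, hs⟩ := exists_isShift_of_fix (p := p) hN0 hσ
      rw [show ψ = GaloisChar.galIrr (σ : ℂ →+* ℂ) θ from Subtype.ext hψ]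
      exact hclosed θ hθ μ σ hμ hs
    · intro hψ
      rcases htrans θ hθ ψ hψ with rfl | ⟨μ, σ, hs, rfl⟩
      · exact ⟨RingEquiv.refl ℂ, rfl, rfl⟩
      · exact ⟨σ, fix_of_isShift hN0 hs, rfl⟩
  · rintro ⟨σ, hσ, hψ⟩
    obtain ⟨μ, -, hs⟩ := exists_isShift_of_fix (p := p) hN0 hσ
    rw [hBeq] at hχ
    rw [show ψ = GaloisChar.galIrr (σ : ℂ →+* ℂ) χ from Subtype.ext hψ]
    exact hfix χ (hχ.resolve_right hχY) μ σ hs
  · rw [Nat.card_coe_set_eq, Set.ncard_coe_finset, hcY]
    exact Nat.div_dvd_of_dvd he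
  · rw [Nat.card_coe_set_eq, Nat.card_coe_set_eq, Set.ncard_coe_finset, hBeq, ← Finset.coe_union,
      Set.ncard_coe_finset, card_union_of_disjoint hdisj, hcA, hcY,
      Nat.div_div_self he hp1.ne', add_comm]
  · rw [hBeq] at hχ
    by_cases h : χ ∈ Y
    · simp only [if_pos h]; exact hε
    · simp only [if_neg h]; exact (hA χ (hχ.resolve_right h)).1
  · have hBY : B \ (Y : Set (IrrCharacter G)) = (A : Set (IrrCharacter G)) := by
      rw [hBeq]
      exact Set.union_sdiff_cancel_right (by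
        rw [← Finset.coe_inter, Finset.disjoint_iff_inter_eq_empty.mp hdisj, Finset.coe_empty])
    rw [hBY, finsum_mem_coe_finset]
    simp only []
    rw [if_pos (Finset.mem_coe.mp hθ),
      sum_congr rfl (g := fun χ => (δ χ : ℂ) * (χ : G → ℂ) y)
        (fun χ hχ => by rw [if_neg (Finset.disjoint_left.mp hdisj hχ)])]
    exact hrel θ hθ y hy

open scoped Classical in
set_option maxHeartbeats 1000000 in
/-- A block with defect group of order `p`. -/
theorem block_count (M : Ideal AlgInt) (hM : IsPModular p M) (P : Sylow p G)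
    (hP : Nat.card P = p) (B : Set (IrrCharacter G)) (hB : IsPBlock M B)
    (hBP : IsDefectGroup p M B P) (C T : Subgroup G)
    (hC : C = centralizer ((P : Subgroup G) : Set G)) (b : Set (IrrCharacter C))
    (hind : IsInducedBlock M C b B) (θ : IrrCharacter C) (hθ : θ ∈ b)
    (hθP : ∀ x : C, (x : G) ∈ (P : Subgroup G) → (θ : C → ℂ) x = (θ : C → ℂ) 1)
    (hT : ∀ g : G, g ∈ T ↔ (g ∈ normalizer ((P : Subgroup G) : Set G) ∧
      ∀ c c' : C, (c' : G) = g * c * g⁻¹ → (θ : C → ℂ) c' = (θ : C → ℂ) c))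
    (e f : ℕ) (he : C.relIndex T = e)
    (hf : C.relIndex (normalizer ((P : Subgroup G) : Set G)) = f) :
    e ∣ p - 1 ∧ Nat.card B = e + (p - 1) / e ∧ ∃ X Y : Set (IrrCharacter G), B = X ∪ Y ∧
      Disjoint X Y ∧ Nat.card X = e ∧ Nat.card Y = (p - 1) / e ∧
      (∀ χ ∈ X, (charDegree (χ : G → ℂ) : ℤ) ≡
          ((f / e * charDegree (θ : C → ℂ) : ℕ) : ℤ) [ZMOD p] ∨
        (charDegree (χ : G → ℂ) : ℤ) ≡
          -((f / e * charDegree (θ : C → ℂ) : ℕ) : ℤ) [ZMOD p]) ∧
      (∃ ε : ℤ, (ε = 1 ∨ ε = -1) ∧ ∀ ψ ∈ Y, (charDegree (ψ : G → ℂ) : ℤ) ≡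
        ε * ((f * charDegree (θ : C → ℂ) : ℕ) : ℤ) [ZMOD p]) ∧
      ∀ ψ ∈ Y, ∀ ψ' ∈ Y, ∀ g : G, ¬ p ∣ orderOf g → (ψ : G → ℂ) g = (ψ' : G → ℂ) g := by
  haveI := Blocks.isPModular_isPrime hM
  obtain ⟨x, hx, hx1⟩ := exists_mem_ne_one P hP
  obtain ⟨S, rfl, -, -⟩ := exists_local P hP hx hx1
  have hidx := not_dvd_centralizer_index P hP hx hx1
  have hPx := (sylow_eq_zpowers P hP hx hx1).1
  have hCx : C = centralizer ({S.x} : Set G) := by rw [hC, centralizer_sylow P hP hx hx1]
  have hd : 0 < blockDefect p B := by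
    have h := Blocks.card_defectGroup hM hB hBP
    rcases Nat.eq_zero_or_pos (blockDefect p B) with h0 | h0
    · rw [h0, pow_zero] at h
      exact absurd (hP.symm.trans h) hp.out.ne_one
    · exact h0
  letI : Fintype S.V := Fintype.ofFinite _
  letI : Fintype C := Fintype.ofFinite _
  -- the parametrisation of the centralizer
  let toC : ZMod p × S.V → C := fun a => ⟨pt S a, by
    rw [hCx, mem_centralizer_singleton_iff]; exact (pt_mem_centralizer S a).eq⟩
  have htoC : Function.Bijective toC := by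
    refine ⟨fun a c h => pt_injective S (congrArg Subtype.val h), fun c => ?_⟩
    have hc : Commute (c : G) S.x := mem_centralizer_singleton_iff.mp (hCx ▸ c.2)
    obtain ⟨i, v, hv, hiv⟩ := S.factor (c : G) hc
    refine ⟨((i : ZMod p), ⟨v, hv⟩), Subtype.ext ?_⟩
    show xp p S.x (i : ZMod p) * v = _
    rw [xp, ZMod.val_natCast, S.x_pow_mod, hiv]
  let ιV : S.V →* C :=
    { toFun := fun v => ⟨v, by rw [hCx, mem_centralizer_singleton_iff]
                               exact (S.commute v v.2).symm.eq⟩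
      map_one' := rfl
      map_mul' := fun _ _ => rfl }
  have hθpt : ∀ a : ZMod p × S.V, (θ : C → ℂ) (toC a) = (θ : C → ℂ) (ιV a.2) := by
    intro a
    obtain ⟨n, ρ, -, hρ⟩ := θ.2
    let y : C := toC (a.1, 1)
    have hy : (y : G) ∈ (P : Subgroup G) := by
      show pt S (a.1, 1) ∈ _
      rw [hPx, pt, OneMemClass.coe_one, mul_one]
      exact pow_mem (mem_zpowers _) _
    have h1 : ρ y = 1 := (Chars.rep_eq_one_iff ρ y).mpr (by rw [hρ]; exact hθP y hy)
    have h2 : toC a = y * ιV a.2 := Subtype.ext (by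
      show pt S a = pt S (a.1, 1) * (a.2 : G)
      simp [pt])
    rw [← hρ, h2]
    show LinearMap.trace ℂ _ (ρ (y * ιV a.2)) = _
    rw [map_mul, h1, one_mul]
    rfl
  -- the restriction to `V`
  have hchar := Chars.isCharacter_comp ιV (Chars.irr_isCharacter θ)
  let φ : IrrCharacter S.V := ⟨fun v => (θ : C → ℂ) (ιV v),
    (Chars.isIrrCharacter_iff_classInner_eq_one hchar).mpr (by
      have h := Chars.classInner_irr_self θ
      rw [classInner, ← Equiv.sum_comp (Equiv.ofBijective toC htoC),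
        ← Nat.card_congr (Equiv.ofBijective toC htoC), Nat.card_prod, Nat.card_zmod,
        Fintype.sum_prod_type] at h
      simp only [Equiv.ofBijective_apply, hθpt, sum_const, card_univ, ZMod.card, nsmul_eq_mul] at h
      rw [classInner]
      rw [Nat.cast_mul] at h
      field_simp at h ⊢
      rwa [mul_div_cancel_left₀ _ (Nat.cast_ne_zero.mpr hp.out.ne_zero)] at h)⟩
  have hdeg : charDegree (φ : S.V → ℂ) = charDegree (θ : C → ℂ) := by
    show ⌊((θ : C → ℂ) (ιV 1)).re⌋₊ = _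
    rw [map_one]
    rfl
  -- the induced central character
  have hφ : ∀ χ ∈ B, ∀ g, red M (centralChar (χ : G → ℂ) g) = indRed S M φ g := by
    intro χ hχ g
    obtain ⟨n, hn0, hn, hdvd⟩ := Chars.irr_degree_dvd_card φ
    have hnp : ¬ p ∣ n := fun h => S.coprime (h.trans hdvd)
    have hval : inducedCentralChar C (θ : C → ℂ) g =
        ∑ a ∈ univ.filter (fun a : ZMod p × S.V => IsConj g (pt S a)),
          (φ : S.V → ℂ) a.2 * ((n : ℂ))⁻¹ := by
      rw [inducedCentralChar, finsum_mem_eq_finite_toFinset_sum _ (Set.toFinite _)]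
      refine (sum_bij (fun a _ => toC a) (fun a ha => ?_) (fun a _ c _ h => htoC.1 h)
        (fun c hc => ?_) (fun a _ => ?_)).symm
      · rw [Set.Finite.mem_toFinset]
        exact (mem_filter.mp ha).2
      · simp only [Set.Finite.mem_toFinset] at hc
        obtain ⟨a, rfl⟩ := htoC.2 c
        exact ⟨a, mem_filter.mpr ⟨mem_univ _, hc⟩, rfl⟩
      · rw [hθpt, div_eq_mul_inv]
        congr 2
        show (n : ℂ) = (θ : C → ℂ) 1
        rw [← hn]
        show (θ : C → ℂ) (ιV 1) = _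
        rw [map_one]
    have hninv : ((n : ℂ))⁻¹ ∈ localRing M := Blocks.inv_natCast_mem_localRing hM hnp
    have hterm : ∀ v : S.V, (φ : S.V → ℂ) v * ((n : ℂ))⁻¹ ∈ localRing M := fun v =>
      mul_mem (isIntegral_mem_localRing (Chars.irr_isIntegral φ v)) hninv
    have h1 : red M (inducedCentralChar C (θ : C → ℂ) g) = red M (centralChar (χ : G → ℂ) g) :=
      (red_eq_iff (hval ▸ sum_mem fun a _ => hterm a.2)
        (isIntegral_mem_localRing (Blocks.centralChar_isIntegral χ g))).mpr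
        (hind.2.2 θ hθ χ hχ g)
    rw [← h1, hval, Glauberman.red_sum _ (fun a _ => hterm a.2), indRed]
    refine sum_congr rfl fun a _ => ?_
    rw [Glauberman.red_mul (isIntegral_mem_localRing (Chars.irr_isIntegral φ _)) hninv, hn]
    congr 1
    refine eq_inv_of_mul_eq_one_right ?_
    rw [← Glauberman.red_mul (natCast_mem _ _) hninv, mul_inv_cancel₀
      (Nat.cast_ne_zero.mpr (by omega)), Glauberman.red_one]
  -- the stabiliser
  have hnorm : ∀ g, g ∈ normalizer ((P : Subgroup G) : Set G) ↔ Nrm S g := by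
    intro g
    rw [hPx]
    constructor
    · exact fun h => (mem_normalizer_iff.mp h S.x).mp (mem_zpowers _)
    · intro h
      have hmap : (zpowers S.x).map (MulAut.conj g).toMonoidHom = zpowers S.x := by
        refine Subgroup.eq_of_le_of_card_ge ?_ ?_
        · rw [MonoidHom.map_zpowers, zpowers_le]
          exact h
        · rw [card_map_of_injective (MulAut.conj g).injective]
      rw [mem_normalizer_iff]
      intro y
      conv_rhs => rw [← hmap]
      show _ ↔ MulAut.conj g y ∈ _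
      exact (Subgroup.mem_map_iff_mem (MulAut.conj g).injective).symm
  have hTn : ∀ g, g ∈ T ↔ Nrm S g ∧ conjIrr S g φ = φ := by
    intro g
    rw [hT, hnorm]
    refine and_congr_right fun hg => ⟨fun h => ?_, fun h c c' hcc => ?_⟩
    · refine Subtype.ext (funext fun v => ?_)
      rw [conjIrr_apply S hg]
      exact h (ιV v) (ιV (conjV S hg v)) rfl
    · obtain ⟨a, rfl⟩ := htoC.2 c
      obtain rfl : c' = toC (move S hg a) := Subtype.ext (hcc.trans (pt_move S hg a).symm)
      rw [hθpt, hθpt]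
      show (φ : S.V → ℂ) (conjV S hg a.2) = (φ : S.V → ℂ) a.2
      conv_rhs => rw [← h, conjIrr_apply S hg]
  have hcN : Nat.card C = cN S := by rw [hCx]; exact DefectOne.card_centralizer_param S
  have hCT : C ≤ T := fun g hg => by
    rw [hTn]
    obtain ⟨h1, h2, -⟩ := DefectOne.conjIrr_centralizer S (hCx ▸ hg) φ
    exact ⟨h2, h1⟩
  have hcardT : Nat.card T = (stabExp S φ).card * cN S := by
    rw [show Nat.card T = ((nset S).filter fun g => conjIrr S g φ = φ).card from by
      rw [← Nat.card_eq_finsetCard]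
      exact Nat.card_congr (Equiv.subtypeEquivRight fun g => by
        rw [mem_filter, mem_nset]; exact hTn g),
      card_eq_sum_card_fiberwise (f := expo S) (t := stabExp S φ)
        (fun g hg => (mem_stabExp S).mpr
          ⟨g, (mem_nset S).mp (mem_filter.mp hg).1, rfl, (mem_filter.mp hg).2⟩),
      sum_congr rfl (g := fun _ => cN S) fun u hu => ?_, sum_const, smul_eq_mul]
    obtain ⟨g, hg, hgu, hgφ⟩ := (mem_stabExp S).mp hu
    rw [filter_filter, ← card_act_fiber S φ u φ ⟨g, hg, hgu, hgφ⟩]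
    exact congrArg Finset.card (filter_congr fun _ _ => and_comm)
  have hee : e = (stabExp S φ).card := by
    have h := Subgroup.card_mul_index (C.subgroupOf T)
    rw [Nat.card_congr (subgroupOfEquivOfLe hCT).toEquiv, hcN, hcardT,
      show (C.subgroupOf T).index = C.relIndex T from rfl, he, mul_comm _ (cN S)] at h
    exact Nat.eq_of_mul_eq_mul_left (hcN ▸ Nat.card_pos) h
  have hff : f = (fusion p S.x).card := by
    rw [← hf, hC]
    exact relIndex_centralizer P hP hx hx1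
  obtain ⟨A, Y, δ, ε, hBeq, hdisj, hcA, hcY, hε, hA, hY, hrel, -, -, -⟩ :=
    exists_block S hidx hM hB hd hφ
  rw [← hee] at hcA hcY
  have hfe : f / e = (phiOrbit S φ).card := by
    rw [hff, ← card_phiOrbit_mul S φ, hee]
    exact Nat.mul_div_cancel _ (card_pos.mpr ⟨1, one_mem_stabExp S φ⟩)
  refine ⟨hee ▸ card_stabExp_dvd S φ, ?_, A, Y, hBeq, Finset.disjoint_coe.mpr hdisj, ?_, ?_,
    fun χ hχ => ?_, ⟨-ε, by omega, fun ψ hψ => ?_⟩, fun ψ hψ ψ' hψ' g hg => ?_⟩
  · rw [Nat.card_coe_set_eq, hBeq, ← Finset.coe_union, Set.ncard_coe_finset,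
      card_union_of_disjoint hdisj, hcA, hcY]
  · rw [Nat.card_coe_set_eq, Set.ncard_coe_finset, hcA]
  · rw [Nat.card_coe_set_eq, Set.ncard_coe_finset, hcY]
  · have h := (hA χ hχ).2
    rw [hfe, ← hdeg]
    rcases (hA χ hχ).1 with h1 | h1
    · left; rwa [h1, mul_one] at h
    · right; rwa [h1, mul_neg, mul_one] at h
  · have h := hY ψ hψ
    rwa [hdeg, ← hff] at h
  · have h1 := hrel ψ hψ g hg
    have h2 := hrel ψ' hψ' g hg
    have hε0 : (ε : ℂ) ≠ 0 := by rcases hε with rfl | rfl <;> norm_num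
    exact mul_left_cancel₀ hε0 (by linear_combination h1 - h2)

end Galois

end Cfsg.Agent.Lib.DefectTwist
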